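import Cfsg.Agent.McLRecog.Amalgam

/-!
A group with this involution centraliser is the model unless the involution is central modulo the
odd core: the model would otherwise be a strongly embedded subgroup with too many involutions.
-/

set_option autoImplicit false

namespace Cfsg.Agent.McLRecog

open Cfsg Cfsg.Agent.Invol

variable {G : Type*} [Group G] [Finite G]

/-- The elements of odd order subgroup inverted by an involution lie in different cosets of the
fixed subgroup. -/
theorem inverted_mul_fixed_le (D : Subgroup G) (hD : Odd (Nat.card D)) (v : G)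
    (hn : ∀ x ∈ D, v * x * v⁻¹ ∈ D) :
    Nat.card {x : G // x ∈ D ∧ v * x * v⁻¹ = x⁻¹} *
      Nat.card (D ⊓ Subgroup.centralizer ({v} : Set G) : Subgroup G) ≤ Nat.card D := by
  classical
  rw [← Nat.card_prod]
  refine Nat.card_le_card_of_injective (fun p => (⟨p.1.1 * p.2.1, mul_mem p.1.2.1 p.2.2.1⟩ : D)) ?_
  rintro ⟨⟨a, haD, ha⟩, ⟨c, hc⟩⟩ ⟨⟨b, hbD, hb⟩, ⟨d, hd⟩⟩ h
  have h' : a * c = b * d := congrArg Subtype.val h
  have hcv : v * c * v⁻¹ = c :=
    mul_inv_eq_iff_eq_mul.2 (Subgroup.mem_centralizer_singleton_iff.1 hc.2).symm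
  have hdv : v * d * v⁻¹ = d :=
    mul_inv_eq_iff_eq_mul.2 (Subgroup.mem_centralizer_singleton_iff.1 hd.2).symm
  set r := c * d⁻¹ with hr
  have hbr : b = a * r := by rw [hr, ← mul_assoc, h', mul_inv_cancel_right]
  have hrv : v * r * v⁻¹ = r := by
    rw [hr, show v * (c * d⁻¹) * v⁻¹ = (v * c * v⁻¹) * (v * d * v⁻¹)⁻¹ by group, hcv, hdv]
  have hrD : r ∈ D := mul_mem hc.1 (inv_mem hd.1)
  have h1 : a⁻¹ * r = r⁻¹ * a⁻¹ := by
    have := hb
    rw [hbr, show v * (a * r) * v⁻¹ = (v * a * v⁻¹) * (v * r * v⁻¹) by group, ha, hrv, mul_inv_rev] at this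
    exact this
  -- `a` inverts `r`, so its square centralises `r`
  have h2 : a * r * a⁻¹ = r⁻¹ := by
    calc a * r * a⁻¹ = a * r * (a⁻¹ * r) * r⁻¹ := by group
      _ = a * r * (r⁻¹ * a⁻¹) * r⁻¹ := by rw [h1]
      _ = r⁻¹ := by group
  have h3 : (a * a) * r = r * (a * a) := by
    calc a * a * r = a * (a * r * a⁻¹) * a := by group
      _ = a * r⁻¹ * a := by rw [h2]
      _ = (a * r * a⁻¹)⁻¹ * a * a := by group
      _ = r * (a * a) := by rw [h2, inv_inv, mul_assoc]
  obtain ⟨m, hm⟩ : ∃ m : ℕ, (a * a) ^ m = a := by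
    have hodd : Odd (orderOf a) := Odd.of_dvd_nat hD (by
      rw [← Subgroup.orderOf_mk a haD]; exact orderOf_dvd_natCard _)
    obtain ⟨k, hk⟩ := hodd
    refine ⟨k + 1, ?_⟩
    rw [← pow_two, ← pow_mul, show 2 * (k + 1) = orderOf a + 1 by omega, pow_succ, pow_orderOf_eq_one,
      one_mul]
  have h4 : a * r = r * a := by
    have := Commute.pow_left (show Commute (a * a) r from h3) m
    rwa [hm] at this
  have h5 : r * r = 1 := by
    rw [h4, mul_inv_cancel_right] at h2
    calc r * r = r * r⁻¹ := by rw [← h2]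
      _ = 1 := mul_inv_cancel r
  have h6 : r = 1 := by
    have hodd : Odd (orderOf r) := Odd.of_dvd_nat hD (by
      rw [← Subgroup.orderOf_mk r hrD]; exact orderOf_dvd_natCard _)
    have h7 : orderOf r ∣ 2 := orderOf_dvd_of_pow_eq_one (by rw [pow_two, h5])
    rcases (Nat.dvd_prime Nat.prime_two).1 h7 with h8 | h8
    · exact orderOf_eq_one_iff.1 h8
    · rw [h8] at hodd; exact absurd hodd (by decide)
  have hab : a = b := by rw [hbr, h6, mul_one]
  subst hab
  have hcd : c = d := mul_left_cancel h'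
  subst hcd
  rfl

/-- An involution normalising a subgroup of odd order and inverting none of its non-trivial
three-elements centralises a Sylow subgroup for three. -/
theorem exists_fixed_sylow (D : Subgroup G) (hD : Odd (Nat.card D)) (v : G) (hv : orderOf v = 2)
    (hn : ∀ x ∈ D, v * x * v⁻¹ ∈ D)
    (hfree : ∀ x ∈ D, orderOf x = 3 → v * x * v⁻¹ ≠ x⁻¹) :
    3 ^ (Nat.card D).factorization 3 ∣
      Nat.card (D ⊓ Subgroup.centralizer ({v} : Set G) : Subgroup G) := by
  classical
  have := Fact.mk Nat.prime_three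
  let φ : D → D := fun x => ⟨_, hn x x.2⟩
  have hvv := Invol.mul_self_eq_one hv
  have hφ : ∀ x, φ (φ x) = x := fun x => Subtype.ext (by
    show v * (v * (x : G) * v⁻¹) * v⁻¹ = x
    rw [show v * (v * (x : G) * v⁻¹) * v⁻¹ = (v * v) * x * (v * v)⁻¹ by group, hvv]; group)
  let φe : D ≃* D :=
    { toFun := φ, invFun := φ, left_inv := hφ, right_inv := hφ
      map_mul' := fun a b => Subtype.ext (by
        show v * ((a : G) * b) * v⁻¹ = v * a * v⁻¹ * (v * b * v⁻¹)
        group) }
  let act : Sylow 3 D → Sylow 3 D := fun P =>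
    P.mapSurjective (f := φe.toMonoidHom) φe.surjective
  have hact : ∀ P, act (act P) = P := fun P => by
    apply Sylow.ext
    show (Subgroup.map _ (Subgroup.map _ (P : Subgroup D))) = (P : Subgroup D)
    rw [Subgroup.map_map]
    convert Subgroup.map_id _
    ext x
    exact congrArg Subtype.val (hφ x)
  have hodd : ¬ 2 ∣ Nat.card (Sylow 3 D) := by
    rw [← even_iff_two_dvd, Nat.not_even_iff_odd]
    exact Odd.of_dvd_nat hD (by
      rw [(default : Sylow 3 D).card_eq_index_normalizer]; exact Subgroup.index_dvd_card _)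
  have : Fintype (Sylow 3 D) := Fintype.ofFinite _
  obtain ⟨P, hP⟩ : ∃ P, act P = P := by
    have := Fact.mk Nat.prime_two
    let e : Equiv.Perm (Sylow 3 D) := ⟨act, act, hact, hact⟩
    have h2 : e ^ 2 ^ 1 = 1 := by
      rw [pow_one, pow_two]; exact Equiv.ext fun P => hact P
    obtain ⟨P, hP⟩ := Equiv.Perm.exists_fixed_point_of_prime (p := 2) (by
      rwa [Nat.card_eq_fintype_card] at hodd) h2
    exact ⟨P, hP⟩
  let Q : Subgroup G := (P : Subgroup D).map D.subtype
  have hQ : ∀ x ∈ Q, v * x * v⁻¹ = x := by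
    rintro _ ⟨⟨x, hxD⟩, hx, rfl⟩
    show v * x * v⁻¹ = x
    have hx' : φ ⟨x, hxD⟩ ∈ (P : Subgroup D) := by
      have : φe.toMonoidHom ⟨x, hxD⟩ ∈ ((act P : Sylow 3 D) : Subgroup D) :=
        Subgroup.mem_map_of_mem _ hx
      rwa [hP] at this
    set y := x⁻¹ * (v * x * v⁻¹) with hy
    have hyP : (⟨y, mul_mem (inv_mem hxD) (hn x hxD)⟩ : D) ∈ (P : Subgroup D) :=
      mul_mem (inv_mem hx) hx'
    have hyinv : v * y * v⁻¹ = y⁻¹ := by
      rw [hy, show v * (x⁻¹ * (v * x * v⁻¹)) * v⁻¹ = (v * x * v⁻¹)⁻¹ * ((v * v) * x * (v * v)⁻¹) by group,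
        hvv]
      group
    by_contra hne
    have hy1 : y ≠ 1 := fun h => hne (inv_mul_eq_one.1 h).symm
    obtain ⟨k, hk⟩ := P.2 ⟨_, hyP⟩
    have hk' : y ^ 3 ^ k = 1 := congrArg (fun z : (P : Subgroup D) => ((z : D) : G)) hk
    obtain ⟨j, hj1, hj2⟩ : ∃ j, y ^ 3 ^ j ≠ 1 ∧ y ^ 3 ^ (j + 1) = 1 := by
      induction k with
      | zero => exact absurd (by simpa using hk') hy1
      | succ k ih =>
        by_cases h : y ^ 3 ^ k = 1
        · exact ih (Subtype.ext (Subtype.ext h)) h
        · exact ⟨k, h, hk'⟩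
    refine hfree (y ^ 3 ^ j) (pow_mem (mul_mem (inv_mem hxD) (hn x hxD)) _)
      (orderOf_eq_prime ?_ hj1) ?_
    · rw [← pow_mul, ← pow_succ]; exact hj2
    · rw [← conj_pow, hyinv, inv_pow]
  have hQle : Q ≤ D ⊓ Subgroup.centralizer ({v} : Set G) := fun x hx =>
    ⟨by obtain ⟨y, -, rfl⟩ := hx; exact y.2,
      Subgroup.mem_centralizer_singleton_iff.2 (mul_inv_eq_iff_eq_mul.1 (hQ x hx)).symm⟩
  refine dvd_trans ?_ (Subgroup.card_dvd_of_le hQle)
  rw [Subgroup.card_map_of_injective D.subtype_injective, P.card_eq_multiplicity]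

variable (S : Setting G)

theorem model_facts {θ : M →* G} (hθ : ∀ x ∈ CT, θ x = S.fM x) :
    Function.Injective θ ∧ Subgroup.centralizer ({S.t} : Set G) ≤ θ.range := by
  refine ⟨?_, fun g hg => ?_⟩
  · rcases θ.normal_ker.eq_bot_or_eq_top with h | h
    · exact (MonoidHom.ker_eq_bot_iff θ).1 h
    · exfalso
      have h1 : θ t₀ = 1 := MonoidHom.mem_ker.1 (h ▸ Subgroup.mem_top _)
      rw [hθ _ t₀_CT, fM_t] at h1
      exact Invol.ne_one S.ord h1
  · obtain ⟨x, hx, rfl⟩ := exists_fM S (Subgroup.mem_centralizer_singleton_iff.1 hg)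
    exact ⟨x, hθ x hx⟩

theorem card_invol_model : Nat.card {i : M // orderOf i = 2} = 22275 := by
  have h := Invol.card_isConj_mul_card_centralizer (McL.tInv)
  rw [show Nat.card (Subgroup.centralizer ({McL.tInv} : Set M)) = 40320 from McL.card_centralizer,
    show Nat.card M = 898128000 from McL.card_mcl] at h
  have e : {i : M // orderOf i = 2} ≃ {y : M // IsConj McL.tInv y} :=
    Equiv.subtypeEquivRight fun i => ⟨McL.conj_tInv i, fun hi =>
      Invol.orderOf_eq_two_of_isConj hi McL.orderOf_tInv⟩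
  rw [Nat.card_congr e]
  exact Nat.eq_of_mul_eq_mul_right (by norm_num : 0 < 40320) (h.trans (by norm_num))

/-- Outside the isolated case the group is the model. -/
theorem nonempty_iso (hall : ∀ i : G, orderOf i = 2 → IsConj S.t i) : Nonempty (G ≃* Spor.McL) := by
  classical
  obtain ⟨θ, hθ⟩ := exists_hom (S := S) hall
  obtain ⟨hinj, hC⟩ := model_facts S hθ
  set K := θ.range
  by_cases htop : K = ⊤
  · exact ⟨(MulEquiv.ofBijective θ ⟨hinj, MonoidHom.range_eq_top.1 htop⟩).symm⟩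
  exfalso
  have hθt : θ t₀ = S.t := by rw [hθ _ t₀_CT, fM_t]
  have htK : S.t ∈ K := ⟨_, hθt⟩
  have lift2 : ∀ {x : M}, orderOf (θ x) = orderOf x := fun {x} => orderOf_injective θ hinj x
  -- strong embedding
  have se : ∀ (i g : G), orderOf i = 2 → i ∈ K → g * i * g⁻¹ ∈ K → g ∈ K := by
    intro i g hi hiK hgK
    obtain ⟨a, rfl⟩ := hiK
    obtain ⟨b, hb⟩ := hgK
    have ha2 : orderOf a = 2 := lift2 ▸ hi
    have hb2 : orderOf b = 2 := by rw [← lift2 (x := b), hb, Invol.orderOf_conj, hi]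
    obtain ⟨p, hp⟩ := isConj_iff.1 (McL.conj_tInv a ha2)
    obtain ⟨q, hq⟩ := isConj_iff.1 (McL.conj_tInv b hb2)
    have e1 : θ a = θ p * S.t * (θ p)⁻¹ := by rw [← hθt, ← hp]; simp [t₀]
    have e2 : θ b = θ q * S.t * (θ q)⁻¹ := by rw [← hθt, ← hq]; simp [t₀]
    have hm : (θ q)⁻¹ * g * θ p ∈ K := by
      refine hC (Subgroup.mem_centralizer_singleton_iff.2 ?_)
      rw [e2, e1] at hb
      calc (θ q)⁻¹ * g * θ p * S.t = (θ q)⁻¹ * (g * (θ p * S.t * (θ p)⁻¹) * g⁻¹) * g * θ p := by group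
        _ = (θ q)⁻¹ * (θ q * S.t * (θ q)⁻¹) * g * θ p := by rw [← hb]
        _ = _ := by group
    have := mul_mem (mul_mem (show θ q ∈ K from ⟨q, rfl⟩) hm) (inv_mem (show θ p ∈ K from ⟨p, rfl⟩))
    simpa [mul_assoc] using this
  have cle : ∀ i : G, orderOf i = 2 → i ∈ K → ∀ g, g * i = i * g → g ∈ K := fun i hi hiK g hg =>
    se i g hi hiK (by rw [hg, mul_inv_cancel_right]; exact hiK)
  -- counting
  let I : Set G := {i | orderOf i = 2}
  have hIK : Nat.card {i : G // orderOf i = 2 ∧ i ∈ K} = 22275 := by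
    rw [← card_invol_model]
    exact (Nat.card_eq_of_bijective
      (fun i : {i : M // orderOf i = 2} => (⟨θ i, lift2.trans i.2, i, rfl⟩ : {i : G // orderOf i = 2 ∧ i ∈ K}))
      ⟨fun a b e => Subtype.ext (hinj (congrArg Subtype.val e)),
        fun ⟨y, hy, x, hx⟩ => ⟨⟨x, by rw [← lift2 (x := x), hx, hy]⟩, Subtype.ext hx⟩⟩).symm
  have hIG : Nat.card {i : G // orderOf i = 2} = K.index * 22275 := by
    have h1 := Invol.card_isConj_mul_card_centralizer S.t
    have e : {i : G // orderOf i = 2} ≃ {y : G // IsConj S.t y} :=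
      Equiv.subtypeEquivRight fun i => ⟨hall i, fun hi => Invol.orderOf_eq_two_of_isConj hi S.ord⟩
    have h2 : Nat.card (Subgroup.centralizer ({S.t} : Set G)) = 40320 := by
      rw [← S.range, ← Nat.card_congr (MonoidHom.ofInjective S.inj).toEquiv]
      exact McL.card_centralizer
    have h3 : Nat.card K = 898128000 := by
      rw [← Nat.card_congr (MonoidHom.ofInjective hinj).toEquiv]; exact McL.card_mcl
    rw [h2, ← Nat.card_congr e, ← K.card_mul_index, h3] at h1
    omega
  obtain ⟨v, hv, hvK, hJ⟩ : ∃ v : G, orderOf v = 2 ∧ v ∉ K ∧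
      22275 ≤ Nat.card {i : G // orderOf i = 2 ∧ i * v⁻¹ ∈ K} := by
    by_contra hne
    push_neg at hne
    have := Fintype.ofFinite G
    have hidx : 1 < K.index := by
      rcases Nat.lt_or_ge 1 K.index with h | h
      · exact h
      · exfalso
        have : K.index ≠ 0 := Subgroup.index_ne_zero_of_finite
        exact htop (Subgroup.index_eq_one.1 (by omega))
    let r : G → Quotient (QuotientGroup.rightRel K) := Quotient.mk''
    have := Fintype.ofFinite (Quotient (QuotientGroup.rightRel K))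
    have hfib : ∀ q : Quotient (QuotientGroup.rightRel K),
        ((Finset.univ.filter fun i : G => orderOf i = 2).filter fun i => r i = q).card ≤ 22275 ∧
        (q ≠ r 1 → ((Finset.univ.filter fun i : G => orderOf i = 2).filter fun i => r i = q).card < 22275) := by
      intro q
      rcases ((Finset.univ.filter fun i : G => orderOf i = 2).filter fun i => r i = q).eq_empty_or_nonempty
        with he | ⟨i, hi⟩
      · rw [he]; simp
      · simp only [Finset.mem_filter, Finset.mem_univ, true_and] at hi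
        obtain ⟨hi2, rfl⟩ := hi
        have heq : ∀ j, r j = r i ↔ j * i⁻¹ ∈ K := fun j => by
          rw [Quotient.eq'', QuotientGroup.rightRel_apply]
          rw [← inv_mem_iff, mul_inv_rev, inv_inv]
        have hc : ((Finset.univ.filter fun j : G => orderOf j = 2).filter fun j => r j = r i).card =
            Nat.card {j : G // orderOf j = 2 ∧ j * i⁻¹ ∈ K} := by
          rw [Nat.card_eq_fintype_card, Fintype.card_subtype]
          congr 1
          ext j
          simp [heq]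
        by_cases hiK : i ∈ K
        · have hcard : Nat.card {j : G // orderOf j = 2 ∧ j * i⁻¹ ∈ K} = 22275 := by
            rw [← hIK]
            exact Nat.card_congr (Equiv.subtypeEquivRight fun j =>
              and_congr_right fun _ => K.mul_mem_cancel_right (inv_mem hiK))
          refine ⟨by omega, fun hq => absurd ?_ hq⟩
          exact ((heq 1).2 (by rw [one_mul]; exact inv_mem hiK)).symm
        · have := hne i hi2 hiK
          exact ⟨by omega, fun _ => by omega⟩
    have hsum := Finset.card_eq_sum_card_fiberwise (f := r)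
      (s := Finset.univ.filter fun i : G => orderOf i = 2) (t := Finset.univ) (fun _ _ => Finset.mem_univ _)
    have hI : (Finset.univ.filter fun i : G => orderOf i = 2).card = K.index * 22275 := by
      rw [← hIG, Nat.card_eq_fintype_card, Fintype.card_subtype]
    have hq : Fintype.card (Quotient (QuotientGroup.rightRel K)) = K.index := by
      rw [← Nat.card_eq_fintype_card, Subgroup.index]
      exact Nat.card_congr (QuotientGroup.quotientRightRelEquivQuotientLeftRel K)
    obtain ⟨q₀, hq₀⟩ : ∃ q₀, q₀ ≠ r 1 := Fintype.exists_ne_of_one_lt_card (by omega) (r 1)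
    have hlt : (∑ q, ((Finset.univ.filter fun i : G => orderOf i = 2).filter fun i => r i = q).card) <
        ∑ _q : Quotient (QuotientGroup.rightRel K), 22275 :=
      Finset.sum_lt_sum (fun q _ => (hfib q).1) ⟨q₀, Finset.mem_univ _, (hfib q₀).2 hq₀⟩
    rw [← hsum, hI, Finset.sum_const, Finset.card_univ, hq, smul_eq_mul] at hlt
    omega
  let D : Subgroup G := K ⊓ K.map (MulAut.conj v).toMonoidHom
  have hvinv := Invol.inv_eq_self hv
  have hmemD : ∀ x, x ∈ D ↔ x ∈ K ∧ v * x * v⁻¹ ∈ K := fun x => by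
    refine and_congr Iff.rfl ⟨?_, fun h => ⟨_, h, ?_⟩⟩
    · rintro ⟨y, hy, rfl⟩
      show v * (v * y * v⁻¹) * v⁻¹ ∈ K
      rwa [show v * (v * y * v⁻¹) * v⁻¹ = (v * v) * y * (v * v)⁻¹ by group, Invol.mul_self_eq_one hv,
        one_mul, inv_one, mul_one]
    · show v * (v * x * v⁻¹) * v⁻¹ = x
      rw [show v * (v * x * v⁻¹) * v⁻¹ = (v * v) * x * (v * v)⁻¹ by group, Invol.mul_self_eq_one hv,
        one_mul, inv_one, mul_one]
  have hDodd : Odd (Nat.card D) := by
    by_contra hev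
    rw [Nat.not_odd_iff_even, even_iff_two_dvd] at hev
    obtain ⟨x, hx⟩ := exists_prime_orderOf_dvd_card' 2 hev
    have hx' : orderOf (x : G) = 2 := by rw [Subgroup.orderOf_coe]; exact hx
    exact hvK (se x v hx' ((hmemD _).1 x.2).1 ((hmemD _).1 x.2).2)
  have hn : ∀ x ∈ D, v * x * v⁻¹ ∈ D := fun x hx => by
    obtain ⟨h1, h2⟩ := (hmemD x).1 hx
    refine (hmemD _).2 ⟨h2, ?_⟩
    rwa [show v * (v * x * v⁻¹) * v⁻¹ = (v * v) * x * (v * v)⁻¹ by group, Invol.mul_self_eq_one hv,
      one_mul, inv_one, mul_one]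
  have hfree : ∀ x ∈ D, orderOf x = 3 → v * x * v⁻¹ ≠ x⁻¹ := by
    intro x hx hx3 hvx
    obtain ⟨y, rfl⟩ := ((hmemD x).1 hx).1
    obtain ⟨i, hi, hic⟩ := exists_invol_commute (lift2 ▸ hx3 : orderOf y = 3)
    have hi' : orderOf (θ i) = 2 := lift2.trans hi
    have hix : θ i * θ y * (θ i)⁻¹ = θ y := by
      rw [← map_mul, hic, map_mul, mul_inv_cancel_right]
    let N : Subgroup G := Subgroup.normalizer (Subgroup.zpowers (θ y) : Set G)
    have hzN : ∀ g : G, (g * θ y * g⁻¹ = θ y ∨ g * θ y * g⁻¹ = (θ y)⁻¹) → g ∈ N := by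
      intro g hg
      have hmap : (Subgroup.zpowers (θ y)).map (MulAut.conj g).toMonoidHom = Subgroup.zpowers (θ y) := by
        rw [MonoidHom.map_zpowers]
        show Subgroup.zpowers (g * θ y * g⁻¹) = _
        rcases hg with h | h <;> rw [h]
        exact Subgroup.zpowers_inv
      refine Subgroup.mem_normalizer_iff.2 fun z => ⟨fun hz => ?_, fun hz => ?_⟩
      · rw [← hmap]; exact ⟨z, hz, rfl⟩
      · rw [← hmap] at hz
        obtain ⟨w, hw, e⟩ := hz
        have e' : g * w * g⁻¹ = g * z * g⁻¹ := e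
        rwa [← mul_left_cancel (mul_right_cancel e')]
    let iN : N := ⟨θ i, hzN _ (Or.inl hix)⟩
    let vN : N := ⟨v, hzN _ (Or.inr hvx)⟩
    have oi : orderOf iN = 2 := by rw [← Subgroup.orderOf_coe]; exact hi'
    have ov : orderOf vN = 2 := by rw [← Subgroup.orderOf_coe]; exact hv
    by_cases hc : IsConj iN vN
    · obtain ⟨m, hm⟩ := isConj_iff.1 hc
      have hmv : (m : G) * θ i * (m : G)⁻¹ = v := congrArg Subtype.val hm
      have hcm : ∀ z ∈ Subgroup.zpowers (θ y), v * z * v⁻¹ = z := by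
        intro z hz
        have hz' : (m : G)⁻¹ * z * m ∈ Subgroup.zpowers (θ y) := by
          rw [Subgroup.mem_normalizer_iff.1 m.2]
          simpa [mul_assoc] using hz
        obtain ⟨k, hk⟩ := hz'
        have hk' : θ i * ((m : G)⁻¹ * z * m) * (θ i)⁻¹ = (m : G)⁻¹ * z * m := by
          rw [← hk, ← conj_zpow, hix]
        rw [← hmv]
        calc (m : G) * θ i * (m : G)⁻¹ * z * ((m : G) * θ i * (m : G)⁻¹)⁻¹
            = m * (θ i * ((m : G)⁻¹ * z * m) * (θ i)⁻¹) * (m : G)⁻¹ := by group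
          _ = _ := by rw [hk']; group
      have h1 := hcm _ (Subgroup.mem_zpowers _)
      rw [hvx] at h1
      have h2 : orderOf (θ y) ∣ 2 := orderOf_dvd_of_pow_eq_one
        (by rw [pow_two]; nth_rewrite 1 [← h1]; rw [inv_mul_cancel])
      rw [hx3] at h2
      exact absurd h2 (by decide)
    · obtain ⟨-, w, hw, hwi, hwv, -⟩ := Invol.exists_central_of_not_isConj oi ov hc
      have hwi' : (w : G) * θ i = θ i * (w : G) := congrArg Subtype.val hwi.eq
      have hwv' : v * (w : G) = (w : G) * v := (congrArg Subtype.val hwv.eq).symm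
      have hwK := cle _ hi' ⟨i, rfl⟩ _ hwi'
      exact hvK (cle _ (by rw [Subgroup.orderOf_coe]; exact hw) hwK _ hwv')
  have hJle : Nat.card {i : G // orderOf i = 2 ∧ i * v⁻¹ ∈ K} ≤
      Nat.card {x : G // x ∈ D ∧ v * x * v⁻¹ = x⁻¹} := by
    have hspec : ∀ i : {i : G // orderOf i = 2 ∧ i * v⁻¹ ∈ K},
        (i : G) * v⁻¹ ∈ D ∧ v * ((i : G) * v⁻¹) * v⁻¹ = ((i : G) * v⁻¹)⁻¹ := by
      rintro ⟨i, hi, hiK⟩
      have e : v * (i * v⁻¹) * v⁻¹ = (i * v⁻¹)⁻¹ := by
        rw [mul_inv_rev, inv_inv, Invol.inv_eq_self hi, hvinv, mul_assoc, mul_assoc i,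
          Invol.mul_self_eq_one hv, mul_one]
      exact ⟨(hmemD _).2 ⟨hiK, e ▸ inv_mem hiK⟩, e⟩
    exact Nat.card_le_card_of_injective (fun i => ⟨(i : G) * v⁻¹, hspec i⟩)
      fun a b e => Subtype.ext (mul_right_cancel (congrArg Subtype.val e))
  have hmain := inverted_mul_fixed_le D hDodd v hn
  obtain ⟨c, hc⟩ := exists_fixed_sylow D hDodd v hv hn hfree
  have hDdvd : Nat.card D ∣ 898128000 := by
    have h3 : Nat.card K = 898128000 := by
      rw [← Nat.card_congr (MonoidHom.ofInjective hinj).toEquiv]; exact McL.card_mcl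
    rw [← h3]; exact Subgroup.card_dvd_of_le inf_le_left
  set f := (Nat.card D).factorization 3
  obtain ⟨d, hd⟩ : 3 ^ f ∣ Nat.card D := Nat.ordProj_dvd _ _
  have hd3 : ¬ 3 ∣ d := fun h => by
    obtain ⟨e, rfl⟩ := h
    refine Nat.pow_succ_factorization_not_dvd (Nat.card_pos (α := D)).ne' Nat.prime_three ⟨e, ?_⟩
    rw [pow_succ, mul_assoc]; exact hd
  have hd2 : ¬ 2 ∣ d := fun h => by
    refine Nat.not_even_iff_odd.2 hDodd ?_
    rw [hd, even_iff_two_dvd]; exact Dvd.dvd.mul_left h _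
  have hd9625 : d ∣ 9625 := by
    have h1 : d ∣ 3 ^ 6 * (2 ^ 7 * 9625) := Dvd.dvd.trans ⟨3 ^ f, by rw [hd, mul_comm]⟩ hDdvd
    exact (Nat.Coprime.pow_right 7 (Nat.prime_two.coprime_iff_not_dvd.2 hd2).symm).dvd_of_dvd_mul_left
      ((Nat.Coprime.pow_right 6 (Nat.prime_three.coprime_iff_not_dvd.2 hd3).symm).dvd_of_dvd_mul_left h1)
  have hpos : 0 < 3 ^ f := pow_pos (by norm_num) _
  have hcpos : 0 < c := Nat.pos_of_ne_zero fun h => by
    rw [h, mul_zero] at hc
    exact Nat.card_pos.ne' hc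
  rw [hc, hd] at hmain
  have hd_le : d ≤ 9625 := Nat.le_of_dvd (by norm_num) hd9625
  have h22 : 22275 * 3 ^ f ≤ 3 ^ f * d := by
    refine le_trans ?_ hmain
    refine Nat.mul_le_mul (hJ.trans hJle) ?_
    exact Nat.le_mul_of_pos_right _ hcpos
  nlinarith

end Cfsg.Agent.McLRecog
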