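import Cfsg.Agent.McLRecog.Local
import Cfsg.Agent.Core.Gaschutz

/-!
The homomorphism from the subgroup `2^4 A7` of the model extending the identification.
-/

set_option autoImplicit false

namespace Cfsg.Agent.McLRecog

open Cfsg Cfsg.Agent.Invol Cfsg.Agent.Compute Cfsg.Agent.StemCert

variable {G : Type*} [Group G] [Finite G] {S : Setting G} {Sd : Side} (Γ : Good S Sd)
  (hall : ∀ i : G, orderOf i = 2 → IsConj S.t i)
include hall

theorem exists_complement : ∃ A : Subgroup G, A ≤ Γ.N ∧ (∀ y ∈ A, y ∈ Γ.E → y = 1) ∧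
    (∀ n ∈ Γ.N, ∃ e ∈ Γ.E, ∃ a ∈ A, n = e * a) ∧ ∀ g < 2, S.fM (Sd.ge g) ∈ A := by
  classical
  let K : Subgroup Γ.N := Γ.E.subgroupOf Γ.N
  have : K.Normal := ⟨fun k hk n => N_conj Γ n.2 hk⟩
  have : IsMulCommutative K := ⟨⟨fun a b => by
    obtain ⟨i, hi, e1⟩ := gel_cases Γ a.2
    obtain ⟨j, hj, e2⟩ := gel_cases Γ b.2
    apply Subtype.ext; apply Subtype.ext
    show ((a : Γ.N) : G) * (b : Γ.N) = (b : Γ.N) * (a : Γ.N)
    simp only [Subgroup.coe_subtype] at e1 e2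
    rw [← e1, ← e2, gel_mul Γ hi hj, gel_mul Γ hj hi,
      show Nat.xor i j = Nat.xor j i from Nat.xor_comm i j]⟩⟩
  let U : Subgroup Γ.N := (Subgroup.centralizer ({S.t} : Set G)).subgroupOf Γ.N
  let A : Subgroup Γ.N := (S.im Sd.L).subgroupOf Γ.N
  have hKU : K ≤ U := fun x hx => Subgroup.mem_centralizer_singleton_iff.2 (im_le S (E_le_CT Γ.ok) hx)
  have hAU : A ≤ U := fun x hx => Subgroup.mem_centralizer_singleton_iff.2 (im_le S (L_le_CT Γ.ok) hx)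
  have hAK : A ⊓ K = ⊥ := by
    rw [eq_bot_iff]
    rintro x ⟨hxA, hxK⟩
    obtain ⟨a, ha, hax⟩ := (mem_im S (L_le_CT Γ.ok)).1 hxA
    obtain ⟨b, hb, hbx⟩ := (mem_im S (E_le_CT Γ.ok)).1 hxK
    have hab : a = b := fM_inj S (L_le_CT Γ.ok ha) (E_le_CT Γ.ok hb) (hax.trans hbx.symm)
    have h1 := L_disj Γ.ok ha (hab ▸ hb)
    rw [h1, fM_one] at hax
    exact Subgroup.mem_bot.2 (Subtype.ext hax.symm)
  have hKA : K ⊔ A = U := by
    refine le_antisymm (sup_le hKU hAU) fun u hu => ?_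
    obtain ⟨e, he, l, hl, hel⟩ := N_inf_C Γ u.2 (Subgroup.mem_centralizer_singleton_iff.1 hu)
    rw [fM_mul S (E_le_CT Γ.ok he) (L_le_CT Γ.ok hl)] at hel
    have heN : S.fM e ∈ Γ.N := E_le_N Γ ((mem_im S (E_le_CT Γ.ok)).2 ⟨e, he, rfl⟩)
    have hlN : S.fM l ∈ Γ.N := fNC_mem Γ (Subgroup.mem_sup_right hl)
    have : u = ⟨S.fM e, heN⟩ * ⟨S.fM l, hlN⟩ := Subtype.ext hel.symm
    rw [this]
    exact Subgroup.mul_mem_sup ((mem_im S (E_le_CT Γ.ok)).2 ⟨e, he, rfl⟩)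
      ((mem_im S (L_le_CT Γ.ok)).2 ⟨l, hl, rfl⟩)
  have hidx : U.index = 15 := by
    choose n hn hnt using fun i : Fin 15 => transitive Γ hall (show (i : ℕ) + 1 < 16 by omega) (by omega)
    let q : Fin 15 → Γ.N ⧸ U := fun i => QuotientGroup.mk ⟨n i, hn i⟩
    have hq : Function.Bijective q := by
      refine ⟨fun i j e => ?_, fun z => ?_⟩
      · have h1 := QuotientGroup.eq.1 e
        have h2 : (n i)⁻¹ * n j * S.t = S.t * ((n i)⁻¹ * n j) :=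
          Subgroup.mem_centralizer_singleton_iff.1 h1
        have h3 : Γ.el (j + 1) = Γ.el (i + 1) := by
          rw [← hnt i, ← hnt j]
          calc n j * S.t * (n j)⁻¹ = n i * ((n i)⁻¹ * n j * S.t) * (n j)⁻¹ := by group
            _ = n i * (S.t * ((n i)⁻¹ * n j)) * (n j)⁻¹ := by rw [h2]
            _ = _ := by group
        have := gel_inj Γ (by omega) (by omega) h3
        exact Fin.ext (by omega)
      · obtain ⟨m, rfl⟩ := QuotientGroup.mk_surjective z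
        obtain ⟨k, hk, hke⟩ := gel_cases Γ (N_conj Γ m.2 (gel_one Γ ▸ gel_mem Γ (show 1 < 16 by norm_num)))
        have hk0 : k ≠ 0 := fun e => by
          rw [e, gel_zero] at hke
          exact Invol.ne_one S.ord (conj_eq_one_iff.mp hke.symm)
        refine ⟨⟨k - 1, by omega⟩, QuotientGroup.eq.2 ?_⟩
        have hj : n ⟨k - 1, by omega⟩ * S.t * (n ⟨k - 1, by omega⟩)⁻¹ = (m : G) * S.t * (m : G)⁻¹ := by
          rw [hnt, ← hke]
          exact congrArg Γ.el (show k - 1 + 1 = k by omega)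
        refine Subgroup.mem_centralizer_singleton_iff.2 ?_
        show (n ⟨k - 1, by omega⟩)⁻¹ * (m : G) * S.t = S.t * ((n ⟨k - 1, by omega⟩)⁻¹ * (m : G))
        calc (n ⟨k - 1, by omega⟩)⁻¹ * (m : G) * S.t
            = (n ⟨k - 1, by omega⟩)⁻¹ * ((m : G) * S.t * (m : G)⁻¹) * (m : G) := by group
          _ = _ := by rw [← hj]; group
    rw [Subgroup.index, ← Nat.card_eq_of_bijective q hq, Nat.card_fin]
  have hK16 : Nat.card K = 16 := by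
    rw [Nat.card_congr (Subgroup.subgroupOfEquivOfLe (E_le_N Γ)).toEquiv, card_im S (E_le_CT Γ.ok),
      card_E Γ.ok]
  obtain ⟨H, hH⟩ := Core.gaschutz_exists hKU (by rw [hK16, hidx]; decide) hAU hAK hKA
  let A' : Subgroup G := H.map Γ.N.subtype
  have hA'N : A' ≤ Γ.N := by rintro _ ⟨x, -, rfl⟩; exact x.2
  have hdisj : ∀ y ∈ A', y ∈ Γ.E → y = 1 := by
    rintro _ ⟨x, hx, rfl⟩ hy
    have := Subgroup.disjoint_def.1 hH.disjoint (show x ∈ K from hy) hx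
    rw [this]; rfl
  have hdec : ∀ n ∈ Γ.N, ∃ e ∈ Γ.E, ∃ a ∈ A', n = e * a := by
    intro n hn
    obtain ⟨⟨k, a⟩, hka, -⟩ := hH.existsUnique ⟨n, hn⟩
    exact ⟨_, k.2, _, ⟨a, a.2, rfl⟩, (congrArg Subtype.val hka).symm⟩
  -- adjust so that it contains the lifted generators
  let B : Subgroup M :=
    { carrier := {x | x ∈ CT ∧ S.fM x ∈ A'}
      mul_mem' := fun ha hb => ⟨mul_mem ha.1 hb.1, by rw [fM_mul S ha.1 hb.1]; exact mul_mem ha.2 hb.2⟩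
      one_mem' := ⟨CT.one_mem, by rw [fM_one]; exact one_mem _⟩
      inv_mem' := fun ha => ⟨inv_mem ha.1, by rw [fM_inv S ha.1]; exact inv_mem ha.2⟩ }
  obtain ⟨k, hk, hkB⟩ := compl_conj Γ.ok B (fun x hx hxE => by
      refine fM_inj S hx.1 CT.one_mem ((hdisj _ hx.2 ((mem_im S (E_le_CT Γ.ok)).2 ⟨x, hxE, rfl⟩)).trans
        (fM_one S).symm))
    (fun g hg => by
      have hgC := ge_CT Γ.ok hg
      obtain ⟨e, he, a, ha, hea⟩ := hdec _ (fNC_mem Γ (Subgroup.mem_sup_right (ge_mem_L hg)))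
      obtain ⟨y, hy, rfl⟩ := (mem_im S (E_le_CT Γ.ok)).1 he
      refine ⟨y⁻¹, inv_mem hy, mul_mem (inv_mem (E_le_CT Γ.ok hy)) hgC, ?_⟩
      rw [fM_mul S (inv_mem (E_le_CT Γ.ok hy)) hgC, fM_inv S (E_le_CT Γ.ok hy), hea, inv_mul_cancel_left]
      exact ha)
  have hkC : k ∈ CT := E_le_CT Γ.ok hk
  set c := S.fM k
  have hcE : c ∈ Γ.E := (mem_im S (E_le_CT Γ.ok)).2 ⟨k, hk, rfl⟩
  have hcN : c ∈ Γ.N := E_le_N Γ hcE
  refine ⟨A'.map (MulAut.conj c⁻¹).toMonoidHom, ?_, ?_, ?_, ?_⟩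
  · rintro _ ⟨a, ha, rfl⟩
    exact mul_mem (mul_mem (inv_mem hcN) (hA'N ha)) (inv_mem (inv_mem hcN))
  · rintro _ ⟨a, ha, rfl⟩ hy
    have h1 : a ∈ Γ.E := by
      have := mul_mem (mul_mem hcE hy) (inv_mem hcE)
      simpa [mul_assoc] using this
    rw [hdisj a ha h1, map_one]
  · intro n hn
    obtain ⟨e, he, a, ha, hea⟩ := hdec _ (mul_mem (mul_mem hcN hn) (inv_mem hcN))
    refine ⟨c⁻¹ * e * c, mul_mem (mul_mem (inv_mem hcE) he) hcE, _, ⟨a, ha, rfl⟩, ?_⟩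
    show n = c⁻¹ * e * c * (c⁻¹ * a * c⁻¹⁻¹)
    calc n = c⁻¹ * (c * n * c⁻¹) * c := by group
      _ = _ := by rw [hea]; group
  · intro g hg
    obtain ⟨hmem, hA⟩ := hkB g hg
    refine ⟨_, hA, ?_⟩
    show c⁻¹ * S.fM (k * Sd.ge g * k⁻¹) * c⁻¹⁻¹ = _
    rw [fM_conj S hkC (ge_CT Γ.ok hg)]
    simp only [c, mul_assoc, inv_mul_cancel_left, inv_inv, inv_mul_cancel, mul_one]

/-- A map on the model extending the identification. -/
structure Ext where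
  dom : Subgroup M
  map : M → G
  map_mul : ∀ x ∈ dom, ∀ y ∈ dom, map (x * y) = map x * map y
  NC_le : Sd.NC Γ.ok ≤ dom
  x_mem : x₀ ∈ dom
  agree : ∀ x ∈ Sd.NC Γ.ok, map x = S.fM x

theorem exists_ext : Nonempty (Ext Γ) := by
  classical
  obtain ⟨A, hAN, hAdisj, hAdec, hAge⟩ := exists_complement Γ hall
  obtain ⟨b, hb, hbact⟩ := exists_action Γ hall
  obtain ⟨eb, heb, a, ha, rfl⟩ := hAdec b hb
  have hact : Conjs Γ.el a (Sd.act.getD 2 0) := by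
    intro k hk
    rw [← hbact k hk]
    obtain ⟨j, hj, hje⟩ := gel_cases Γ (N_conj Γ (hAN ha) (gel_mem Γ hk))
    obtain ⟨i, hi, rfl⟩ := gel_cases Γ heb
    calc a * Γ.el k * a⁻¹ = Γ.el j := hje.symm
      _ = Γ.el i * Γ.el j * (Γ.el i)⁻¹ := by
        rw [gel_mul Γ hi hj, show Nat.xor i j = Nat.xor j i from Nat.xor_comm i j, ← gel_mul Γ hj hi,
          mul_inv_cancel_right]
      _ = _ := by rw [hje]; group
  let γ : ℕ → G := fun g => [S.fM (Sd.ge 0), S.fM (Sd.ge 1), a].getD g 1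
  have hγ : ∀ g < 3, γ g ∈ A ∧ Conjs Γ.el (γ g) (Sd.act.getD g 0) := by
    intro g hg
    interval_cases g
    · exact ⟨hAge 0 (by norm_num), conjs_fM Γ (ge_CT Γ.ok (by norm_num)) (conjs_ge Γ.ok (by norm_num))⟩
    · exact ⟨hAge 1 (by norm_num), conjs_fM Γ (ge_CT Γ.ok (by norm_num)) (conjs_ge Γ.ok (by norm_num))⟩
    · exact ⟨ha, hact⟩
  let SA : Set (M × G) := (fun g => (Sd.ge g, γ g)) '' {g | g < 3}
  let SP : Set (M × G) := (fun i => (Sd.el i, Γ.el i)) '' {i | i < 16} ∪ SA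
  let D : Subgroup (M × G) := Subgroup.closure SP
  let DA : Subgroup (M × G) := Subgroup.closure SA
  have hgood : ∀ p ∈ DA, p.1 ∈ Sd.A ∧ p.2 ∈ A ∧
      ∀ k < 16, ∃ j < 16, p.1 * Sd.el k * p.1⁻¹ = Sd.el j ∧ p.2 * Γ.el k * p.2⁻¹ = Γ.el j := by
    intro p hp
    rw [← Subgroup.mem_toSubmonoid, Subgroup.closure_toSubmonoid_of_finite] at hp
    refine Submonoid.closure_induction (motive := fun (p : M × G) _ => p.1 ∈ Sd.A ∧ p.2 ∈ A ∧
      ∀ k < 16, ∃ j < 16, p.1 * Sd.el k * p.1⁻¹ = Sd.el j ∧ p.2 * Γ.el k * p.2⁻¹ = Γ.el j) ?_ ?_ ?_ hp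
    · rintro _ ⟨g, hg, rfl⟩
      exact ⟨ge_mem_A hg, (hγ g hg).1, fun k hk =>
        ⟨_, app_lt _ _, conjs_ge Γ.ok hg k hk, (hγ g hg).2 k hk⟩⟩
    · exact ⟨one_mem _, one_mem _, fun k hk => ⟨k, hk, by simp, by simp⟩⟩
    · rintro ⟨a1, b1⟩ ⟨a2, b2⟩ _ _ ⟨h1, h1', h1''⟩ ⟨h2, h2', h2''⟩
      refine ⟨mul_mem h1 h2, mul_mem h1' h2', fun k hk => ?_⟩
      obtain ⟨j, hj, e1, e2⟩ := h2'' k hk
      obtain ⟨i, hi, f1, f2⟩ := h1'' j hj
      refine ⟨i, hi, ?_, ?_⟩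
      · show a1 * a2 * Sd.el k * (a1 * a2)⁻¹ = _
        rw [← f1, ← e1]; group
      · show b1 * b2 * Γ.el k * (b1 * b2)⁻¹ = _
        rw [← f2, ← e2]; group
  have hform : ∀ p ∈ D, ∃ i < 16, ∃ q ∈ DA, p = (Sd.el i, Γ.el i) * q := by
    intro p hp
    rw [← Subgroup.mem_toSubmonoid, Subgroup.closure_toSubmonoid_of_finite] at hp
    refine Submonoid.closure_induction
      (motive := fun (p : M × G) _ => ∃ i < 16, ∃ q ∈ DA, p = (Sd.el i, Γ.el i) * q) ?_ ?_ ?_ hp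
    · rintro p (⟨i, hi, rfl⟩ | hp)
      · exact ⟨i, hi, 1, one_mem _, (mul_one _).symm⟩
      · refine ⟨0, by norm_num, p, Subgroup.subset_closure hp, ?_⟩
        rw [el_zero Γ.ok, gel_zero, show ((1 : M), (1 : G)) = 1 from rfl, one_mul]
    · refine ⟨0, by norm_num, 1, one_mem _, ?_⟩
      rw [el_zero Γ.ok, gel_zero, show ((1 : M), (1 : G)) = 1 from rfl, one_mul]
    · rintro p p' _ _ ⟨i, hi, q, hq, rfl⟩ ⟨i', hi', q', hq', rfl⟩
      obtain ⟨j, hj, e1, e2⟩ := (hgood q hq).2.2 i' hi'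
      refine ⟨_, xor_lt16 hi hj, q * q', mul_mem hq hq', Prod.ext ?_ ?_⟩
      · show Sd.el i * q.1 * (Sd.el i' * q'.1) = Sd.el (Nat.xor i j) * (q.1 * q'.1)
        rw [← el_mul Γ.ok hi hj, ← e1]; group
      · show Γ.el i * q.2 * (Γ.el i' * q'.2) = Γ.el (Nat.xor i j) * (q.2 * q'.2)
        rw [← gel_mul Γ hi hj, ← e2]; group
  let p1 : D →* M := (MonoidHom.fst M G).comp D.subtype
  have hinj : Function.Injective p1 := by
    rw [← MonoidHom.ker_eq_bot_iff, eq_bot_iff]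
    rintro ⟨p, hp⟩ (hker : p.1 = 1)
    obtain ⟨i, hi, q, hq, rfl⟩ := hform p hp
    obtain ⟨hq1, hq2, hq3⟩ := hgood q hq
    have hker' : Sd.el i * q.1 = 1 := hker
    have hqE : q.1 ∈ Sd.E Γ.ok := by
      rw [eq_inv_of_mul_eq_one_right hker']
      exact inv_mem (el_mem Γ.ok hi)
    have hq1' : q.1 = 1 := A_disj Γ.ok hq1 hqE
    rw [hq1', mul_one] at hker'
    have hi0 : i = 0 := el_inj Γ.ok hi (by norm_num) (hker'.trans (el_zero Γ.ok).symm)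
    have hq2' : q.2 = 1 := by
      refine hAdisj _ hq2 (E_self Γ fun y hy => ?_)
      obtain ⟨k, hk, rfl⟩ := gel_cases Γ hy
      obtain ⟨j, hj, e1, e2⟩ := hq3 k hk
      rw [hq1', one_mul, inv_one, mul_one] at e1
      rw [← el_inj Γ.ok hk hj e1] at e2
      exact mul_inv_eq_iff_eq_mul.1 e2
    refine Subgroup.mem_bot.2 (Subtype.ext (Prod.ext hker ?_))
    show Γ.el i * q.2 = 1
    rw [hq2', hi0, gel_zero, one_mul]
  let e := MonoidHom.ofInjective hinj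
  let ψ : p1.range →* G := ((MonoidHom.snd M G).comp D.subtype).comp e.symm.toMonoidHom
  let f : M → G := fun x => if hx : x ∈ p1.range then ψ ⟨x, hx⟩ else 1
  have hpair : ∀ {p : M × G}, p ∈ D → p.1 ∈ p1.range ∧ f p.1 = p.2 := by
    intro p hp
    have h1 : p.1 ∈ p1.range := ⟨⟨p, hp⟩, rfl⟩
    refine ⟨h1, ?_⟩
    have h2 : e ⟨p, hp⟩ = ⟨p.1, h1⟩ := Subtype.ext rfl
    simp only [f, dif_pos h1]
    show ((e.symm ⟨p.1, h1⟩ : D) : M × G).2 = p.2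
    rw [← h2, MulEquiv.symm_apply_apply]
  have hmul : ∀ x ∈ p1.range, ∀ y ∈ p1.range, f (x * y) = f x * f y := by
    intro x hx y hy
    simp only [f, dif_pos hx, dif_pos hy, dif_pos (mul_mem hx hy)]
    rw [← map_mul]; rfl
  have hLD : ∀ l ∈ Sd.L, (l, S.fM l) ∈ D := by
    intro l hl
    have key : ∀ l ∈ Sd.L, l ∈ CT ∧ (l, S.fM l) ∈ D := by
      intro l hl
      refine Subgroup.closure_induction (p := fun l _ => l ∈ CT ∧ (l, S.fM l) ∈ D) ?_ ?_ ?_ ?_ hl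
      · rintro _ ⟨g, hg, rfl⟩
        have hg2 : g < 2 := hg
        interval_cases g
        · exact ⟨ge_CT Γ.ok (g := 0) (by norm_num),
            Subgroup.subset_closure (Or.inr ⟨0, by norm_num, rfl⟩)⟩
        · exact ⟨ge_CT Γ.ok (g := 1) (by norm_num),
            Subgroup.subset_closure (Or.inr ⟨1, by norm_num, rfl⟩)⟩
      · exact ⟨CT.one_mem, by rw [fM_one]; exact D.one_mem⟩
      · rintro x y _ _ ⟨hx, hx'⟩ ⟨hy, hy'⟩
        exact ⟨mul_mem hx hy, by rw [fM_mul S hx hy]; exact D.mul_mem hx' hy'⟩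
      · rintro x _ ⟨hx, hx'⟩
        exact ⟨inv_mem hx, by rw [fM_inv S hx]; exact D.inv_mem hx'⟩
    exact (key l hl).2
  have hED : ∀ x ∈ Sd.E Γ.ok, (x, S.fM x) ∈ D := by
    rintro _ ⟨i, hi, rfl⟩
    exact Subgroup.subset_closure (Or.inl ⟨i, hi, rfl⟩)
  have hNC : ∀ x ∈ Sd.NC Γ.ok, x ∈ CT ∧ (x, S.fM x) ∈ D := by
    intro x hx
    refine ⟨NC_le_CT Γ.ok hx, ?_⟩
    obtain ⟨e, he, l, hl, rfl⟩ := nz_NC Γ.ok (NC_le_CT Γ.ok hx) fun e he => by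
      obtain ⟨y, hy, hye⟩ := (mem_im S (E_le_CT Γ.ok)).1
        (N_conj Γ (fNC_mem Γ hx) ((mem_im S (E_le_CT Γ.ok)).2 ⟨e, he, rfl⟩))
      rw [← fM_conj S (NC_le_CT Γ.ok hx) (E_le_CT Γ.ok he)] at hye
      rwa [← fM_inj S (E_le_CT Γ.ok hy)
        (mul_mem (mul_mem (NC_le_CT Γ.ok hx) (E_le_CT Γ.ok he)) (inv_mem (NC_le_CT Γ.ok hx))) hye]
    rw [fM_mul S (E_le_CT Γ.ok he) (L_le_CT Γ.ok hl)]
    exact D.mul_mem (hED e he) (hLD l hl)
  refine ⟨⟨p1.range, f, hmul, fun x hx => (hpair (hNC x hx).2).1, ?_, fun x hx => (hpair (hNC x hx).2).2⟩⟩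
  obtain ⟨hai, hge2⟩ := ge_two Γ.ok
  have hel : (Sd.el Sd.ai, S.fM (Sd.el Sd.ai)) ∈ D := hED _ (el_mem Γ.ok hai)
  have ha2 : (Sd.ge 2, γ 2) ∈ D := Subgroup.subset_closure (Or.inr ⟨2, by norm_num, rfl⟩)
  have := (hpair (D.mul_mem (D.inv_mem hel) ha2)).1
  rwa [show ((Sd.el Sd.ai, S.fM (Sd.el Sd.ai))⁻¹ * (Sd.ge 2, γ 2)).1 = x₀ by
    show (Sd.el Sd.ai)⁻¹ * Sd.ge 2 = x₀
    rw [hge2, inv_mul_cancel_left]; rfl] at this

end Cfsg.Agent.McLRecog
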