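import Cfsg.Agent.McLRecog.Presented
import Cfsg.Agent.McLRecog.Hom

/-!
The model maps into the group, extending the identification of the centralisers.
-/

set_option autoImplicit false
set_option maxRecDepth 4000

namespace Cfsg.Agent.McLRecog

open Cfsg Cfsg.Agent.Invol Cfsg.Agent.CosetCert Cfsg.Agent.StemCert

variable {G : Type*} [Group G] [Finite G] {S : Setting G}

theorem W₀_le_NC {Sd : Side} (h : Sd.Ok) : W₀ ≤ Sd.NC h :=
  (Subgroup.closure_le _).mpr fun _ ⟨g, hg, e⟩ => by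
    subst e
    have h3 : g < 3 := hg
    interval_cases g
    · exact memW_mem h (i := 0) (by norm_num)
    · exact memW_mem h (i := 1) (by norm_num)
    · exact memW_mem h (i := 2) (by norm_num)

theorem prod_map {D : Subgroup M} {f : M → G} (hf : ∀ x ∈ D, ∀ y ∈ D, f (x * y) = f x * f y)
    {F : Fin 4 → G} : ∀ l : List (Fin 4 × Bool), (∀ a ∈ l, gM a.1 ∈ D ∧ f (gM a.1) = F a.1) →
      (l.map fun a => bif a.2 then gM a.1 else (gM a.1)⁻¹).prod ∈ D ∧
      f (l.map fun a => bif a.2 then gM a.1 else (gM a.1)⁻¹).prod =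
        (l.map fun a => bif a.2 then F a.1 else (F a.1)⁻¹).prod := by
  have h1 : f 1 = 1 := by
    have := hf 1 (one_mem _) 1 (one_mem _)
    rw [mul_one] at this
    exact left_eq_mul.mp this
  intro l
  induction l with
  | nil => intro _; exact ⟨one_mem _, h1⟩
  | cons a l ih =>
    intro hl
    obtain ⟨hp, he⟩ := ih fun b hb => hl b (List.mem_cons_of_mem _ hb)
    obtain ⟨hg, hge⟩ := hl a (by simp)
    rcases a with ⟨g, b⟩
    simp only [List.map_cons, List.prod_cons]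
    cases b <;> simp only [cond_true, cond_false]
    · refine ⟨mul_mem (inv_mem hg) hp, ?_⟩
      rw [hf _ (inv_mem hg) _ hp, he]
      congr 1
      refine eq_inv_of_mul_eq_one_left ?_
      rw [← hge, ← hf _ (inv_mem hg) _ hg, inv_mul_cancel, h1]
    · refine ⟨mul_mem hg hp, ?_⟩
      rw [hf _ hg _ hp, he]
      exact congrArg (· * _) hge

theorem ext_W {Sd : Side} {Γ : Good S Sd} (e : Ext Γ) {w : M} (hw : w ∈ W₀)
    (hxw : x₀ * w * x₀⁻¹ ∈ W₀) : e.map x₀ * S.fM w = S.fM (x₀ * w * x₀⁻¹) * e.map x₀ := by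
  have h1 := W₀_le_NC Γ.ok hw
  have h2 := W₀_le_NC Γ.ok hxw
  rw [← e.agree _ h1, ← e.agree _ h2, ← e.map_mul _ e.x_mem _ (e.NC_le h1),
    ← e.map_mul _ (e.NC_le h2) _ e.x_mem]
  exact congrArg e.map (inv_mul_cancel_right _ _).symm

theorem x₀_W₀ {w : M} (hw : w ∈ W₀) : x₀ * w * x₀⁻¹ ∈ W₀ := by
  obtain ⟨hwC, hwv⟩ := W₀_spec.mp hw
  have h1 : (x₀ * w * x₀⁻¹) * v₀ = v₀ * (x₀ * w * x₀⁻¹) := by
    rw [← x₀_t]
    calc x₀ * w * x₀⁻¹ * (x₀ * t₀ * x₀⁻¹) = x₀ * (w * t₀) * x₀⁻¹ := by group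
      _ = x₀ * (t₀ * w) * x₀⁻¹ := by rw [mem_CT.mp hwC]
      _ = _ := by group
  have h2 : (x₀ * w * x₀⁻¹) * (t₀ * v₀) = (t₀ * v₀) * (x₀ * w * x₀⁻¹) := by
    rw [← x₀_v]
    calc x₀ * w * x₀⁻¹ * (x₀ * v₀ * x₀⁻¹) = x₀ * (w * v₀) * x₀⁻¹ := by group
      _ = x₀ * (v₀ * w) * x₀⁻¹ := by rw [hwv]
      _ = _ := by group
  refine W₀_spec.mpr ⟨mem_CT.mpr ?_, h1⟩
  have et : t₀ = t₀ * v₀ * v₀ := by rw [mul_assoc, v_facts.1, mul_one]
  generalize hy : x₀ * w * x₀⁻¹ = y at h1 h2 ⊢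
  calc y * t₀ = y * (t₀ * v₀ * v₀) := by rw [← et]
    _ = t₀ * v₀ * (y * v₀) := by rw [← mul_assoc, h2, mul_assoc]
    _ = t₀ * v₀ * v₀ * y := by rw [h1, ← mul_assoc]
    _ = t₀ * y := by rw [← et]

theorem exists_twist (eE : Ext (goodE S)) (eF : Ext (goodF S)) :
    ∃ c : G, (∀ x ∈ CT, c * S.fM x * c⁻¹ = S.fM x) ∧ c * eF.map x₀ * c⁻¹ = eE.map x₀ := by
  set X := eE.map x₀
  set Y := eF.map x₀
  have hv : v₀ ∈ W₀ := W₀_spec.mpr ⟨v_facts.2.2.2, rfl⟩
  have ht : t₀ ∈ W₀ := W₀_spec.mpr ⟨t₀_CT, (mem_CT.mp v_facts.2.2.2).symm⟩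
  have hd : ∀ w ∈ W₀, X⁻¹ * Y * S.fM w = S.fM w * (X⁻¹ * Y) := by
    intro w hw
    have a := ext_W eE hw (x₀_W₀ hw)
    have b := ext_W eF hw (x₀_W₀ hw)
    calc X⁻¹ * Y * S.fM w = X⁻¹ * (Y * S.fM w) := mul_assoc _ _ _
      _ = X⁻¹ * (S.fM (x₀ * w * x₀⁻¹) * Y) := by rw [b]
      _ = X⁻¹ * (S.fM (x₀ * w * x₀⁻¹) * X) * X⁻¹ * Y := by group
      _ = X⁻¹ * (X * S.fM w) * X⁻¹ * Y := by rw [a]
      _ = _ := by group
  have hdt : X⁻¹ * Y * S.t = S.t * (X⁻¹ * Y) := by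
    have := hd t₀ ht
    rwa [fM_t] at this
  obtain ⟨y, hy, hye⟩ := exists_fM S hdt
  have hyW : y ∈ W₀ := W₀_spec.mpr ⟨hy, fM_inj S (mul_mem hy v_facts.2.2.2) (mul_mem v_facts.2.2.2 hy)
    (by rw [fM_mul S hy v_facts.2.2.2, fM_mul S v_facts.2.2.2 hy, hye]; exact hd v₀ hv)⟩
  obtain ⟨d, hd4, hde⟩ := W₀_centre hyW fun w hw => by
    have hwC := (W₀_spec.mp hw).1
    refine fM_inj S (mul_mem hwC hy) (mul_mem hy hwC) ?_
    rw [fM_mul S hwC hy, fM_mul S hy hwC, hye]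
    exact (hd w hw).symm
  obtain ⟨k, hk, hke⟩ := x₀_fix hd4
  have hkW : sideE.el k ∈ W₀ := by
    interval_cases k
    · rw [el_zero sideE_ok]; exact one_mem _
    · rw [el_one sideE_ok]; exact ht
    · rw [el_two sideE_ok]; exact hv
    · rw [el_three sideE_ok]; exact mul_mem ht hv
  set e := S.fM (sideE.el k)
  have hkC := (W₀_spec.mp hkW).1
  have hY : Y = e * X * e := by
    have h1 : Y = X * S.fM (sideE.el d) := by
      rw [hde, hye, mul_inv_cancel_left]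
    have hdC : sideE.el d ∈ CT := el_CT (goodE S) (by omega)
    rw [h1]
    have hdN : sideE.el d ∈ sideE.NC sideE_ok := Subgroup.mem_sup_left (el_mem sideE_ok (by omega))
    have hkN : sideE.el k ∈ sideE.NC sideE_ok := Subgroup.mem_sup_left (el_mem sideE_ok (by omega))
    show eE.map x₀ * _ = _
    rw [← eE.agree _ hdN, ← eE.map_mul _ eE.x_mem _ (eE.NC_le hdN), hke,
      eE.map_mul _ (eE.NC_le hkN) _ (mul_mem eE.x_mem (eE.NC_le hkN)),
      eE.map_mul _ eE.x_mem _ (eE.NC_le hkN), eE.agree _ hkN, mul_assoc]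
  have he2 : e * e = 1 := im_elem S sideE_ok (gel_mem (goodE S) (show k < 16 by omega))
  have central : k < 2 → ∀ x ∈ CT, e * S.fM x * e⁻¹ = S.fM x := by
    intro hk2 x hx
    rcases (show k = 0 ∨ k = 1 by omega) with rfl | rfl
    · simp [e, el_zero sideE_ok, fM_one]
    · simp only [e, el_one sideE_ok, fM_t]
      rw [← fM_comm S hx, mul_inv_cancel_right]
  by_cases hk2 : k < 2
  · refine ⟨e, central hk2, ?_⟩
    show e * Y * e⁻¹ = X
    rw [hY, inv_eq_of_mul_eq_one_right he2]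
    calc e * (e * X * e) * e = (e * e) * X * (e * e) := by group
      _ = X := by rw [he2, one_mul, mul_one]
  exfalso
  obtain ⟨hτC, hτv, hτx⟩ := τ₀_facts
  have hinv : ∀ {Sd : Side} {Γ : Good S Sd} (e : Ext Γ),
      S.fM τ₀ * e.map x₀ * (S.fM τ₀)⁻¹ = (e.map x₀)⁻¹ := by
    intro Sd Γ e
    have hτN : τ₀ ∈ Sd.NC Γ.ok := memW_mem Γ.ok (i := 3) (by norm_num)
    have h1 : e.map 1 = 1 := by
      have := e.map_mul 1 (one_mem _) 1 (one_mem _)
      rw [mul_one] at this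
      exact left_eq_mul.mp this
    refine mul_inv_eq_iff_eq_mul.2 ?_
    have hh : τ₀ * x₀ = x₀⁻¹ * τ₀ := by rw [← hτx, inv_mul_cancel_right]
    rw [← e.agree _ hτN, ← e.map_mul _ (e.NC_le hτN) _ e.x_mem, hh,
      e.map_mul _ (inv_mem e.x_mem) _ (e.NC_le hτN)]
    refine congrArg (· * _) ?_
    refine eq_inv_of_mul_eq_one_left ?_
    rw [← e.map_mul _ (inv_mem e.x_mem) _ e.x_mem, inv_mul_cancel, h1]
  have hX := hinv eE
  have hY' := hinv eF
  have hτk : τ₀ * sideE.el k * τ₀⁻¹ = t₀ * sideE.el k := by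
    have e3 : τ₀ * t₀ * τ₀⁻¹ = t₀ := by rw [mem_CT.mp hτC, mul_inv_cancel_right]
    rcases (show k = 2 ∨ k = 3 by omega) with rfl | rfl
    · rw [el_two sideE_ok, hτv]
    · rw [el_three sideE_ok]
      calc τ₀ * (t₀ * v₀) * τ₀⁻¹ = (τ₀ * t₀ * τ₀⁻¹) * (τ₀ * v₀ * τ₀⁻¹) := by group
        _ = _ := by rw [e3, hτv]
  have hτe : S.fM τ₀ * e * (S.fM τ₀)⁻¹ = S.t * e := by
    rw [← fM_conj S hτC hkC, hτk, fM_mul S t₀_CT hkC, fM_t]
  have hte : e * S.t = S.t * e := fM_comm S hkC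
  have key : e * X⁻¹ * e = e * S.t * X⁻¹ * (S.t * e) := by
    have h1 : S.fM τ₀ * Y * (S.fM τ₀)⁻¹ = Y⁻¹ := hY'
    rw [hY] at h1
    rw [show (e * X * e)⁻¹ = e * X⁻¹ * e by
      rw [mul_inv_rev, mul_inv_rev, inv_eq_of_mul_eq_one_right he2]; group] at h1
    rw [← h1]
    calc S.fM τ₀ * (e * X * e) * (S.fM τ₀)⁻¹
        = (S.fM τ₀ * e * (S.fM τ₀)⁻¹) * (S.fM τ₀ * X * (S.fM τ₀)⁻¹) * (S.fM τ₀ * e * (S.fM τ₀)⁻¹) := by group
      _ = S.t * e * X⁻¹ * (S.t * e) := by rw [hτe, hX]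
      _ = _ := by rw [hte]
  have hXt : X⁻¹ = S.t * X⁻¹ * S.t := by
    have := congrArg (fun z => e⁻¹ * z * e⁻¹) key
    simpa [mul_assoc] using this
  have hcomm : X * S.t = S.t * X := by
    calc X * S.t = X * (S.t * X⁻¹ * S.t) * (S.t * X) := by
          rw [show X * (S.t * X⁻¹ * S.t) * (S.t * X) = X * S.t * X⁻¹ * (S.t * S.t) * X by group,
            Invol.mul_self_eq_one S.ord, mul_one, inv_mul_cancel_right]
      _ = X * X⁻¹ * (S.t * X) := by rw [← hXt]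
      _ = _ := by group
  have hXv : X * S.t = S.v * X := by
    have := ext_W eE ht (x₀_W₀ ht)
    rwa [x₀_t, fM_t] at this
  rw [hXv] at hcomm
  exact v_facts.2.2.1 (fM_inj S v_facts.2.2.2 t₀_CT ((mul_right_cancel hcomm).trans (fM_t S).symm))

/-- The homomorphism from the model. -/
theorem exists_hom (hall : ∀ i : G, orderOf i = 2 → IsConj S.t i) :
    ∃ θ : M →* G, ∀ x ∈ CT, θ x = S.fM x := by
  obtain ⟨eE⟩ := exists_ext (goodE S) hall
  obtain ⟨eF⟩ := exists_ext (goodF S) hall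
  obtain ⟨c, hc, hcX⟩ := exists_twist eE eF
  let F : Fin 4 → G := fun g => if g = 3 then eE.map x₀ else S.fM (gM g)
  have hF : ∀ g, g ≠ 3 → F g = S.fM (gM g) := fun g hg => if_neg hg
  have hF3 : F 3 = eE.map x₀ := if_pos rfl
  have hrel : ∀ r ∈ wordRels Data.rels, FreeGroup.lift F r = 1 := by
    intro r hr
    obtain ⟨l, hl, rfl⟩ := List.mem_map.1 hr
    rw [FreeGroup.lift_mk]
    have hone := rel_gM hl
    have hk := List.all_eq_true.1 rels_ok l hl
    simp only [Bool.and_eq_true, Bool.or_eq_true, avoids, List.all_eq_true, Bool.not_eq_true',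
      decide_eq_false_iff_not] at hk
    rcases hk.2 with (h | h) | h
    · obtain ⟨-, he⟩ := prod_map (D := CT) (f := S.fM) (fun x hx y hy => fM_mul S hx hy) (F := F) l
        fun a ha => ⟨gM_CT (h a ha), (hF _ (h a ha)).symm⟩
      rw [hone, fM_one] at he
      exact he.symm
    · have h0 : gM 0 ∈ sideE.NC sideE_ok := memW_mem sideE_ok (i := 4) (by norm_num)
      have h1 : gM 1 ∈ sideE.NC sideE_ok := memW_mem sideE_ok (i := 5) (by norm_num)
      obtain ⟨-, he⟩ := prod_map (D := eE.dom) (f := eE.map) eE.map_mul (F := F) l fun a ha => by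
        have hne := h a ha
        generalize a.1 = g at hne ⊢
        match g, hne with
        | 0, _ => exact ⟨eE.NC_le h0, by rw [eE.agree _ h0]; exact (hF 0 (by decide)).symm⟩
        | 1, _ => exact ⟨eE.NC_le h1, by rw [eE.agree _ h1]; exact (hF 1 (by decide)).symm⟩
        | 3, _ => rw [gM_three]; exact ⟨eE.x_mem, hF3.symm⟩
        | 2, hne => exact absurd rfl hne
      rw [hone] at he
      refine he.symm.trans ?_
      have := eE.map_mul 1 (one_mem _) 1 (one_mem _)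
      rw [mul_one] at this
      exact left_eq_mul.mp this
    · have h0 : gM 0 ∈ sideF.NC sideF_ok := memW_mem sideF_ok (i := 4) (by norm_num)
      have h2 : gM 2 ∈ sideF.NC sideF_ok := memW_mem sideF_ok (i := 5) (by norm_num)
      obtain ⟨-, he⟩ := prod_map (D := eF.dom) (f := fun x => c * eF.map x * c⁻¹)
        (fun x hx y hy => by rw [eF.map_mul x hx y hy]; group) (F := F) l fun a ha => by
        have hne := h a ha
        generalize a.1 = g at hne ⊢
        match g, hne with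
        | 0, _ => exact ⟨eF.NC_le h0, by rw [eF.agree _ h0, hc _ (gM_CT (by decide))]; exact (hF 0 (by decide)).symm⟩
        | 2, _ => exact ⟨eF.NC_le h2, by rw [eF.agree _ h2, hc _ (gM_CT (by decide))]; exact (hF 2 (by decide)).symm⟩
        | 3, _ => rw [gM_three]; exact ⟨eF.x_mem, hcX.trans hF3.symm⟩
        | 1, hne => exact absurd rfl hne
      rw [hone] at he
      refine he.symm.trans ?_
      have := eF.map_mul 1 (one_mem _) 1 (one_mem _)
      rw [mul_one] at this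
      rw [left_eq_mul.mp this]; group
  let φ : P →* G := PresentedGroup.toGroup hrel
  let e : P ≃* M := MulEquiv.ofBijective toM toM_bijective
  refine ⟨φ.comp e.symm.toMonoidHom, fun x hx => ?_⟩
  have hg : ∀ g : Fin 4, φ.comp e.symm.toMonoidHom (gM g) = F g := by
    intro g
    have : e.symm (gM g) = PresentedGroup.of g := e.symm_apply_eq.2 (toM_of g).symm
    show φ (e.symm (gM g)) = _
    rw [this]
    exact PresentedGroup.toGroup.of hrel
  have hx' := CT_le_closure hx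
  have key : x ∈ CT ∧ φ.comp e.symm.toMonoidHom x = S.fM x := by
    refine Subgroup.closure_induction (p := fun x _ => x ∈ CT ∧ φ.comp e.symm.toMonoidHom x = S.fM x)
      ?_ ⟨CT.one_mem, by rw [map_one, fM_one]⟩
      (fun a b _ _ ha hb => ⟨mul_mem ha.1 hb.1, by rw [map_mul, ha.2, hb.2, fM_mul S ha.1 hb.1]⟩)
      (fun a _ ha => ⟨inv_mem ha.1, by rw [map_inv, ha.2, fM_inv S ha.1]⟩) hx'
    intro y hy
    simp only [Set.mem_insert_iff, Set.mem_singleton_iff] at hy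
    rcases hy with rfl | rfl | rfl <;> refine ⟨gM_CT (by decide), ?_⟩ <;> rw [hg, hF _ (by decide)]
  exact key.2

end Cfsg.Agent.McLRecog
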