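import Cfsg.Agent.McL.Model

/-! Generated: tables for the recognition by the centraliser of an involution. -/

set_option maxRecDepth 100000

namespace Cfsg.Agent.McLRecog.Data

/-- The involution normalising both subgroups. -/
def tauW : List ℕ := [2,2,3,5,4,2,1,2,4,3,1,2]

/-- The element outside the centraliser. -/
def xW : List ℕ := [5,3,4,2,1,0,2,3,5,3,2,1,1,4,1,2,3,1,1]

/-- Its inverse. -/
def xiW : List ℕ := [0,2,1,0,1,4,1,5,5,1,3,2,4,1,2,1,1,2,1,1]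

/-- The first elementary subgroup. -/
def eEls : List (List ℕ) := [[],[1,3,4,2,5,4,2,3,1,4,3,1,2],[0,3,4,2,1,0,3,4,5,5,1,1,3,4,2,1,2,1,3,2,1,1],[0,3,4,2,1,0,4,5,1,2,5,3,1,4,2,4,2,2],[2,2,3,1,4,1,1,3,2],[1,3,4,2,5,3,4,3,2,4,1,2,2,3,1,1],[0,3,4,2,1,0,3,4,5,5,1,2,1,3,4,1,1,3,1],[0,3,4,2,1,0,4,5,1,2,5,3,4,2,4,3,2,2],[2,2,1,0,4,5,5,1,1,3,4,3,2,3],[2,2,1,0,1,2,5,2,5,1,2,3,1,4,3,2,3,1,2,1,1],[5,3,0,2,0,1,4,2,1,5,3,1,3,4,2,1,2,1,3,2],[5,3,0,2,0,2,4,5,3,5,1,1,3,2,4,2,3,1,1],[2,2,1,0,4,5,5,1,1,4,3,1,1,2],[2,2,1,0,1,2,5,2,5,1,2,1,3,4,1,3,1,2],[5,3,0,2,0,1,4,2,1,5,3,4,1,2,4,1,2,1,3,1,1],[5,3,0,2,0,2,4,5,3,5,3,2,4,1,2,3,1]]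

/-- The second elementary subgroup. -/
def fEls : List (List ℕ) := [[],[1,3,4,2,5,4,2,3,1,4,3,1,2],[0,3,4,2,1,0,3,4,5,5,1,1,3,4,2,1,2,1,3,2,1,1],[0,3,4,2,1,0,4,5,1,2,5,3,1,4,2,4,2,2],[1,2,5,5,1,4,2,3,2,1,1],[2,4,1,2,5,2,3,2,4,1,3,2,1,1,2,1],[0,3,4,2,1,0,1,5,2,2,5,3,4,1,2,1,4,1,3,2,1],[0,3,4,2,1,0,4,2,1,5,1,1,3,4,1,2,2,3,2],[4,3,0,5,5,4,1,1],[4,3,0,1,4,2,5,1,5,3,1,2,3,4],[5,1,2,1,0,1,4,2,5,1,5,4,1,4,2,4,1,2,2,3,1,1],[5,1,2,1,0,4,2,2,3,5,3,2,1,2,4,2,1,3,2],[4,3,0,1,1,2,5,5,4,1,1,3,2,4,3,1,2,3],[4,3,0,4,2,5,5,4,3,4,1,3,1,1],[5,1,2,1,0,5,2,5,5,3,2,1,4,3,1,2,2],[5,1,2,1,0,1,5,5,2,5,4,3,2,1,1,4,2,1,3]]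

/-- Their places in the Sylow subgroup. -/
def eT : List ℕ := [0,116,60,11,115,48,120,66,109,72,96,86,30,25,2,98]

/-- The same. -/
def fT : List ℕ := [0,116,60,11,51,39,4,63,119,124,47,57,42,64,122,121]

/-- The non-central involutions of the Sylow subgroup. -/
def invT : List ℕ := [2,4,11,25,30,39,42,47,48,51,57,60,63,64,66,72,73,75,78,82,86,96,98,100,105,106,108,109,115,119,120,121,122,124]

/-- Elements conjugating the chosen one to them. -/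
def invC : List (List ℕ) := [[5,5,2,5,2,4,2,1,2,4,2,1,3,1,2,1,1],[3,1,5,3,4,2,2,4,1,2,2,3],[3,5,4,1,1,3,2,4,2,3,2,2,1,1],[3,5,2,1,5,1,4,2,1,4,1,2,2,1,2,1,1],[1,2,5,1,5,4,3,2,2,1,4,3,2,2],[0,0,1,3,2,5,1,1,4,1,3,2,1,2,1],[1,1,2,1,5,4,2,2,4,1,2,1,3,2,1,1],[1,4,1,5,5,1,3,2,4,2,3,2,2,1,1],[4,3,0,4,1,5,5,4,2,1,4,2,3,2,1],[0,0,1,4,2,1,5,4,3,1,3,4,1,2,1,3,1,1],[3,4,5,5,2,4,3,2,4,2,1,2,1],[],[4,1,2,1,5,2,4,3,4,2,1,1],[4,5,1,2,5,4,2,4,3,4,2,1,1],[2,4,1,2,4,1,2,2,1,1,3,1],[1,2,5,1,5,4,1,1,3,2,4,1,2,2,1,2,1,1],[0,0,3,5,3,2,5,3,4,2,2,4,3,1,2,2,1],[0,0,5,1,4,2,5,1,2,3,4,1,3,1,1,2,1,1],[0,0,1,2,1,5,2,1,3,4,1,1,3,1,2,1,1],[0,0,1,1,5,2,5,1,3,2,1,4,3],[1,3,1,5,4,1,3,4,1,3,2,1,1,2,1],[1,1,5,4,2,2,4,2,2,1,1],[1,3,1,5,2,3,1,4,1,2,1,3,1,1],[3,1,5,2,1,3,2,1,4,1,1,3,1,1],[4,3,0,5,5,4,2,2,5,4,1,1,3,4,2,1,1,3,1,1],[4,3,0,3,1,5,1,4,2,2,4,2,1,3,2,1],[2,4,5,5,3,1,4,2,4,3,1,2,2,1],[3,5,2,1,5,1,1,2,1,4,2,1,1,2,1],[4,3,0,1,1,2,5,5,4,2,2,1,4,3,1,2,3],[2,2,1,5,5,4,3,2,2,1,4,1,3,1],[2,2,3,5,4,1,2,3,1,4,3,1,2],[2,3,2,5,5,4,2,1,1,4,1,2,2,1,1],[1,5,5,1,4,2,1,4,1,2,1,3,2],[2,4,2,5,1,4,2,1,4,3,1,2,1]]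

/-- Their commuting products. -/
def invMul : List (List ℕ) :=
  [
    [0,128,25,11,60,128,128,128,86,128,128,30,128,128,72,66,128,128,128,128,48,115,116,128,128,128,128,120,96,128,109,128,128,128],
    [128,0,39,128,128,11,47,42,128,60,64,51,116,57,128,128,128,128,128,128,128,128,128,106,108,100,105,128,128,122,128,124,119,121],
    [25,39,0,2,98,4,121,124,120,63,119,116,51,122,115,96,128,128,128,128,109,72,30,128,128,128,128,86,66,57,48,42,64,47],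
    [11,128,2,0,116,128,128,128,109,128,128,98,128,128,96,115,128,128,128,128,120,66,60,128,128,128,128,48,72,128,86,128,128,128],
    [60,128,98,116,0,128,128,128,72,128,128,2,128,128,86,48,128,128,128,128,66,120,11,128,128,128,128,115,109,128,96,128,128,128],
    [128,11,4,128,128,0,124,121,128,116,122,63,60,119,128,128,82,78,75,73,128,128,128,128,128,128,128,128,128,64,128,47,57,42],
    [128,47,121,128,128,124,0,4,128,119,63,122,57,116,128,128,128,128,128,128,128,128,128,128,128,128,128,128,128,51,128,11,60,39],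
    [128,42,124,128,128,121,4,0,128,122,116,119,64,63,128,128,128,128,128,128,128,128,128,128,128,128,128,128,128,60,128,39,51,11],
    [86,128,120,109,72,128,128,128,0,128,128,66,128,128,60,30,128,128,105,106,2,98,96,128,78,82,128,25,116,128,11,128,128,128],
    [128,60,63,128,128,116,119,122,128,0,121,4,11,124,128,128,78,82,73,75,128,128,128,128,128,128,128,128,128,42,128,57,47,64],
    [128,64,119,128,128,122,63,116,128,121,0,124,42,4,128,128,128,128,128,128,128,128,128,128,128,128,128,128,128,11,128,51,39,60],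
    [30,51,116,98,2,63,122,119,66,4,124,0,39,121,48,86,128,128,128,128,72,109,25,128,128,128,128,96,120,47,115,64,42,57],
    [128,116,51,128,128,60,57,64,128,11,42,39,0,47,128,128,128,128,128,128,128,128,128,105,100,108,106,128,128,121,128,119,124,122],
    [128,57,122,128,128,119,116,63,128,124,4,121,47,0,128,128,128,128,128,128,128,128,128,128,128,128,128,128,128,39,128,60,11,51],
    [72,128,115,96,86,128,128,128,60,128,128,48,128,128,0,2,100,108,128,128,30,25,109,73,128,128,75,98,11,128,116,128,128,128],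
    [66,128,96,115,48,128,128,128,30,128,128,86,128,128,2,0,128,128,128,128,60,11,120,128,128,128,128,116,25,128,98,128,128,128],
    [128,128,128,128,128,82,128,128,128,78,128,128,128,128,100,128,0,116,51,39,128,128,128,66,128,128,120,128,128,128,108,128,128,128],
    [128,128,128,128,128,78,128,128,128,82,128,128,128,128,108,128,116,0,39,51,128,128,128,120,128,128,66,128,128,128,100,128,128,128],
    [128,128,128,128,128,75,128,128,105,73,128,128,128,128,128,128,51,39,0,116,128,128,128,128,48,115,128,128,106,128,128,128,128,128],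
    [128,128,128,128,128,73,128,128,106,75,128,128,128,128,128,128,39,51,116,0,128,128,128,128,115,48,128,128,105,128,128,128,128,128],
    [48,128,109,120,66,128,128,128,2,128,128,72,128,128,30,60,128,128,128,128,0,116,115,128,128,128,128,11,98,128,25,128,128,128],
    [115,128,72,66,120,128,128,128,98,128,128,109,128,128,25,11,128,128,128,128,116,0,48,128,128,128,128,60,2,128,30,128,128,128],
    [116,128,30,60,11,128,128,128,96,128,128,25,128,128,109,120,128,128,128,128,115,48,0,128,128,128,128,66,86,128,72,128,128,128],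
    [128,106,128,128,128,128,128,128,128,128,128,128,105,128,73,128,66,120,128,128,128,128,128,0,63,4,116,128,128,128,75,128,128,128],
    [128,108,128,128,128,128,128,128,78,128,128,128,100,128,128,128,128,128,48,115,128,128,128,63,0,116,4,128,82,128,128,128,128,128],
    [128,100,128,128,128,128,128,128,82,128,128,128,108,128,128,128,128,128,115,48,128,128,128,4,116,0,63,128,78,128,128,128,128,128],
    [128,105,128,128,128,128,128,128,128,128,128,128,106,128,75,128,120,66,128,128,128,128,128,116,4,63,0,128,128,128,73,128,128,128],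
    [120,128,86,48,115,128,128,128,25,128,128,96,128,128,98,116,128,128,128,128,11,60,66,128,128,128,128,0,30,128,2,128,128,128],
    [96,128,66,72,109,128,128,128,116,128,128,120,128,128,11,25,128,128,106,105,98,2,86,128,82,78,128,30,0,128,60,128,128,128],
    [128,122,57,128,128,64,51,60,128,42,11,47,121,39,128,128,128,128,128,128,128,128,128,128,128,128,128,128,128,0,128,63,4,116],
    [109,128,48,86,96,128,128,128,11,128,128,115,128,128,116,98,108,100,128,128,25,30,72,75,128,128,73,2,60,128,0,128,128,128],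
    [128,124,42,128,128,47,11,39,128,57,51,64,119,60,128,128,128,128,128,128,128,128,128,128,128,128,128,128,128,63,128,0,116,4],
    [128,119,64,128,128,57,60,51,128,47,39,42,124,11,128,128,128,128,128,128,128,128,128,128,128,128,128,128,128,4,128,116,0,63],
    [128,121,47,128,128,42,39,11,128,64,60,57,122,51,128,128,128,128,128,128,128,128,128,128,128,128,128,128,128,116,128,4,63,0]]

/-- Multiplication by the centre. -/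
def tMul : List ℕ := [116,110,98,24,63,117,44,125,10,59,8,60,94,104,79,127,18,91,16,31,83,107,89,29,3,30,85,95,87,23,25,19,80,69,111,126,38,56,36,51,114,123,64,49,6,50,68,57,115,43,45,39,70,65,113,112,37,47,61,9,11,58,118,4,42,53,120,71,46,33,52,67,109,75,88,73,84,101,82,14,32,103,78,20,76,26,96,28,74,22,92,17,90,102,12,27,86,99,2,97,108,77,93,81,13,106,105,21,100,72,1,34,55,54,40,48,0,5,62,124,66,122,121,41,119,7,35,15]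

/-- Normality in the Sylow subgroup. -/
def eN : List (List ℕ) := [[0,1,3,2,6,7,5,4,12,13,15,14,10,11,9,8],[0,1,2,3,4,5,6,7,8,9,10,11,12,13,14,15],[0,1,2,3,6,7,4,5,11,10,9,8,13,12,15,14]]

/-- The same. -/
def fN : List (List ℕ) := [[0,1,3,2,5,4,6,7,14,15,13,12,11,10,8,9],[0,1,2,3,7,6,5,4,9,8,11,10,14,15,12,13],[0,1,2,3,6,7,4,5,11,10,9,8,13,12,15,14]]

/-- Generators of the centraliser of the four-group. -/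
def wGens : List (List ℕ) := [[5,3,2,1,0,5,2,1,5,5,2,4,1,2,4,1,3,1,1,2,1],[3,0,2,0,2,5,2,2,1,5,2,4,1,2,4,2,3,1,2,1,1],[3,0,1,2,1,0,2,2,1,1,5,2,1,2,4,3,2,3,1,2,1]]

/-- Its elements. -/
def wEls : List (List ℕ) :=
  [
    [],
    [5,3,2,1,0,5,2,1,5,5,2,4,1,2,4,1,3,1,1,2,1],
    [3,0,2,0,2,5,2,2,1,5,2,4,1,2,4,2,3,1,2,1,1],
    [3,0,1,2,1,0,2,2,1,1,5,2,1,2,4,3,2,3,1,2,1],
    [4,2,0,0,0,5,1,2,5,4,2,4,2,1,2],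
    [2,2,1,0,1,2,5,2,5,1,2,1,3,4,1,3,1,2],
    [1,0,0,2,3,0,4,5,2,5,1,4,3,1,1,4,1,2,1,3,2,1,1],
    [5,3,0,2,0,1,4,2,1,5,3,1,3,4,2,1,2,1,3,2],
    [0,0,1,4,2,5,2,4,3,1,2,4,1,2,1,3,2,1,1],
    [0,5,5,1,2,0,4,2,5,2,2,5,4,3,1,3,4,1,3,1,2],
    [0,2,2,5,0,4,2,5,3,2,5,1,4,3,1,1,4,2,2,1,2,1,1],
    [5,3,0,2,0,4,2,4,2,5,4,3,2,1,1,4,3,1,2,2],
    [5,2,0,0,0,2,2,1,5,2,4,2,1,4,1,2,1],
    [3,0,1,2,1,0,2,5,2,5,4,1,2,3,1,4,3,2,1,3,2],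
    [4,3,0,1,4,2,5,1,5,3,1,2,3,4],
    [0,0,2,5,2,2,5,3,2,2,1,4,3,2,3,1,2,1],
    [0,2,2,5,0,4,5,4,2,5,4,1,2,3,4,3,1,2,2,3,1,1],
    [0,0,4,1,3,2,5,3,1,4,1,2,2,1,2],
    [4,3,0,4,2,5,5,4,3,4,1,3,1,1],
    [2,0,2,0,0,2,2,3,5,1,3,4,3,2,1,2],
    [1,2,5,5,1,4,2,3,2,1,1],
    [0,2,3,1,0,5,3,5,3,4,1,2,4,3,2,1,3,2,1,1],
    [0,2,3,1,0,1,5,2,2,5,4,1,1,3,4,1,3,1,2],
    [0,5,4,2,0,0,5,5,3,2,5,1,4,3,1,2,2],
    [1,3,4,2,5,4,2,3,1,4,3,1,2],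
    [1,0,0,2,0,0,4,2,2,1,5,1,2,3,4,1,3,2,1,1,2,1,1],
    [2,4,0,2,0,0,4,1,3,2,5,4,2,1,2,4,2,1,2,2,1],
    [2,4,0,2,0,0,1,1,2,1,5,1,4,2,4,2,3,1,1],
    [0,3,4,2,1,0,4,2,1,5,1,1,3,4,1,2,2,3,2],
    [5,3,2,1,0,2,4,5,3,2,5,4,3,4,1,2,3,1,2,1],
    [5,1,2,1,0,5,2,5,5,3,2,1,4,3,1,2,2],
    [0,2,3,1,0,1,5,2,2,5,1,3,1,4,3,2,1,3,2,1,1],
    [4,2,0,0,0,2,3,5,2,2,1,4,3,2,2,1],
    [0,2,3,1,0,5,3,5,4,2,2,1,4,1,3,2,1,2,2],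
    [5,1,2,1,0,1,4,2,5,1,5,4,1,4,2,4,1,2,2,3,1,1],
    [3,4,2,0,0,4,5,2,5,2,1,1,4,1,1,3,1,2,1,1],
    [0,3,4,2,1,0,4,5,1,2,5,3,1,4,2,4,2,2],
    [0,2,2,5,0,5,4,2,5,2,3,1,1,4,2,2,1,2,1,1],
    [5,3,0,2,0,2,4,5,3,5,1,1,3,2,4,2,3,1,1],
    [5,2,0,0,0,1,1,2,5,3,4,1,2,4,1,1,3,1,2,1,1],
    [2,0,2,0,0,1,5,2,3,5,3,4,3,2,4,2,1,2,1,3,2,1,1],
    [2,0,0,2,1,0,3,2,5,5,2,4,1,4,2,4,2,1,1,2,1],
    [3,4,2,0,0,1,5,4,2,5,4,2,4,3,4,1,2,3,1,2],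
    [0,5,4,2,0,0,1,5,2,5,4,2,3,1,4,3,2,3,1,2,1,1],
    [1,0,0,2,0,0,2,1,5,4,1,1,3,4,1,3,1],
    [0,3,4,2,1,0,4,5,1,2,5,3,4,2,4,3,2,2],
    [5,3,2,1,0,2,2,5,4,3,4,3,1,3,2,1,1],
    [5,1,2,1,0,1,4,2,5,1,5,4,3,2,2,1,4,1,2,1,1,2,1],
    [0,5,4,2,0,0,1,5,2,2,5,1,2,3,1,4,2,1,2,3,1,1],
    [1,0,0,2,0,0,1,3,4,2,5,3,4,3,4,3,1,2,2,3],
    [2,0,2,0,0,2,2,5,3,2,5,2,4,1,2,4,1,3,2,1,2],
    [2,0,0,2,1,0,5,1,5,1,1,4,2,4,1,3,2,1,2,2],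
    [3,4,2,0,0,4,5,2,5,3,1,3,4,2,2,1,2,2,1,1],
    [1,0,0,2,3,0,2,1,2,5,1,4,2,1,4,3,2,3,1,2,1],
    [5,0,0,0,2,0,1,1,5,2,1,1,4,2,2,1,2,2],
    [4,2,0,0,0,2,2,5,5,1,4,2,4,1,3,1,2,1,1],
    [5,3,2,1,0,2,4,5,3,2,5,2,4,3,2,1,1,4,3,1,2,1],
    [3,0,2,0,4,2,5,1,5,3,2,1,1,4,1,2,2,1,2],
    [3,0,1,2,1,0,5,1,2,5,1,5,4,1,1,3,4,3,2,2],
    [2,0,0,2,1,0,2,1,3,1,5,1,2,1,3,4,1,1,3,2,1],
    [3,0,2,0,5,2,1,5,5,2,1,4,2,4,1,2,3],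
    [0,3,4,2,1,0,4,2,1,5,4,3,2,1,4,1,3,2,1,2,1],
    [2,2,1,0,4,5,5,1,1,4,3,1,1,2],
    [5,0,0,0,2,0,4,1,5,5,2,4,1,2,4,1,3,2],
    [3,0,2,0,1,4,5,2,5,2,2,1,1,4,2,3,1,1],
    [3,0,1,2,1,0,5,2,1,5,5,3,1,1,4,1,2,1,3,1],
    [0,5,5,1,2,0,1,3,4,2,5,3,2,2,1,4,3,1,2,2],
    [5,3,0,2,0,1,5,4,2,4,3,4,3,2,1,2,3,1],
    [1,0,0,2,0,0,1,3,4,2,5,1,4,2,4,3,2,3,1],
    [5,1,2,1,0,4,2,2,3,5,1,4,3,1,2,4,1,3,1,1,2,1],
    [0,5,4,2,0,0,1,5,2,2,5,1,2,1,4,2,3],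
    [1,0,0,2,0,0,2,1,5,3,4,2,2,4,1,2,2,1,2,1],
    [5,1,2,1,0,1,5,5,2,5,2,3,1,1,4,1,3,1,2,1,1],
    [0,5,4,2,0,0,1,5,2,5,2,1,4,2,4,2,1,1,3,1],
    [0,5,4,2,0,0,2,1,2,5,1,2,4,3,2,1,2,3,1],
    [4,2,0,0,0,2,4,5,3,5,4,2,1,1,4,2,1,1,3,2,1,1],
    [2,2,1,0,3,1,2,1,5,2,1,3,4,2,3,2,2],
    [1,0,0,2,3,0,4,2,5,2,2,5,2,2,4,2,4,2,3,2,1],
    [1,0,0,2,0,0,4,2,2,1,5,2,4,2,1,2,4,1],
    [3,0,2,0,5,2,1,5,5,1,3,4,2,1,2,3,1],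
    [2,0,0,2,1,0,3,2,5,5,2,1,4,1,2,2,1,1],
    [2,4,1,2,5,3,1,3,4,1,3,2,1,2],
    [4,3,0,1,1,2,5,5,3,2,3,1,1,4,1,3,1],
    [3,0,2,0,2,5,2,2,1,5,2,4,1,1,3,1,2,1,1],
    [2,0,0,2,1,0,2,1,3,1,5,4,2,1,4,1,2,2,3,1],
    [5,2,0,0,0,2,2,1,5,2,3,2,4,2,2,3,1],
    [0,5,5,1,2,0,3,5,3,2,5,1,1,4,2,4,1,2,3,1,2,1,1],
    [0,2,2,5,0,4,2,5,3,2,5,2,1,1,4,2,1,2,1,1],
    [0,3,4,2,1,0,3,4,5,5,1,2,1,3,4,1,1,3,1],
    [0,2,3,1,0,1,4,1,2,5,4,3,4,2,4,1,1,3,1,2,1,1],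
    [4,2,0,0,0,2,2,5,5,3,4,2,4,3,2,3,1,2],
    [0,2,3,1,0,4,2,5,2,2,5,4,2,2,1,4,1,3,2,1,2,2],
    [0,3,4,2,1,0,1,5,2,2,5,4,3,4,2,4,3,2,1,1,2],
    [1,0,0,2,3,0,4,2,5,2,2,5,3,2,1,1,4,2,2,1,2,1,1],
    [4,2,0,0,0,2,4,5,3,5,3,1,2,4,1,3,2,1,1,2],
    [5,0,0,0,2,0,2,2,5,2,2,5,4,2,1,4,3,2,1,3,1],
    [2,2,1,2,0,5,1,4,2,1,5,1,1,2,1,4,2,3,1,2,1,1],
    [2,2,1,0,1,2,5,2,5,1,2,3,1,4,3,2,3,1,2,1,1],
    [5,2,0,0,0,2,2,1,1,5,1,2,3,4,1,2,2,3,2,1,1],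
    [0,2,2,5,0,4,5,4,2,5,4,2,4,3,2,1,2,1],
    [5,0,0,0,2,0,2,2,5,2,2,5,1,2,4,2,4,2,1,2,2],
    [0,5,5,1,2,0,4,2,5,1,5,1,1,4,1,2,1,1,2,1,1],
    [2,4,0,2,0,0,1,4,2,4,2,5,2,1,1,2,1,4,1,2,1,1,2],
    [3,0,1,2,1,0,5,1,2,5,1,5,3,1,2,4,2,1,1,3,2,1],
    [1,0,0,2,3,0,2,1,2,5,2,3,1,4,1],
    [2,0,2,0,0,2,2,5,3,2,5,2,3,2,4,3,2,1,2,1,1],
    [2,2,1,0,3,1,2,1,5,4,3,4,2,4,1,3,2,1,1,2,1,1],
    [5,0,0,0,2,0,1,1,5,2,4,3,1,2,4,1,2,1,3,1],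
    [0,5,5,1,2,0,4,2,5,2,2,5,1,1,4,1,3,2,1,2,2,1,1],
    [5,3,0,2,0,1,4,2,1,5,3,4,1,2,4,1,2,1,3,1,1],
    [5,0,0,0,2,0,5,1,4,2,5,1,1,3,4,2,2,1,1],
    [5,0,0,0,2,0,5,1,4,2,5,2,1,4,2,4,3,1,2,1,1],
    [2,2,1,2,0,1,5,3,2,5,4,3,2,2,1,4,3,1,2,3,1],
    [2,2,1,0,5,2,2,5,5,2,1,4,2,4,3,2,1,1,2,1],
    [0,5,5,1,2,0,3,5,3,2,5,4,3,2,1,4,1,3,2,1,2,2,1],
    [2,2,1,2,0,1,5,3,2,5,2,2,4,3,1,2,1],
    [2,2,1,2,0,5,1,4,2,1,5,2,3,1],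
    [1,3,4,2,5,3,4,3,2,4,1,2,2,3,1,1],
    [4,3,0,5,5,3,2,1,2,4,1,3,2,1,2,1],
    [5,3,0,2,0,1,5,1,4,2,1,4,2,3,2,1,1],
    [0,0,2,5,3,2,5,3,2,4,1,3,2],
    [0,5,5,1,2,0,1,3,4,2,5,2,1,4,2,1,3,2,1,2,1],
    [2,2,1,2,0,4,2,3,5,1,4,2,2,4,3,1],
    [5,3,0,2,0,4,2,4,2,5,4,2,2,1,4,3,1],
    [0,5,5,1,2,0,4,2,5,1,5,2,4,2,1,2,4,3,1,2],
    [3,0,1,2,1,0,2,2,1,1,5,2,4,1,2,4,3,2,1,1,2,1,1],
    [0,5,4,2,0,0,2,1,2,5,4,3,2,2,1,4,1,1,3,1],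
    [5,3,2,1,0,5,2,1,5,5,1,2,3,1,4,2,2,3,2,1],
    [2,2,1,2,0,4,2,5,3,2,5,3,1,4,2,4,3,1,3,2],
    [1,0,0,2,3,0,2,2,1,1,5,2,3,4,2,2,1,1,2,1,1],
    [0,2,2,5,0,1,3,2,5,3,1,4,2,4,1,1,3,2],
    [5,2,0,0,0,1,1,2,5,5,2,4,2,1,4,2,2,1,1],
    [2,4,0,2,0,0,1,4,2,4,2,5,1,4,2,4,2,2,1,1,2],
    [5,2,0,0,0,2,2,1,1,5,2,4,2,2,1,4,1,3,2],
    [2,4,0,2,0,0,5,2,1,5,2,1,1,2,1,4,3,1,3,2],
    [0,2,3,1,0,4,2,5,2,2,5,3,4,1,2,4,3,2,1,3,2,1,1],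
    [0,2,3,1,0,1,4,1,2,5,2,3,2,1,4,2,2,1,1,3],
    [2,4,0,2,0,0,4,1,3,2,5,2,1,4,2,2,3,2],
    [3,4,2,0,0,2,5,2,1,1,5,4,3,2,2,1,4,1,3,1],
    [1,0,0,2,0,0,4,1,2,1,5,2,2,1,1,4,1,2,2,1,1,3],
    [3,4,2,0,0,4,2,4,2,5,1,2,3,4,3,2,3,1,1],
    [2,0,2,0,0,4,1,3,2,5,3,1,4,2,4,3,2,1,2,1],
    [1,2,5,5,2,3,1,4,1,2,2,1,1,3],
    [4,3,0,4,2,5,5,1,4,3,1,2,4,2,2,1,1,2,1,1],
    [0,0,4,1,3,2,5,1,3,2,1,4,1,3,1,1],
    [0,0,2,5,2,2,5,1,2,4,1,3,2,1,2,2],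
    [4,3,0,1,4,2,5,1,5,2,4,1,4,2,4,1,3,1,2,3],
    [2,2,3,1,4,1,1,3,2],
    [2,4,0,2,0,0,1,1,2,1,5,1,2,3,1,4,3,1,3,2,1,1],
    [5,3,2,1,0,2,5,5,2,1,5,2,3,4,1,2,1,3,2,1],
    [0,0,1,4,2,5,4,1,2,3,1,4,2,2,3],
    [2,2,1,2,0,4,2,3,5,2,4,1,2,4,2,1,2,3],
    [2,4,0,2,0,0,5,2,1,5,4,1,3,4,1,3,1,1,2],
    [5,1,2,1,0,5,2,5,5,4,3,4,2,1,1,3,2,1,1],
    [4,3,0,5,5,4,1,1],
    [2,0,0,2,1,0,2,1,5,2,5,2,4,1,4,2,4,2,1,3],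
    [3,0,1,2,1,0,5,2,1,5,5,2,1,2,4,1,1],
    [5,3,2,1,0,2,2,5,3,4,1,2,1,4,3,1,2,2,3],
    [2,0,2,0,0,1,5,2,3,5,3,1,4,3,1],
    [0,5,4,2,0,0,5,5,3,2,5,2,3,2,1,4,2,1,3,2,1,2,1],
    [4,3,0,1,1,2,5,5,4,1,1,3,2,4,3,1,2,3],
    [2,4,1,2,5,2,3,2,4,1,3,2,1,1,2,1],
    [1,0,0,2,3,0,4,5,2,5,4,1,1,3,4,3,2,1,3,2,1,1],
    [4,2,0,0,0,5,1,2,5,4,2,1,2,4,2,1,1,2,1],
    [0,2,2,5,0,1,3,2,5,3,1,4,2,1,1,3,2],
    [2,2,1,2,0,4,2,5,3,2,5,1,3,1,4,3,2,1],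
    [0,0,2,5,3,2,5,3,2,1,4,3,2],
    [5,2,0,0,0,1,1,2,5,5,1,4,2,4,1,3,1,1,2,1],
    [3,0,2,0,1,4,5,2,5,1,1,3,4,1,2,3,1],
    [2,0,0,2,1,0,2,1,5,2,5,2,2,3,1,4,1,3,1,1,2,1,1],
    [2,0,0,2,1,0,5,1,5,1,2,3,1,4,1,2,1,1,2],
    [4,2,0,0,0,2,3,5,2,3,2,1,4,3,2,2,1],
    [5,2,0,0,0,1,1,2,5,4,1,2,4,1,1,3,1,2,1,1],
    [2,2,1,0,5,2,2,5,5,4,1,4,2,4,2,1,3,2,1,1],
    [3,0,2,0,4,2,5,1,5,1,1,3,4,1,3,1,1],
    [2,0,2,0,0,4,1,3,2,5,2,4,3,4,2,1,3,1],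
    [0,3,4,2,1,0,1,5,2,2,5,3,4,1,2,1,4,1,3,2,1],
    [5,1,2,1,0,1,5,5,2,5,4,3,2,1,1,4,2,1,3],
    [5,1,2,1,0,4,2,2,3,5,3,2,1,2,4,2,1,3,2],
    [0,3,4,2,1,0,3,4,5,5,1,1,3,4,2,1,2,1,3,2,1,1],
    [3,4,2,0,0,4,2,4,2,5,4,2,2,1,4,3,2,1,2,1,1],
    [5,3,0,2,0,2,4,5,3,5,3,2,4,1,2,3,1],
    [3,4,2,0,0,1,5,4,2,5,3,4,1,2,1,4,1,3,2,1,2,2,1,1],
    [1,0,0,2,0,0,4,1,2,1,5,3,4,2,3,2,1,1],
    [5,0,0,0,2,0,4,1,5,5,4,3,2,1,4,3,2,1,1],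
    [2,2,1,0,4,5,5,1,1,3,4,3,2,3],
    [2,0,2,0,0,2,2,3,5,3,1,2,1,4,1,2,2,1,1,3],
    [3,4,2,0,0,2,5,2,1,1,5,1,3,2,1,4,3,1,1],
    [5,3,2,1,0,2,5,5,2,1,5,1,3,2,4,1,3,1,2,3,1,1],
    [3,0,1,2,1,0,2,5,2,5,3,4,2,2,4,3,2,3,1,2,1,1],
    [1,0,0,2,3,0,2,2,1,1,5,4,1,3,4,1,1,3,1],
    [0,2,2,5,0,5,4,2,5,2,4,2,2,1,4,1,2,2,1,2,1]]

/-- Its table. -/
def wNext : List (List ℕ) := [[1,2,3],[4,5,6],[7,8,9],[10,11,12],[0,13,14],[15,16,17],[18,19,20],[21,4,22],[23,24,25],[26,12,27],[28,29,30],[31,32,33],[34,35,36],[37,38,39],[40,41,42],[43,0,44],[45,46,47],[48,20,49],[50,51,52],[53,54,55],[56,57,58],[2,45,59],[60,61,41],[62,21,63],[46,64,65],[66,27,67],[68,69,70],[71,72,73],[3,74,1],[75,76,77],[42,78,40],[79,28,80],[81,65,82],[83,36,84],[52,68,50],[85,86,87],[58,73,56],[88,1,69],[89,90,91],[72,42,92],[93,63,94],[95,96,97]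,[98,66,99],[5,89,100],[101,102,11],[103,43,29],[90,62,104],[35,49,105],[106,22,107],[108,26,109],[6,110,4],[111,112,113],[12,114,10],[82,50,81],[115,104,116],[117,58,118],[94,106,93],[119,120,121],[99,109,98],[54,122,76],[123,17,124],[125,126,127],[8,37,120],[128,129,122],[38,15,86],[130,67,131],[132,133,134],[135,75,136],[9,137,7],[138,139,19],[76,31,54],[124,132,123],[140,44,141],[97,136,95],[113,135,111],[142,3,143],[144,130,145],[146,40,147],[121,148,119],[11,144,101],[100,116,5],[149,79,13],[19,84,138],[109,150,108],[107,151,106],[47,52,45],[152,131,102],[61,56,153],[13,23,149],[64,88,51],[24,103,154],[57,92,155],[156,48,157],[14,158,0],[20,125,18],[116,93,115],[80,154,79],[145,99,144],[30,140,28],[36,157,34],[96,77,112],[148,39,137],[78,153,159],[16,7,133],[160,105,161],[162,111,163],[17,164,15],[112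,53,96],[137,85,148],[33,163,31],[122,162,128],[151,6,165],[84,160,83],[166,10,150],[134,167,132],[59,82,2],[41,118,60],[157,168,156],[141,169,140],[91,94,89],[126,161,139],[102,98,152],[170,18,168],[22,171,21],[27,172,26],[87,123,85],[173,91,110],[163,97,162],[169,14,174],[118,175,117],[176,149,177],[178,138,179],[25,30,23],[153,180,61],[139,34,126],[174,176,169],[168,179,170],[49,178,48],[167,9,164],[114,152,181],[39,124,37],[129,95,32],[29,174,103],[105,170,35],[70,142,68],[73,147,71],[158,80,182],[127,83,125],[44,177,43],[32,113,129],[159,117,78],[51,143,64],[183,47,74],[182,25,158],[175,155,180],[184,128,185],[164,119,167],[55,185,53],[77,184,75],[185,33,184],[186,59,187],[188,60,189],[143,186,142],[147,189,146],[92,188,72],[155,146,57],[74,81,183],[69,187,88],[181,145,114],[63,165,62],[110,115,173],[161,156,160],[177,182,176],[120,87,8],[67,166,66],[190,100,171],[65,70,46],[180,71,175],[187,183,186],[189,159,188],[172,101,191],[136,55,135],[133,121,16],[86,134,38],[165,190,151],[150,191,166],[104,107,90],[131,108,130],[171,173,190],[191,181,172],[154,141,24],[179,127,178]]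

/-- Its tree. -/
def wTree : List (ℕ × ℕ) := [(0,0),(0,0),(0,1),(0,2),(1,0),(1,1),(1,2),(2,0),(2,1),(2,2),(3,0),(3,1),(3,2),(4,1),(4,2),(5,0),(5,1),(5,2),(6,0),(6,1),(6,2),(7,0),(7,2),(8,0),(8,1),(8,2),(9,0),(9,2),(10,0),(10,1),(10,2),(11,0),(11,1),(11,2),(12,0),(12,1),(12,2),(13,0),(13,1),(13,2),(14,0),(14,1),(14,2),(15,0),(15,2),(16,0),(16,1),(16,2),(17,0),(17,2),(18,0),(18,1),(18,2),(19,0),(19,1),(19,2),(20,0),(20,1),(20,2),(21,2),(22,0),(22,1),(23,0),(23,2),(24,1),(24,2),(25,0),(25,2),(26,0),(26,1),(26,2),(27,0),(27,1),(27,2),(28,1),(29,0),(29,1),(29,2),(30,1),(31,0),(31,2),(32,0),(32,2),(33,0),(33,2),(35,0),(35,1),(35,2),(37,0),(38,0),(38,1),(38,2),(39,2),(40,0),(40,2),(41,0),(41,1),(41,2),(42,0),(42,2),(43,2),(44,0),(44,1),(45,0),(46,2),(47,2),(48,0),(48,2),(49,0),(49,2),(50,1),(51,0),(51,1),(51,2),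(52,1),(54,0),(54,2),(55,0),(55,2),(57,0),(57,1),(57,2),(59,1),(60,0),(60,2),(61,0),(61,1),(61,2),(63,0),(63,1),(65,0),(65,2),(66,0),(66,1),(66,2),(67,0),(67,2),(68,1),(69,0),(69,1),(72,0),(72,2),(75,0),(75,2),(76,0),(76,2),(77,0),(77,2),(78,1),(81,0),(83,1),(84,1),(86,0),(87,2),(90,2),(91,2),(92,0),(92,2),(93,1),(102,2),(104,0),(104,2),(105,0),(105,2),(106,1),(111,2),(113,0),(114,1),(117,1),(118,1),(122,0),(123,1),(124,1),(126,0),(128,2),(129,1),(130,0),(130,2),(131,0),(131,2),(133,1),(139,2),(146,2),(152,0),(155,0),(155,2),(160,0),(160,2),(161,0),(161,2),(175,0),(180,2)]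

/-- Elements giving all conjugates of the chosen involution. -/
def vConj : List (List ℕ) :=
  [
    [],
    [1,4,3,1,1,4,1,3,1,1,2,1,1],
    [4,3,1,1,4,3,2,1,2],
    [2,4,1,2,4,1,2,2,1,1,3,1],
    [5,1,3,1,5,3,1,4,2,3,2,2,1,1],
    [5,1,3,1,5,1,3,1,4,1,1,3,2,1],
    [5,1,3,1,5,3,4,3,4,3,1,3,2,1,1],
    [5,1,3,1,5,3,2,1,2,4,1,2,2,1,1],
    [3,4,5,5,3,1,1,4,3,2,2],
    [3,4,5,5,2,4,3,2,4,2,1,2,1],
    [3,4,5,5,2,3,2,1,4,2,1,3,2],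
    [1,4,1,5,5,3,1,2,4,3,1,2,1,1],
    [1,4,1,5,5,1,3,2,4,2,3,2,2,1,1],
    [5,5,1,3,1,4,2,2,1,2,2],
    [5,5,3,4,3,4,2,1,1,3,1,1],
    [5,5,3,1,4,3,1,2,2,3],
    [5,5,2,2,3,1,4],
    [1,3,1,5,4,1,3,4,1,3,2,1,1,2,1],
    [1,3,1,5,1,4,3,1,1,4,2,2,1,1,3,1],
    [1,3,1,5,2,3,1,4,1,2,1,3,1,1],
    [5,4,5,1,5,3,1,2,1,4,1,2,1],
    [5,4,5,1,5,3,2,3,1,1,4,3,2,3,1],
    [5,4,5,1,5,2,1,1,4,2,1,2,1,3,2,1,1],
    [5,4,5,1,5,4,2,2,4,1,2,1,1,2],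
    [3,4,3,5,2,4,2,1,4,2,1,2,1],
    [3,4,3,5,1,1,3,2,4,2,1,3,1],
    [3,4,3,5,3,2,4,3,2,1,2,3],
    [3,4,3,5,3,2,2,1,4,3,1],
    [5,3,5,1,4,1,1,3],
    [5,3,5,1,1,3,4,1,3,1,2,1],
    [5,3,5,4,3,4,1,2,3,1,1],
    [5,3,5,1,4,1,2,1,4,3,2,1,3,1,1],
    [3,1,5,2,1,3,4,1,2,3,1],
    [3,1,5,2,1,3,2,1,4,1,1,3,1,1],
    [3,1,5,3,4,2,2,4,1,2,2,3],
    [3,1,5,3,2,1,1,4,3,1,1,2,1,1],
    [1,1,5,4,2,2,4,2,2,1,1],
    [1,1,5,1,3,2,1,4,2,3,1],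
    [1,5,5,1,2,1,4,1,1,2,1],
    [1,5,5,2,4,3,4,3,1,3,2,1,1],
    [1,5,5,3,2,1,2,4,3],
    [1,5,5,1,4,2,1,4,1,2,1,3,2],
    [1,5,1,4,1,2,1,4,1,2,3,1,2,1,1],
    [1,5,3,4,1,2,1,4,1,3,2,1,2,2,1],
    [1,5,2,4,1,2,4,1,3,1,1,2,1],
    [4,1,5,5,3,4,2,4,3,2,2,1,1],
    [4,1,5,5,2,4,2,4,2,1,1,3,2,1],
    [4,1,5,5,2,4,3,4,1,3,2,1,1,2,1],
    [4,1,5,5,4,3,4,2,4,2,1,2,2],
    [3,5,4,1,1,3,2,4,2,3,2,2,1,1],
    [3,5,4,3,2,2,1,4,2,3,1,2],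
    [3,5,2,2,4,2,4,1,2,2,1,1,3,1,1],
    [4,3,5,3,1,1,4,1,2,1,3,1,1],
    [4,3,5,3,2,1,2,2,1,1],
    [4,3,5,2,4,3,2,4,2,2,1,1,2,1],
    [4,3,5,4,1,3,4,3,1,2,2,1],
    [5,1,5,1,1,3,4,2,1,1,3,2,1],
    [5,1,5,1,4,2,1,1,3],
    [4,5,3,5,3,4,3,4,1,2,2],
    [4,5,3,5,2,1,1,2,1,4,3,2,1,1,2,1],
    [2,4,5,5,3,1,4,2,4,3,1,2,2,1],
    [2,4,5,5,1,3,1,4,1,2,2,3,2,1,1],
    [2,4,5,5,2,1,4,1,2,1,4,3,1,2,1,1],
    [2,2,5,5,4,3,2,2,1,4,1,2,2,3],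
    [2,2,5,5,4,2,2,1,4,3,2,1],
    [2,2,3,5,1,1,4,2,4,1,3,2,1,1,2],
    [2,2,3,5,4,1,2,3,1,4,3,1,2],
    [5,5,2,5,2,1,1,2,1,4,1,2,1,1,2,1,1],
    [5,5,2,5,2,4,2,1,2,4,2,1,3,1,2,1,1],
    [1,1,2,1,5,3,2,4,3,2,1,3,1],
    [1,1,2,1,5,4,2,2,1,4,3,1,1,2],
    [1,1,2,1,5,4,2,2,4,1,2,1,3,2,1,1],
    [1,1,2,1,5,4,3,2,2,1,4,2,2,1],
    [2,1,1,5,3,1,4,1,1,2,1],
    [2,1,1,5,3,4,3,4,1,1,3,1],
    [2,1,1,5,2,1,4,1,2,1,4,1,1,3,2],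
    [2,3,2,5,5,1,4,2,2,4,2,1,2,1,3,2,1],
    [2,3,2,5,5,4,2,1,1,4,1,2,2,1,1],
    [2,3,2,5,5,3,4,3,2,4,1,2,1,3,2,1,1],
    [2,2,1,5,5,4,1,1,3,2,4,3,1,2,1],
    [2,2,1,5,5,2,1,2,4,2,2,1,2,1,1],
    [2,2,1,5,5,1,4,2,4,3,1,2,2],
    [2,2,1,5,5,4,3,2,2,1,4,1,3,1],
    [2,5,2,4,2,1,2,4,1,2,3,1],
    [1,4,2,1,5,1,1,2,1,4,2,3,1,2,1],
    [1,4,2,1,5,2,3,2,1,4,2,3,2,2,1],
    [2,1,5,5,2,4,2,4,1,3,1,1,2],
    [2,1,5,5,2,4,3,2,1,1,4,2,2,3,1],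
    [2,2,1,1,5,1,2,4,2,4,2,1,3,2,1,1],
    [2,2,1,1,5,4,3,4,3,1,2,1],
    [2,2,1,1,5,1,1,3,4,1,1,2,1,1],
    [2,2,1,1,5,2,4,3,2,1,1,4,1,2,3,1,2,1],
    [2,1,5,1,4,2,1,4,1,2,1,1,2],
    [2,4,5,3,5,1,4,1,3,2,1,1,2,1],
    [2,4,5,3,5,2,4,1,4,2,4,3,1,1],
    [1,1,2,5,4,1,2,3,1,4,3,2],
    [1,1,2,5,4,2,1,2,4,3,2],
    [4,2,2,3,5,2,4,2,2,1,4,3,1,2,2,3,1,1],
    [4,2,2,3,5,4,1,1,3,4,1,1,3,1],
    [4,2,2,3,5,3,1,3,4,1,3,1,2,1,1],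
    [1,2,5,2,4,3,4,2,3,1],
    [1,2,5,1,3,1,4,2,1,3,1],
    [1,2,5,3,4,3,4,2,1,1,3,2,1,1],
    [1,2,1,5,4,2,1,2,4,1,2,2,3,1,1],
    [1,2,1,5,1,1,2,1,4,3,2,1,2,2,1],
    [5,2,5,5,2,1,4,2,4,3,1,2,2,3,1],
    [5,2,5,5,4,3,2,4,3,1,2,3],
    [5,2,5,5,3,4,3,2,4,1,2,2,3,2,1,1],
    [4,1,2,1,5,2,4,3,4,2,1,1],
    [4,2,1,5,4,2,1,2,4,1,3,2,1,2,2],
    [4,2,1,5,1,1,4,2,4,1,2,2,1,2,1],
    [4,2,1,5,2,4,2,1,2,4,3,2,1,2,3,1,1],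
    [1,5,2,3,5,1,2,3,4,2,1,1,3,1],
    [1,5,2,3,5,1,3,2,1,4,2,1,3,2,1,1],
    [1,5,2,3,5,1,3,2,4,1,3,1,1,2],
    [5,2,1,5,4,2,1,2,4,2,1,1,3,2],
    [4,2,5,5,2,1,2,4,3,1,1,2,1,1],
    [4,2,5,5,4,2,4,3,4,1,2,3,1,2],
    [4,2,5,5,1,3,2,1,4,1,2,1,3,2],
    [2,2,5,1,1,3,4,3,2,3,1],
    [2,2,5,1,4,2,3,2],
    [2,2,5,2,1,3,2,1,4,3,2,1,1,2],
    [3,5,2,1,5,1,1,2,1,4,2,1,1,2,1],
    [3,5,2,1,5,4,1,2,1,4,2,2,3,1,1],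
    [3,5,2,1,5,1,4,2,1,4,1,2,2,1,2,1,1],
    [4,2,2,5,3,2,4,2,1,1,2],
    [2,2,1,5,4,3,1,3,4,1,2,2,3,2,1],
    [2,2,1,5,4,3,4,2,2,1,1,2,1],
    [1,2,3,5,3,2,4,1,2,1,3,2,1],
    [1,2,5,1,5,4,3,2,2,1,4,3,2,2],
    [1,2,5,1,5,1,4,2,4,3,2,3,1,2,1,1],
    [1,2,5,1,5,4,1,1,3,2,4,1,2,2,1,2,1,1],
    [4,5,1,2,5,4,2,4,3,4,2,1,1],
    [2,4,2,5,3,2,1,2,4,3,2,3],
    [2,4,2,5,1,4,2,1,4,3,1,2,1],
    [4,3,2,5,5,2,4,3,1,2,4,2,3,1,1],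
    [2,2,5,2,2,5,1,3,1,4,2,1,3,1,2],
    [5,2,2,5,2,1,4,1,2,1,4,3,1,2,3],
    [5,1,1,2,5,1,2,3,4,1,2,3,1,2],
    [1,4,5,2,5,3,2,1,2,4,1,1,3,1,2,1],
    [1,4,1,5,2,5,1,1,4,2,4,1,2,1,3,1],
    [3,5,1,2,1,5,4,1,2,1,3,1],
    [4,1,5,2,5,4,3,1,3,4,1,3,2,1,1,2],
    [5,1,2,5,1,5,2,4,2,2,1,4,3,2,1,1,2],
    [4,3,0,4,5,5,2,4,3,4,3,1,3,2,1,1],
    [4,3,0,3,1,5,1,4,2,2,4,2,1,3,2,1],
    [4,3,0,4,1,5,5,4,2,1,4,2,3,2,1],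
    [4,3,0,5,1,3,1,5,2,3,4,3,2,2],
    [4,3,0,5,3,5,2,4,2,1,2,4,2,2,3,1,1],
    [4,3,0,5,3,5,4,2,1,2,4,2,2,3,2,1,1],
    [4,3,0,1,3,1,5,2,1,2,4,1,2,2,1,2,1],
    [4,3,0,4,5,1,5,4,1,2,1,4,3,2,2,1,1],
    [4,3,0,1,5,5,2,4,3,4,2,1,1,3,2,1],
    [4,3,0,4,5,3,5,1,1,4,2,1,3,2,1,1],
    [4,3,0,4,5,3,5,4,1,1,3,4,3,2,3],
    [4,3,0,5,1,5,1,2,1,3,4,3,1,1,2],
    [4,3,0,4,5,2,5,3,2,3,1,1,4,1,3,2,1,2],
    [4,3,0,5,1,2,5,1,5,3,4,1,2,2,1,1,3,1,1],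
    [4,3,0,5,1,2,5,1,5,1,1,4,1,2,3,1,2,1,1],
    [4,3,0,1,1,2,5,5,4,2,2,1,4,3,1,2,3],
    [4,3,0,1,5,2,5,1,3,1,4,2,2,3,2],
    [4,3,0,5,5,4,2,2,5,4,1,1,3,4,2,1,1,3,1,1],
    [4,3,0,2,5,1,3,2,5,1,3,2,4,2,2,1,1],
    [4,3,0,3,4,5,2,5,2,3,1,4,1,2,3,1,2],
    [4,3,0,1,2,5,1,5,1,2,3,4,1,2,2],
    [4,3,0,3,5,2,5,1,2,4,2,4,2,1,2,1,3,2],
    [4,3,0,4,2,2,3,5,4,2,1,2,4,3,1,2,1,1],
    [4,3,0,1,4,5,2,5,1,3,2,4,3,2,3,1,2,1],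
    [4,3,0,5,4,2,3,5,4,1,2,4,3,2,1,2],
    [4,3,0,5,4,2,3,5,1,4,3,1,2,4,2,2,1,2,2],
    [4,3,0,3,1,5,4,2,5,4,3,1,2,4,1,3,1,2,3,1,1],
    [4,3,0,3,1,5,4,2,5,4,2,3,1,1,4,1,3,2,1],
    [4,3,0,1,1,5,2,5,4,3,2,2,1,4,2,2,3,2],
    [4,3,0,1,1,5,2,5,1,4,2,4,1,1,3,1,2,1],
    [4,3,0,1,1,5,2,5,4,2,2,1,4,2,2,1,1,3],
    [4,3,0,5,2,2,1,5,2,1,4,1,2,1,4,1,2,2,3,2,1,1],
    [4,3,0,2,1,2,3,5,1,4,3,1,1,4,1],
    [4,3,0,2,1,2,3,5,2,4,3,4,2,3,2,1],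
    [4,3,0,2,1,2,3,5,2,1,4,1,1,3,2],
    [4,3,0,2,1,3,1,5,2,4,2,2,1,4,1],
    [4,3,0,2,1,3,1,5,3,1,4,2,4,1,2,3,1,2,1],
    [4,3,0,3,1,5,2,5,1,2,3,4],
    [4,3,0,1,5,2,2,5,3,1,1,4,2,1,2,3],
    [4,3,0,1,5,2,2,5,4,2,2,4,3,1,3,2],
    [0,0,1,2,1,5,2,1,3,4,1,1,3,1,2,1,1],
    [0,0,1,2,1,5,2,4,3,2,2,1,1],
    [0,0,1,1,5,2,5,1,3,2,1,4,3],
    [0,0,5,2,1,5,5,2,4,2,2,1,4,2,3,2,1,1],
    [0,0,1,4,2,1,5,4,3,1,3,4,1,2,1,3,1,1],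
    [0,0,1,4,2,1,5,3,1,1,4,2,3],
    [0,0,5,1,4,2,5,1,2,3,4,1,3,1,1,2,1,1],
    [0,0,5,1,4,2,5,4,2,2,1,2,2,1],
    [0,0,3,2,5,1,3,2,1,4,1,1,2],
    [0,0,4,1,2,5,4,3,2,2,1,4,2,1,2,3],
    [0,0,3,5,3,2,5,3,4,2,2,4,3,1,2,2,1],
    [0,0,1,3,2,5,1,1,4,1,3,2,1,2,1],
    [2,2,1,0,4,5,5,3,1,3,4,2,2,1,2,1],
    [2,2,1,0,1,3,1,5,2,2,1,1,4,1,2,3],
    [2,2,1,0,4,5,4,2,1,5,3,2,2,4,2,3,1,2,1],
    [2,2,1,0,2,5,1,3,2,5,2,1,1,2,1,4,2,2,1],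
    [2,2,1,0,4,5,1,5,2,3,2,1,4,1,3,1,2,1,1],
    [2,2,1,0,2,4,5,5,1,1,3,2,4,2,1,3,1,2],
    [2,2,1,0,5,3,4,1,2,5,3,4,1,2,4,3,1,2,2,1],
    [2,2,1,0,3,4,3,5,2,2,1,4,3,1,2,3,1,1],
    [2,2,1,0,3,5,4,2,2,1,4,1,3,1,1,2,1,1],
    [2,2,1,0,1,3,4,2,5,4,3,4,2,4,2],
    [2,2,1,0,4,5,4,2,5,2,4,3,4,1,3,2,1,2,2,1],
    [2,2,1,0,5,5,3,2,5,1,1,3,2,4,2,2,1,2,2],
    [2,4,2,1,0,1,4,2,5,3,1,2,1,4,2,2,1,1,2],
    [2,4,2,1,0,4,2,4,2,5,1,1,4,2,4,1,2,2,1,1,3,1,1]]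

/-- Their inverses. -/
def vConjI : List (List ℕ) :=
  [
    [],
    [1,4,3,1,1,4,1,3,1,1,2,1,1],
    [4,3,1,1,4,3,2,1,2],
    [2,4,1,2,4,1,2,2,1,1,3,1],
    [5,3,5,1,4,1,1,3],
    [3,1,2,1,5,3,1,1,4,3],
    [2,4,5,3,5,1,4,1,3,2,1,1,2,1],
    [5,2,5,5,2,1,4,2,4,3,1,2,2,3,1],
    [3,2,1,3,1,5,3,1,4,2,1,1,2,1],
    [3,4,5,5,2,4,3,2,4,2,1,2,1],
    [4,2,2,3,5,4,1,1,3,4,1,1,3,1],
    [5,3,5,4,3,4,1,2,3,1,1],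
    [2,4,5,3,5,4,3,1,3,4,2,3,1,1],
    [5,5,1,3,1,4,2,2,1,2,2],
    [5,4,2,2,5,4,1,1,3,2,4,2,2,3,1,1],
    [2,4,5,5,1,3,1,4,1,2,2,3,2,1,1],
    [2,2,5,2,2,5,1,2,3,4,3,1,2,3,1,1],
    [1,3,1,5,4,1,3,4,1,3,2,1,1,2,1],
    [2,3,5,4,1,1,3,4,2,1,3,2,1,2],
    [5,5,2,5,1,3,1,4,3,2,1],
    [1,2,1,1,5,3,4,1,2,1,4,2,2,1,1,2,1],
    [5,2,3,5,4,2,2,4,1,3,2,1,2],
    [5,1,1,3,2,4,2,2,3,1],
    [4,5,1,2,5,4,2,2,1,4,2,2,1,2,2,1],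
    [2,1,5,5,4,1,4,2,4,2,1,3,2,1,2,1,1],
    [1,2,1,5,4,1,2,3,1,4,1,3],
    [1,1,5,1,3,2,1,4,2,3,1],
    [1,4,2,5,1,5,4,1,3,4,2,3,2,2,1,1],
    [5,1,3,1,5,3,1,4,2,3,2,2,1,1],
    [4,1,5,5,4,2,1,4,3,2,1,2,2],
    [1,4,1,5,5,3,1,2,4,3,1,2,1,1],
    [2,2,1,1,5,4,3,4,2,4,3,2,1,3,1,1],
    [5,5,2,5,4,1,2,3,1,4,3,2,2,1,1],
    [1,5,5,2,5,2,4,3,4,2,1,3,2,1,1],
    [3,1,5,3,4,2,2,4,1,2,2,3],
    [1,3,2,5,2,2,4,2,4,3,2,2],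
    [1,2,5,1,5,4,3,2,2,1,4,3,2,2],
    [3,4,3,5,3,2,4,3,2,1,2,3],
    [5,2,4,1,2,4,2,1,1,3],
    [1,2,1,1,5,2,3,1,4,1,1,3,1,2,1],
    [5,2,3,5,2,4,2,1,2,4,1,1,3,1],
    [4,5,1,2,5,4,2,4,3,4,2,1,1],
    [4,2,1,5,1,1,4,2,1,3,2,1,2,1,1],
    [1,5,5,4,2,4,3,4,3,1,3,2,1,1],
    [5,4,5,1,5,1,2,3,1,4,2,1,2,1,3,2],
    [5,2,5,5,4,3,2,1,1,4,2,1,1,3,1],
    [5,2,1,5,4,1,4,2,4,1,2,2,3,2,1],
    [2,4,5,3,5,4,3,4,1,2,1,3,2],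
    [4,3,5,1,3,4,3,1,2,2,1],
    [3,5,4,1,1,3,2,4,2,3,2,2,1,1],
    [1,2,3,5,4,2,2,4,3,1],
    [2,5,5,3,4,3,2,4,1,3,2,1,1,2,1,1],
    [5,1,3,1,5,1,4,2,1,4,2,3,1,1],
    [4,2,2,5,2,3,4,3,1,2,2,3],
    [2,4,5,1,5,1,4,2,4,1,3,2,1,2,1],
    [2,2,5,4,3,1,3,4,1],
    [5,1,5,1,1,3,4,2,1,1,3,2,1],
    [2,1,1,5,3,4,3,4,1,1,3,1],
    [3,2,5,4,3,1,1,4,1],
    [4,5,3,5,2,1,1,2,1,4,3,2,1,1,2,1],
    [4,1,2,1,5,2,2,1,4,2,2,1,2,2,1],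
    [5,5,3,1,4,3,1,2,2,3],
    [1,4,2,4,2,5,2,1,1,2,1,4,2,3,2],
    [1,1,2,5,4,1,2,3,1,4,3,2],
    [1,5,2,3,5,3,1,2,1,4,2,1,3,2,1,1],
    [1,1,2,5,5,4,3,2,4,1,2,2,3,1,1],
    [2,2,3,5,4,1,2,3,1,4,3,1,2],
    [1,5,5,2,5,3,4,1,2,4,2,1,1,3,2,1],
    [5,5,2,5,2,4,2,1,2,4,2,1,3,1,2,1,1],
    [1,5,2,3,5,1,3,2,1,4,2,1,3,2,1,1],
    [4,2,5,5,2,1,2,4,3,1,1,2,1,1],
    [1,1,2,5,1,1,4,2,4,1,3,2,1,2],
    [2,2,1,5,5,1,2,3,1,4,2,1,2,3,1],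
    [4,2,1,1,5,1,4,1,2,1,4,3,1,1,2,1],
    [5,1,5,1,4,2,1,1,3],
    [5,3,4,5,2,5,4,3,4,2,1,1,3,2,1,1],
    [2,2,1,5,5,4,1,1,3,2,4,3,1,2,1],
    [1,1,2,5,2,2,1,1,4,1,3,1,2,1,1],
    [1,5,2,3,5,3,1,2,4,1,3,1,1,2],
    [2,3,2,5,5,1,4,2,2,4,2,1,2,1,3,2,1],
    [2,2,5,5,2,1,2,4,1,1,2,1,1],
    [1,4,2,1,5,2,3,2,1,4,2,3,2,2,1],
    [2,3,2,5,5,3,1,2,4,2,1,3,1],
    [4,5,1,2,5,4,1,1,3,2,4,1,3,2,1,2,1],
    [4,2,5,5,4,2,4,3,4,1,2,3,1,2],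
    [2,2,1,5,5,1,4,2,4,3,1,2,2],
    [3,5,2,1,5,2,3,2,1,4,1,1,3,1,2,1,1],
    [3,4,3,5,4,2,2,4,1,2,3,1,2,1],
    [3,1,2,1,5,2,1,2,4,2,1,3,1],
    [5,2,5,5,3,4,3,2,4,1,2,2,3,2,1,1],
    [5,2,1,5,4,1,2,3,1,4,2,1,3],
    [2,4,5,3,5,3,1,2,4,3,1,2,3,1,1],
    [3,2,5,5,2,4,3,2,1,1,4,1,3,1],
    [5,1,3,1,5,3,4,3,4,3,1,3,2,1,1],
    [2,4,5,1,5,4,3,2,1,1,4,1,1,3],
    [2,2,5,5,4,3,2,2,1,4,1,2,2,3],
    [2,2,5,5,4,1,1,3,2,4,1,2,1,1,2,1,1],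
    [4,2,2,3,5,2,4,2,2,1,4,3,1,2,2,3,1,1],
    [3,4,5,5,2,3,2,1,4,2,1,3,2],
    [3,2,1,3,1,5,2,4,3,4,1,2,1,3,1],
    [4,2,2,3,5,1,1,4,2,1],
    [3,2,1,3,1,5,1,3,1,4,3,2,2,1,1],
    [3,4,5,5,4,2,2,1,1,2],
    [1,2,5,1,5,1,4,2,4,3,2,3,1,2,1,1],
    [3,4,3,5,2,3,4,2,1,3,2,1,2],
    [5,1,3,1,5,3,2,1,2,4,1,2,2,1,1],
    [4,2,2,5,4,2,2,4,3,1,2,3,1],
    [2,2,1,1,5,4,3,4,3,1,2,1],
    [4,1,2,1,5,2,4,3,4,2,1,1],
    [5,2,3,5,3,2,3,1,1,4,3,1,3,2,1,1],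
    [3,2,5,5,1,4,2,4,1,3,1,2,1,1],
    [4,5,1,2,5,4,3,2,2,1,4,3,2,2,1,1],
    [1,4,2,1,5,3,2,3,1,1,4,2,1,3,1],
    [1,1,2,1,5,3,2,4,3,2,1,3,1],
    [1,4,2,1,5,3,2,4,2,3,2,2,1,1],
    [4,2,2,5,3,2,4,2,1,1,2],
    [1,1,2,1,5,4,2,2,1,4,3,1,1,2],
    [1,4,2,1,5,1,1,2,1,4,2,3,1,2,1],
    [2,2,5,5,1,2,3,1,4,1,2,2,3,2,1,1],
    [5,2,5,5,4,2,1,1,4,2,1,1,3,1],
    [5,2,1,5,2,4,2,1,2,4,2,1,2,2,1],
    [3,1,2,1,5,1,3,2,1,4,3,1],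
    [1,1,5,3,4,1,2,1,4,2,2,3,2],
    [2,1,5,5,1,1,3,2,4,3,2,1,3],
    [1,4,2,5,1,5,2,1,3,1],
    [5,2,1,5,4,2,1,2,4,2,1,1,3,2],
    [4,3,5,4,3,1,1,4,1,2,1,3,1,1],
    [5,2,1,5,3,1,4,2,4,1,3,1,1,2,1],
    [1,2,3,5,3,2,4,1,2,1,3,2,1],
    [1,1,5,4,2,2,4,2,2,1,1],
    [1,2,1,5,4,2,1,2,4,1,2,2,3,1,1],
    [1,4,2,5,1,5,4,3,1,1,4,1,1,3,2,1],
    [1,5,5,1,4,2,1,4,1,2,1,3,2],
    [3,4,5,5,1,4,1,2,1,4,3,1],
    [3,2,1,3,1,5,2,1,4,1,1],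
    [4,1,5,5,1,2,4,2,4,2,1,3,1],
    [2,2,5,2,2,5,1,3,1,4,2,1,3,1,2],
    [5,2,2,5,2,1,4,1,2,1,4,3,1,2,3],
    [1,1,5,2,1,1,4,1,3,2,1],
    [1,4,1,5,2,5,2,1,4,1,2,1,4,2,3,1,2,1],
    [3,5,1,2,1,5,4,1,2,1,3,1],
    [1,4,1,5,2,5,1,1,4,2,4,1,2,1,3,1],
    [4,5,4,2,5,2,3,2,4,1,3,2,1,2,1,1],
    [5,4,2,5,3,1,1,4,2,1,3,2,1],
    [0,0,2,0,2,5,1,3,2,5,4,3,2,2,1,4,2,1,3,2,1],
    [0,0,2,0,1,5,4,2,5,4,3,2,2,1,4,2,1,1],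
    [5,3,1,2,0,3,5,4,2,3,1,1,4,2,2,3,1],
    [0,0,2,0,4,5,4,2,1,5,4,2,2,1,4,2,3,2,1],
    [2,4,2,1,0,5,5,1,3,4,2,1,1,2,1,1],
    [2,4,2,1,0,5,1,3,1,5,2,4,3,2,4,3,2,1,2,3],
    [5,3,1,2,0,5,1,2,5,1,5,3,4,1,2,4,3,1,2,2,3,1],
    [5,3,1,2,0,1,4,2,5,1,4,2,2,4,1,1,3,1,1],
    [5,3,1,2,0,2,2,5,5,1,4,2,1,4,2,1,2,1,3,2,1],
    [2,4,2,1,0,4,2,5,5,1,1,2,1,4,1,2,3,1,2,1],
    [2,4,2,1,0,5,1,2,3,5,1,3,4,2,1,2,1,3,2,1],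
    [0,0,2,0,5,2,1,5,5,1,1,4,2,4,2,1,1,3],
    [0,0,2,0,3,4,5,2,5,2,1,3,2,1,4,1,1,3],
    [2,4,2,1,0,4,2,2,5,2,1,1,4,2,2,1,1,2,1],
    [2,4,2,1,0,1,5,3,2,5,3,2,2,1,4,3,2,2,1,1],
    [0,0,2,0,4,5,2,5,4,2,3,1,4,1,1],
    [0,0,2,0,2,5,5,1,1,4,1,3,2,1],
    [0,0,2,0,1,4,1,2,5,1,1,3,4,1,2,1],
    [2,4,2,1,0,3,1,5,1,2,1,4,2,2,1,2,2,1,1],
    [5,3,1,2,0,3,4,2,5,1,4,2,4,2,2,3,1],
    [2,4,2,1,0,5,1,2,1,5,1,2,4,2,4,1,1,3,1,1],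
    [5,3,1,2,0,1,4,5,2,5,2,4,2,4,2,1,1,3,2,1],
    [0,0,2,0,4,2,1,5,5,1,1,4,2,2,3],
    [0,0,2,0,1,5,5,2,5,2,2,4,2,4,3,2,1,2,3],
    [2,5,4,2,0,4,2,2,3,5,2,3,2,4,3,2,3,1,2,1,1],
    [2,5,4,2,0,2,5,2,2,1,5,3,1,3,4,1,2,3,1],
    [2,5,4,2,0,4,5,2,5,4,2,3,1,1,4,1,1,2],
    [2,5,4,2,0,5,3,2,5,2,3,1,1,4,1,1,2,1,1],
    [5,2,4,3,0,5,1,3,2,5,4,1,2,3,4,2,3,2],
    [5,2,4,3,0,2,5,2,1,5,4,2,4,3,4,3,1,2,3,1],
    [5,2,4,3,0,4,2,1,1,5,2,4,3,2,4,3,1,2,1,1],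
    [2,5,4,2,0,5,5,4,2,2,5,1,4,3,1,2,4,1,3,2,1,2,2,1],
    [5,2,4,3,0,5,1,3,1,5,3,2,3,1,1,4,2,1,1,3,1,1],
    [5,2,4,3,0,1,5,5,2,5,4,2,1,4,3,1,1,2],
    [5,2,4,3,0,2,2,1,1,5,3,1,2,1,4,2,1,2,2,1,1],
    [5,2,4,3,0,5,1,4,2,5,3,4,2,4,2,3,2,1],
    [5,2,4,3,0,5,3,5,3,1,4,2,4,2,1,1,3,1],
    [2,5,4,2,0,1,4,2,5,4,3,2,2,1,4,2,2],
    [5,2,4,3,0,2,5,1,3,2,5,3,1,2,4,2,2,1,1,3],
    [5,2,4,3,0,4,5,1,2,5,3,1,2,1,4,2,2,3,2],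
    [2,4,2,1,0,4,5,4,2,5,1,4,2,1,4,2,1,1,2,1],
    [2,4,2,1,0,1,4,2,4,2,5,3,2,1,4,1,2,2,3,2,1],
    [2,4,2,1,0,5,4,2,1,5,3,4,2,2,4,3,2,1,2,3,1],
    [2,4,2,1,0,1,3,4,2,5,2,1,4,1,2,1,4,1,2,2,3,1],
    [5,2,4,3,0,2,5,2,2,1,5,1,3,2,1,4,1,2,2,1,2,1],
    [5,2,4,3,0,2,5,5,3,2,2,1,4,1,3,2,1,1],
    [5,2,4,3,0,5,1,2,3,5,3,4,3,4,1,2,1,1,2,1],
    [5,2,4,3,0,2,1,4,2,5,4,3,2,1,1,2,1],
    [2,5,4,2,0,1,2,5,1,5,2,3,2,1,4,1,2,2,1,1,3,1,1],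
    [2,5,4,2,0,1,2,5,1,5,2,2,3,1,4,1,2,2,3,1],
    [5,2,4,3,0,4,2,2,5,1,3,1,4,1,3,2,1,2,2,1],
    [5,2,4,3,0,1,2,5,1,5,2,4,1,2,4,2,1,1,3,2,1],
    [2,4,2,1,0,4,5,5,1,4,2,2,4,3,2,1,3,2],
    [5,3,1,2,0,1,2,5,5,2,1,3,4,2,2,1,2,2,1],
    [5,3,1,2,0,1,3,2,5,1,4,1,2,1,4,3],
    [2,4,2,1,0,2,5,1,3,2,5,3,4,1,2,4,1,2,2,3,1,1],
    [2,4,2,1,0,1,2,5,2,5,4,2,2,4,2,1,1,3,2],
    [2,4,2,1,0,1,4,2,5,3,4,1,2,1,4,1,2,3,1],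
    [5,3,1,2,0,1,1,2,5,5,2,3,2,4,1,2,1,3,1,1],
    [5,3,1,2,0,1,5,2,2,1,5,4,1,2,4,1,2,2,1,1,3],
    [5,3,1,2,0,1,5,2,2,1,5,2,3,1,4,2,2,1,1,3],
    [5,3,1,2,0,1,4,2,5,1,5,4,1,2,3,4,3,2,1,1,2,1,1],
    [5,3,1,2,0,1,4,2,5,1,5,2,3,2,4,1,2,2,3],
    [0,0,2,0,2,1,2,5,3,4,2],
    [2,4,2,1,0,1,4,2,5,3,1,2,1,4,2,2,1,1,2],
    [2,4,2,1,0,2,5,1,5,4,2,1,4,2,3,2,2]]

/-- The four-group as commutators. -/
def xFix : List ℕ := [0,3,1,2]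

/-- The action of the centraliser of the four-group. -/
def wAct : List ℕ := [33825,20257,63521,28193,63521,33825,60193,33825,20257,46625,55585,42273,51745,20257,46625,20257,63521,28193,38689,23585,42273,20257,28193,63521,33825,60193,32033,23585,42273,28193,38689,28193,55585,20257,46625,32033,33825,63521,33825,60193,32033,51745,23585,63521,60193,33825,20257,46625,55585,51745,23585,60193,32033,60193,38689,63521,28193,55585,20257,60193,55585,42273,33825,46625,63521,28193,38689,42273,51745,46625,55585,60193,38689,63521,55585,55585,42273,51745,60193,55585,51745,42273,38689,63521,60193,51745,46625,55585,33825,20257,63521,28193,42273,51745,55585,46625,32033,33825,60193,63521,46625,38689,23585,20257,60193,23585,42273,38689,46625,33825,38689,38689,23585,42273,46625,23585,32033,33825,46625,42273,28193,38689,23585,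42273,38689,28193,55585,20257,32033,51745,55585,51745,23585,60193,32033,28193,20257,32033,32033,51745,23585,32033,42273,38689,28193,20257,46625,33825,23585,28193,20257,23585,32033,38689,46625,51745,28193,20257,32033,63521,38689,42273,60193,63521,55585,32033,28193,51745,63521,51745,60193,55585,60193,42273,55585,32033,42273,38689,46625,33825,23585,33825,23585,51745,46625,33825,23585,32033,28193,20257,51745,63521]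

/-- The action of its generators. -/
def wgAct : List ℕ := [20257,63521,28193]

/-- Generators of a complement in the centraliser. -/
def lGens : List (List ℕ) := [[5,3,0,2,0,4,2,1,1,5,2,4,2,2,1,4,1,2,3,1,2,1,1],[0,2,3,1,0,1,4,1,2,5,4,3,4,2,4,1,1,3,1,2,1,1]]

/-- Its elements. -/
def lEls : List (List ℕ) :=
  [
    [],
    [5,3,0,2,0,4,2,1,1,5,2,4,2,2,1,4,1,2,3,1,2,1,1],
    [0,2,3,1,0,1,4,1,2,5,4,3,4,2,4,1,1,3,1,2,1,1],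
    [5,3,2,1,0,1,5,5,2,5,3,1,4,1,2,2,1,2,1],
    [0,2,3,1,0,5,2,3,5,2,4,3,2,1,1,4,1,2,2,1,1,3,1,1],
    [0,2,2,5,0,4,5,4,2,5,4,1,2,3,4,3,1,2,2,3,1,1],
    [5,3,2,1,0,1,5,2,5,4,3,1,1,4,2,1,1,2,1],
    [0,5,4,2,0,0,1,5,2,2,3,4,3,1,2,1,1],
    [0,2,2,5,0,2,1,2,5,3,1,2,4,2,1,1,3,2,1,1],
    [4,3,0,2,2,1,1,5,4,3,2,1,4,3,2,1,3],
    [0,5,4,2,0,0,1,3,2,5,1,1,4,2,4,1,3,2,1,2,1,1],
    [5,1,2,1,0,1,4,5,2,5,2,3,4,3,1,2],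
    [4,3,0,2,2,3,5,2,4,1,2,4,1,3,2,1,2,2],
    [2,2,3,5,4,3,1,2,4,2,1,3,1,1],
    [2,2,1,2,0,1,1,4,2,5,4,2,2,1,4,2,2,1,2,1,1],
    [5,1,2,1,0,2,3,5,2,5,3,2,1,2,4,3,1,1,2],
    [5,3,0,2,0,5,4,2,2,5,3,2,1,4,2,3,1,2],
    [2,4,0,2,0,0,2,4,5,3,2,5,4,3,4,1,2,3,1,1],
    [2,2,1,2,0,2,2,5,5,4,1,4,2,4,1,3,2,1,2,1,1],
    [5,3,0,2,0,5,4,2,2,5,1,4,2,2,4,1,2,2,1,1],
    [0,0,4,2,0,4,2,4,2,5,1,2,1,3,4,2,1,1,2,1],
    [1,0,0,2,3,0,5,1,3,2,5,1,2,3,4,1,3,1,1],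
    [2,4,0,2,0,0,1,4,2,5,3,2,3,1,1,4,1,3,1,2],
    [2,2,3,5,4,2,1,2,4,3,1,2],
    [0,0,2,0,1,3,1,5,3,4,3,1,1,2,1],
    [5,2,0,0,0,1,3,1,5,2,2,1,1,4,2,2,3,1,1],
    [0,0,4,2,0,4,1,2,1,1,5,4,1,2,3,4,1,2,2,1],
    [1,0,0,2,3,0,3,5,3,2,5,2,4,2,1,4,1,2,2,1],
    [5,3,2,1,0,1,5,2,5,3,2,1,2,4,1,2,1,3,1,1],
    [5,3,1,2,0,1,5,5,4,3,4,2,4,1,1,2],
    [1,0,0,2,3,0,2,1,2,5,1,4,3,1,2,4,3,2,3,1,2,1],
    [0,0,2,0,2,1,2,3,5,2,4,3,4,2,1],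
    [5,2,0,0,0,1,1,5,2,1,1,4,1,3,1,1],
    [0,2,3,1,0,5,2,3,5,2,4,2,1,4,3,2],
    [0,0,4,2,0,4,5,1,5,3,4,2,1,4,3,2,1,1,2],
    [2,0,0,2,1,0,3,4,1,2,5,4,2,4,3,4,2,1,2,1,1],
    [5,3,1,2,0,4,5,3,5,4,2,3,1,1,4,2,2,3,1],
    [1,0,0,2,3,0,1,1,2,5,3,2,1,2,4,2,1,3,1,2,1],
    [5,3,2,1,0,1,5,5,2,5,1,4,3,1,1,4,3,1,2,3],
    [0,5,4,2,0,0,1,3,2,5,4,1,1,3,4,2,3,2,1,1],
    [2,0,2,0,0,3,5,4,2,5,2,1,2,4,1,2],
    [0,0,2,0,4,2,2,1,5,2,4,2,2,1,4,1,3,1,2,3],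
    [4,3,0,1,1,2,5,5,4,2,2,4,2,1,1,3,1],
    [0,0,4,2,0,4,5,1,2,5,3,4,1,2,1,4,2,3,2,1],
    [2,0,0,2,1,0,4,5,1,2,5,2,4,2,1,1,4,3,1,2,3,1,1],
    [0,2,3,1,0,1,4,1,2,5,1,1,2,1,4,3,2,1,3,1],
    [0,2,2,5,0,2,1,2,5,2,2,1,4,2,1,3,1,2,1,1],
    [2,2,1,2,0,4,5,5,1,2,1,4,3,1,1,2,1,1],
    [5,3,1,2,0,4,2,2,5,2,2,3,1,4,3,1,2,3,1,1],
    [5,0,0,0,2,0,4,2,2,1,5,1,4,3,1,2,4,2,3,2,1,1],
    [2,0,2,0,0,5,4,2,5,2,4,3,1,2,4,2,2,1,2,1],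
    [0,0,2,0,3,2,5,5,3,1,4,2,4,3,1,1,2,1],
    [4,3,0,4,1,5,5,2,1,4,3,2,1,2,2,1],
    [0,5,4,2,0,0,1,5,3,1,1,4,2,1,3,2,1,2],
    [5,1,2,1,0,2,3,5,2,5,1,2,1,3,4,1,3,2,1,2,2,1,1],
    [2,0,0,2,1,0,4,5,1,2,5,1,4,1,2,1,4,1,3,2,1,2,1],
    [2,4,0,2,0,0,5,2,1,1,5,1,3,2,4,1,3],
    [0,2,2,5,0,4,2,1,5,5,3,2,1,4,1,3],
    [2,2,1,2,0,4,2,3,5,1,2,1,1,4,2,2,3,2,1,1],
    [5,3,1,2,0,3,5,1,2,1,5,4,3,1,1,4,2,1,2,1,3,2],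
    [5,0,0,0,2,0,5,2,3,5,4,1,1,3,4,2,2,1,2,1],
    [0,2,2,5,0,4,5,4,2,5,4,3,2,1,1,4,3,2,3,1],
    [4,3,0,2,2,3,5,4,2,4,2,1,1,3],
    [1,0,0,2,3,0,1,1,2,5,4,3,2,1,1,4,2,1,2,2,1],
    [2,0,2,0,0,2,5,1,4,3,1,1,4,2,1,1,3,1],
    [4,2,0,0,0,1,5,5,4,3,2,2,1,4,3,2,3,1,1],
    [2,4,0,2,0,0,4,1,3,2,5,4,2,4,3,4,1,2,3,1],
    [0,2,2,5,0,1,1,2,5,1,3,2,1,4,2,2,1,2,1],
    [2,2,1,2,0,4,5,5,3,2,1,1,4,3,1,1,2,1,1],
    [5,1,2,1,0,1,4,5,2,5,2,4,3,1,2],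
    [5,3,0,2,0,4,2,1,1,5,2,2,3,4,1,3,2,1,1,2,1,1],
    [2,4,0,2,0,0,1,4,2,5,2,3,1,1,4,2,2,1,2,1],
    [5,2,0,0,0,1,1,5,2,2,1,1,4,2,2,3,1,1],
    [5,0,0,0,2,0,5,2,3,5,2,1,1,2,1,4,2,2,1,1,3,1,1],
    [5,2,0,0,0,1,1,2,1,5,1,1,4,2,4,1,3,1,1,2,1],
    [5,5,2,5,2,4,2,1,2,4,2,1,3,1,2,1,1],
    [2,0,2,0,0,5,2,1,5,3,4,3,4,3,1,1,2],
    [4,2,0,0,0,5,2,2,5,1,2,1,1,4,3,2,1,2,3],
    [2,0,2,0,0,3,5,4,2,5,2,1,3,2,1,4,1,3,2],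
    [4,3,0,2,2,1,1,5,3,2,2,1,4,1,1,3,1,2,1],
    [2,4,1,2,4,1,2,2,1,1,3,1],
    [2,2,1,2,0,2,2,5,5,3,1,3,4,2,1,2],
    [1,0,0,2,3,0,3,5,3,2,5,1,3,4,3,1,2,3,1],
    [4,3,0,4,1,5,5,4,2,3,1,1,4,1,2],
    [2,0,0,2,1,0,4,1,5,5,4,1,3,4,1,2,3,1,2],
    [0,3,4,2,1,0,2,4,5,3,2,5,2,1,1,2,1,4,1,3,1,2,1],
    [5,2,0,0,0,2,2,1,5,1,1,3,2,4,2,1,1,3,1],
    [1,3,1,5,4,1,3,4,1,3,2,1,1,2,1],
    [0,0,4,2,0,4,5,1,5,2,1,4,2,3],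
    [2,4,0,2,0,0,2,4,5,3,2,5,2,3,2,1,4,2,2,1,2],
    [0,0,2,0,2,1,2,3,5,1,4,2,1,4,1,2,2,1,1,3,1],
    [4,2,0,0,0,5,2,2,5,2,1,1,2,1,4,2,1,3,2,1,2,1],
    [5,1,2,1,0,4,5,1,2,5,1,4,2,1,1,3,1,1],
    [5,3,0,2,0,4,5,1,5,4,2,1,2,4,2,2,1,2,2],
    [0,2,3,1,0,1,5,5,1,2,1,4,1,2,1,3,2,1],
    [2,0,0,2,1,0,4,2,4,2,5,4,3,4,2,4,2,1,3,2,1],
    [0,3,4,2,1,0,1,4,2,5,4,2,3,1,1,4,1,1,3,2],
    [5,3,1,2,0,1,5,5,2,2,1,1,4,3,2,1,3,1],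
    [2,2,1,2,0,1,1,4,2,5,1,2,4,2,4,3,2,1,2,3],
    [0,0,4,2,0,4,1,2,1,1,5,1,1,4,2,4,1,3,2,1,1,2],
    [0,2,2,5,0,1,1,2,5,4,2,3,1,4,2,2,1,2,1,1],
    [5,0,0,0,2,0,2,1,5,4,1,2,1,4,3,1,2],
    [0,3,4,2,1,0,4,2,1,5,1,1,3,4,1,2,2,3,2],
    [0,0,1,5,4,3,2,4,1,3,2],
    [2,0,0,2,1,0,4,2,4,2,5,3,1,2,4,3,2,1,2,2],
    [5,1,2,1,0,4,2,2,3,5,3,4,2,1,4,2,1,3],
    [5,3,0,2,0,2,1,2,5,3,1,2,3,4,2,1,3,2,1],
    [0,2,3,1,0,2,5,5,4,2,4,3,4,3,1,2],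
    [5,3,1,2,0,4,2,2,5,3,1,4,1,2,2,3,2,1],
    [0,0,2,0,1,3,1,5,2,4,3,4,2,2,3],
    [5,2,0,0,0,1,3,1,5,2,1,1,4,1,3,1,1],
    [0,0,4,2,0,4,5,1,2,5,4,2,4,3,4,1,2,2,3,2,1],
    [0,3,4,2,1,0,1,4,2,5,2,4,3,2,4,2,2,3,2,1],
    [0,5,4,2,0,0,4,5,3,5,4,3,1,1,4,1,2,2,3,2],
    [5,3,2,1,0,2,1,5,2,5,1,3,1,4,1,3,2,1,1,2,1],
    [5,2,0,0,0,2,2,1,5,2,3,2,4,2,2,3,1],
    [5,0,0,0,2,0,2,4,1,3,2],
    [0,3,4,2,1,0,4,2,2,3,5,4,3,2,1,4,1,3,2,1,2,1],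
    [0,0,3,5,1,2,1,5,4,1,1,3,2,4,1,3,2],
    [0,0,2,0,4,2,2,1,5,1,2,1,1,4,1,3,1,2,1,1],
    [0,0,4,2,0,4,2,4,2,5,2,1,4,3,2,2],
    [1,0,0,2,3,0,5,1,3,2,5,2,2,3,4,3,1,2,3,1],
    [5,3,1,2,0,4,5,3,5,4,2,1,4,3,1,2,3],
    [1,3,1,5,2,3,1,4,1,2,1,3,1,1],
    [4,2,0,0,0,2,3,5,1,1,2,1,4,1,3,1,1,2],
    [0,0,4,1,3,2,5,1,3,2,1,4,1,3,1,1],
    [5,0,0,0,2,0,2,4,3,4,3,2,1,3,1,1],
    [0,5,4,2,0,0,4,2,4,2,5,2,2,1,1,4,2,2,1,2,2,1,1],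
    [5,3,2,1,0,5,4,1,2,5,2,3,4,3,1,2,2,3,1],
    [2,0,2,0,0,2,5,3,4,1,3,2,1,2,1,1],
    [2,0,0,2,1,0,3,4,1,2,5,4,3,2,1,1,4,2,2,3,1],
    [2,2,1,2,0,4,2,3,5,2,4,1,2,4,2,1,2,3],
    [5,3,1,2,0,3,5,1,2,1,5,1,2,1,4,1,2,1,3,1,1],
    [0,3,4,2,1,0,4,2,2,3,5,2,4,1,4,2,4,3,2,1,2,1,1],
    [0,0,3,5,1,2,1,5,1,2,3,4,3,2,3,1,1],
    [5,3,0,2,0,4,5,1,5,2,2,4,2,4,1,3,2,1,2,1],
    [5,3,2,1,0,2,1,5,2,5,2,2,4,2,1,1,3],
    [0,5,4,2,0,0,4,5,3,5,4,1,2,3,4,2,2,3,2,1,1],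
    [5,1,2,1,0,4,2,2,3,5,3,2,1,2,4,2,1,3,2],
    [4,2,0,0,0,3,2,5,5,4,3,4,1,2,3],
    [0,0,1,5,2,2,1,5,2,2,3,4,2,2,1,1,2,1,1],
    [2,4,0,2,0,0,5,2,1,1,5,3,2,4,1,3,2,1,1,2],
    [1,0,0,2,3,0,2,1,2,5,1,4,2,1,4,3,2,3,1,2,1],
    [2,0,2,0,0,5,4,2,5,4,2,1,2,4,2,1,2,1],
    [0,0,2,0,3,2,5,5,1,4,3,1,2,4,2,1,1,3,2,1,1],
    [5,3,0,2,0,2,1,2,5,2,2,1,1,4,2,1,1,2,1],
    [0,2,3,1,0,2,5,5,4,2,3,1,2],
    [0,3,4,2,1,0,4,2,1,5,1,2,1,3,4,2,1,1,3,2,1,1],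
    [0,0,4,1,3,2,5,1,3,1,4,2,1,1,3,1,1],
    [4,2,0,0,0,2,3,5,2,2,1,4,3,2,2,1],
    [4,2,0,0,0,3,2,5,5,3,1,3,4,1,3,1,2,3],
    [2,0,2,0,0,5,2,1,5,4,3,1,1,4,2,2,1],
    [5,3,2,1,0,5,4,1,2,5,2,4,1,2,3,1,2,1,1],
    [0,5,4,2,0,0,4,2,4,2,5,1,4,2,1,4,1,3,2,1,1],
    [2,0,0,2,1,0,4,1,5,5,1,2,3,4,1,3,2,1,2,1,1],
    [5,0,0,0,2,0,4,2,2,1,5,4,1,1,3,4,2,2,1,1,3,1],
    [0,0,1,5,2,2,1,5,4,3,1,1,4,2,1,3,1,2],
    [0,0,1,5,4,2,3,1,4,3,1,2,2,3,1],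
    [5,5,2,5,1,3,1,4,3,2,1],
    [5,1,2,1,0,4,5,1,2,5,2,1,4,1,3,1,1],
    [2,4,0,2,0,0,4,1,3,2,5,4,2,1,2,4,2,1,2,2,1],
    [5,2,0,0,0,1,1,2,1,5,2,1,1,4,3,1,2,1],
    [4,3,0,1,1,2,5,5,4,1,1,3,2,4,3,1,2,3],
    [0,2,3,1,0,1,5,5,1,1,3,4,2,3,1],
    [0,3,4,2,1,0,2,4,5,3,2,5,2,4,2,1,4,2,2,3,2,1,1],
    [5,0,0,0,2,0,2,1,5,3,4,2,1,4,2,1],
    [4,2,0,0,0,1,5,5,2,1,2,4,3,2,1,2,2,1],
    [0,2,2,5,0,4,2,1,5,5,1,3,2,4,2,1,3,1,2,1,1]]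

/-- Its table. -/
def lNext : List (List ℕ) := [[1,2],[0,3],[4,5],[6,7],[2,8],[9,0],[3,10],[11,1],[12,13],[5,14],[15,16],[7,17],[8,18],[19,4],[20,21],[10,22],[23,6],[24,25],[26,27],[13,28],[14,29],[30,9],[31,32],[16,33],[17,34],[35,11],[18,36],[37,12],[38,39],[40,41],[21,42],[22,43],[44,15],[45,46],[47,48],[25,49],[50,51],[27,52],[28,53],[54,19],[29,55],[56,20],[57,58],[58,59],[32,60],[33,61],[62,23],[34,63],[64,24],[65,50],[36,35],[66,26],[67,68],[69,70],[39,71],[72,73],[41,74],[42,75],[43,30],[76,31],[77,78],[79,80],[46,81],[82,83],[48,84],[49,85],[51,86],[52,87],[88,37],[53,89],[80,38],[90,72],[55,54],[91,40],[84,92],[93,94],[59,95],[60,96],[97,44],[61,98],[70,45],[99,82],[63,62],[100,47],[74,101],[102,103],[104,105],[106,107],[68,108],[109,110],[71,111],[73,112],[113,56],[75,114],[107,57],[115,116],[1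17,118],[78,119],[120,121],[81,122],[83,123],[124,64],[85,125],[118,65],[86,126],[127,66],[87,128],[94,67],[129,109],[89,88],[130,69],[131,132],[133,134],[92,135],[136,137],[95,138],[139,76],[96,140],[103,77],[141,120],[98,97],[142,79],[143,144],[145,146],[101,147],[148,149],[150,151],[105,145],[152,153],[108,154],[110,155],[111,142],[151,90],[112,156],[157,91],[158,136],[114,113],[159,93],[153,160],[116,133],[156,150],[119,161],[121,162],[122,130],[160,99],[123,152],[163,100],[164,148],[125,124],[165,102],[126,117],[132,104],[128,127],[138,106],[161,165],[166,143],[140,139],[134,166],[135,163],[137,141],[144,115],[154,159],[167,131],[146,167],[147,157],[149,129],[155,164],[162,158]]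

/-- Its tree. -/
def lTree : List (ℕ × ℕ) := [(0,0),(0,0),(0,1),(1,1),(2,0),(2,1),(3,0),(3,1),(4,1),(5,0),(6,1),(7,0),(8,0),(8,1),(9,1),(10,0),(10,1),(11,1),(12,1),(13,0),(14,0),(14,1),(15,1),(16,0),(17,0),(17,1),(18,0),(18,1),(19,1),(20,1),(21,0),(22,0),(22,1),(23,1),(24,1),(25,0),(26,1),(27,0),(28,0),(28,1),(29,0),(29,1),(30,1),(31,1),(32,0),(33,0),(33,1),(34,0),(34,1),(35,1),(36,0),(36,1),(37,1),(38,1),(39,0),(40,1),(41,0),(42,0),(42,1),(43,1),(44,1),(45,1),(46,0),(47,1),(48,0),(49,0),(51,0),(52,0),(52,1),(53,0),(53,1),(54,1),(55,0),(55,1),(56,1),(57,1),(59,0),(60,0),(60,1),(61,0),(61,1),(62,1),(63,0),(63,1),(64,1),(65,1),(66,1),(67,1),(68,0),(69,1),(71,0),(73,0),(74,1),(75,0),(75,1),(76,1),(77,1),(78,0),(79,1),(81,0),(83,0),(84,1),(85,0),(85,1),(86,0),(86,1),(87,0),(87,1),(88,1),(89,0),(89,1),(90,1),(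91,1),(92,0),(93,1),(95,0),(95,1),(96,0),(96,1),(97,1),(98,0),(98,1),(99,1),(100,1),(101,0),(102,1),(104,1),(105,0),(106,1),(108,0),(110,0),(111,0),(111,1),(112,0),(112,1),(113,1),(114,0),(114,1),(115,1),(116,0),(117,1),(119,0),(121,0),(122,0),(122,1),(123,0),(123,1),(124,1),(125,0),(125,1),(126,0),(126,1),(128,0),(128,1),(129,1),(130,1),(133,1),(134,0),(135,0),(137,0),(138,1),(141,1),(142,1),(146,0),(147,0),(149,0),(155,0),(162,0)]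

/-- A further generator of the complement. -/
def lA : List ℕ := [5,3,4,2,1,0,2,3,5,3,2,1,1,4,1,2,3,1,1]

/-- Its part in the subgroup. -/
def lAI : ℕ := 0

/-- The actions. -/
def lAct : List ℕ := [26065,20257,55858]

/-- Membership of the common elements. -/
def lMem : List (ℕ × ℕ) := [(7,2),(6,5),(7,125),(0,23),(12,150),(5,76)]

/-- The orbit of the chosen involution. -/
def lOrb : List ℕ := [0,0,0,23,17,22,7,10,11,15,3,6,16,1,32,25]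

/-- Elements moving the subgroup to all its conjugates. -/
def lNConj : List (List ℕ) := [[],[1,4,3,1,1,4,1,3,1,1,2,1,1],[5,1,3,1,5,3,1,4,2,3,2,2,1,1],[5,1,3,1,5,1,3,1,4,1,1,3,2,1],[3,4,5,5,2,4,3,2,4,2,1,2,1],[5,5,1,3,1,4,2,2,1,2,2],[5,5,3,4,3,4,2,1,1,3,1,1],[5,4,5,1,5,3,1,2,1,4,1,2,1],[5,4,5,1,5,2,1,1,4,2,1,2,1,3,2,1,1],[5,3,5,1,1,3,4,1,3,1,2,1],[2,2,5,5,4,3,2,2,1,4,1,2,2,3],[2,2,1,5,5,4,1,1,3,2,4,3,1,2,1],[4,3,0,5,3,5,2,4,2,1,2,4,2,2,3,1,1],[4,3,0,5,1,2,5,1,5,3,4,1,2,2,1,1,3,1,1],[0,0,1,2,1,5,2,1,3,4,1,1,3,1,2,1,1]]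

/-- Their inverses. -/
def lNConjI : List (List ℕ) := [[],[1,4,3,1,1,4,1,3,1,1,2,1,1],[5,3,5,1,4,1,1,3],[3,1,2,1,5,3,1,1,4,3],[3,4,5,5,2,4,3,2,4,2,1,2,1],[5,5,1,3,1,4,2,2,1,2,2],[5,4,2,2,5,4,1,1,3,2,4,2,2,3,1,1],[1,2,1,1,5,3,4,1,2,1,4,2,2,1,1,2,1],[5,1,1,3,2,4,2,2,3,1],[4,1,5,5,4,2,1,4,3,2,1,2,2],[1,1,2,5,4,1,2,3,1,4,3,2],[2,3,2,5,5,1,4,2,2,4,2,1,2,1,3,2,1],[2,4,2,1,0,5,5,1,3,4,2,1,1,2,1,1],[2,4,2,1,0,4,2,2,5,2,1,1,4,2,2,1,1,2,1],[2,4,2,1,0,4,5,4,2,5,1,4,2,1,4,2,1,1,2,1]]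

/-- Witnesses that these differ. -/
def lNWit : List (List ℕ) := [[0,2,2,2,2,2,2,2,2,2,2,2,2,2,2],[2,0,2,2,2,2,2,2,2,2,2,2,2,2,2],[2,2,0,2,2,2,2,2,2,2,2,2,2,2,2],[2,2,2,0,2,2,2,2,2,2,2,2,2,2,2],[2,2,2,2,0,2,2,2,2,2,2,2,2,2,2],[2,2,2,2,2,0,2,2,2,2,2,2,2,2,2],[2,2,2,2,2,2,0,2,2,2,2,2,2,2,2],[2,2,2,2,2,2,2,0,2,2,2,2,2,2,2],[2,2,2,2,2,2,2,2,0,2,2,2,2,2,2],[2,2,2,2,2,2,2,2,2,0,2,2,2,2,2],[2,2,2,2,2,2,2,2,2,2,0,2,2,2,2],[2,2,2,2,2,2,2,2,2,2,2,0,2,2,2],[2,2,2,2,2,2,2,2,2,2,2,2,0,2,2],[2,2,2,2,2,2,2,2,2,2,2,2,2,0,2],[2,2,2,2,2,2,2,2,2,2,2,2,2,2,0]]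

/-- Every complement is conjugate to the chosen one. -/
def lComp : List (List (ℕ × ℕ)) := [[(0,0),(17,1),(17,2),(17,3),(17,3),(17,2),(17,1),(14,0),(17,3),(17,2),(17,1),(18,1),(18,1),(17,1),(17,2),(17,3)],[(18,1),(17,1),(17,2),(17,3),(17,3),(17,2),(17,1),(18,1),(17,3),(17,2),(17,1),(4,0),(10,0),(17,1),(17,2),(17,3)],[(16,15),(16,15),(16,15),(16,15),(16,15),(16,15),(16,15),(16,15),(16,15),(16,15),(16,15),(16,15),(16,15),(16,15),(16,15),(16,15)],[(16,15),(16,15),(16,15),(16,15),(16,15),(16,15),(16,15),(16,15),(16,15),(16,15),(16,15),(16,15),(16,15),(16,15),(16,15),(16,15)],[(16,1),(16,1),(16,1),(16,1),(16,1),(16,1),(16,1),(16,1),(16,1),(16,1),(16,1),(16,1),(16,1),(16,1),(16,1),(16,1)],[(16,1),(16,1),(16,1),(16,1),(16,1),(16,1),(16,1),(16,1),(16,1),(16,1),(16,1),(16,1),(16,1),(16,1),(16,1),(16,1)],[(16,14),(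16,14),(16,14),(16,14),(16,14),(16,14),(16,14),(16,14),(16,14),(16,14),(16,14),(16,14),(16,14),(16,14),(16,14),(16,14)],[(16,14),(16,14),(16,14),(16,14),(16,14),(16,14),(16,14),(16,14),(16,14),(16,14),(16,14),(16,14),(16,14),(16,14),(16,14),(16,14)],[(16,14),(16,14),(16,14),(16,14),(16,14),(16,14),(16,14),(16,14),(16,14),(16,14),(16,14),(16,14),(16,14),(16,14),(16,14),(16,14)],[(16,14),(16,14),(16,14),(16,14),(16,14),(16,14),(16,14),(16,14),(16,14),(16,14),(16,14),(16,14),(16,14),(16,14),(16,14),(16,14)],[(16,1),(16,1),(16,1),(16,1),(16,1),(16,1),(16,1),(16,1),(16,1),(16,1),(16,1),(16,1),(16,1),(16,1),(16,1),(16,1)],[(16,1),(16,1),(16,1),(16,1),(16,1),(16,1),(16,1),(16,1),(16,1),(16,1),(16,1),(16,1),(16,1),(16,1),(16,1),(16,1)],[(16,15),(16,15),(16,15),(16,15),(16,15),(16,15),(16,15),(16,15),(16,15),(16,15),(16,15),(16,15),(16,15),(16,15),(16,15),(16,15)],[(16,15),(16,15),(16,15),(16,15),(16,15),(16,15),(16,15),(16,15),(16,15),(16,15),(16,15),(16,15),(16,15),(16,15),(16,15),(16,15)],[(18,1),(17,1),(17,2),(17,3),(17,3),(17,2),(17,1),(18,1),(17,3),(17,2),(17,1),(6,0),(8,0),(17,1),(17,2),(17,3)],[(2,0),(17,1),(17,2),(17,3),(17,3),(17,2),(17,1),(12,0),(17,3),(17,2),(17,1),(18,1),(18,1),(17,1),(17,2),(17,3)]]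

/-- The relations used. -/
def lRels : List (List ℕ) := [[0,0],[1,1,1],[0,1,0,1,0,1,0,1,0,1,0,1,0,1],[0,1,0,1,1,0,1,0,1,1,0,1,0,1,1,0,1,0,1,1]]

/-- A partition kept by the complement. -/
def lLabel : ℕ := 0x2c000b0002c04000002c00050000016000000800010582c160201000040201008160b058a000020080804021400000020080000010100850020080804020102c000b05800000200000000b0102c04001400016010100800000282c00000002c1600010080002010000000028000000010000001008040000058080a010000402280002c0401008080401010080400010080401010051a000282c000005800000000000000000000160b00000000b0002c160b0002c500205800160000008020001004000000000000502814000b0000000000282c0001010040000000000401010141600000000a0b0000004020080000000080802000282c04020102c000b000080000010080028010080402010080401010041602008040201010080005000080000008000000058000a00000040a01010080200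

/-- The subgroup moves it. -/
def lLabWit : List ℕ := [0,1,1,1,4,1,1,1,0,0,1,1,0,0,1,1]

/-- The action of the further generator from any candidate. -/
def lCand : List (List (List ℕ)) := [[[9,0],[9,0],[9,0],[9,0],[9,0],[9,0],[9,0],[9,0],[9,0],[9,0],[9,0],[9,0],[9,0],[9,0],[9,0],[9,0]],[[9,0],[9,2],[9,0],[9,0],[9,0],[9,0],[9,0],[9,0],[9,0],[9,0],[9,0],[9,0],[9,0],[9,0],[9,0],[9,0]],[[9,0],[9,0],[9,0],[9,0],[9,0],[9,0],[9,0],[9,0],[9,0],[9,0],[9,0],[9,0],[9,0],[9,0],[9,0],[9,0]],[[9,0],[9,0],[9,0],[9,0],[9,0],[9,0],[9,0],[9,0],[9,0],[9,0],[9,0],[9,0],[9,0],[9,0],[9,0],[9,0]],[[9,0],[9,0],[9,0],[9,0],[9,0],[9,0],[9,0],[9,0],[9,0],[2,2,1,2,2,1],[9,0],[9,0],[9,2],[9,0],[9,0],[9,0]],[[9,0],[9,0],[9,0],[9,0],[9,0],[9,0],[9,0],[9,0],[9,0],[9,0],[9,0],[2,2,1,2,2,1],[9,0],[9,0],[9,0],[9,2]],[[9,0],[9,0],[9,0],[9,0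],[9,0],[9,0],[9,0],[9,0],[9,0],[9,0],[2,1,1],[9,0],[9,0],[9,2],[9,0],[9,0]],[[9,0],[9,0],[9,0],[9,0],[9,0],[9,0],[9,0],[9,0],[2,2,1,2,2,1],[9,0],[9,0],[9,0],[9,0],[9,0],[9,2],[9,0]],[[9,0],[9,0],[9,0],[9,0],[9,0],[9,0],[9,0],[9,2],[9,0],[9,0],[9,0],[9,0],[9,0],[9,0],[2,2,2,2],[9,0]],[[9,0],[9,0],[9,0],[9,0],[9,2],[9,0],[9,0],[9,0],[9,0],[9,0],[9,0],[9,0],[2,2,2,2],[9,0],[9,0],[9,0]],[[9,0],[9,0],[9,0],[9,0],[9,0],[9,0],[9,2],[9,0],[9,0],[9,0],[9,0],[9,0],[9,0],[2],[9,0],[9,0]],[[9,0],[9,0],[9,0],[9,0],[9,0],[9,2],[9,0],[9,0],[9,0],[9,0],[9,0],[9,0],[9,0],[9,0],[9,0],[2,2,2,2]],[[9,0],[9,0],[9,0],[9,0],[2,1,2,2,1,2,1,1],[9,0],[9,0],[9,0],[9,0],[9,2],[9,0],[9,0],[9,0],[9,0],[9,0],[9,0]],[[9,0],[9,0],[9,0],[9,0],[9,0],[9,0],[2,1],[9,0],[9,0],[9,0],[9,2],[9,0],[9,0],[9,0],[9,0],[9,0]],[[9,0],[9,0],[9,0],[9,0],[9,0],[9,0],[9,0],[2,1,2,2,1,2,1,1],[9,2],[9,0],[9,0],[9,0],[9,0],[9,0],[9,0],[9,0]],[[9,0],[9,0],[9,0],[9,0],[9,0],[2,1,2,2,1,2,1,1],[9,0],[9,0],[9,0],[9,0],[9,0],[9,2],[9,0],[9,0],[9,0],[9,0]]]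

/-- Generators of a complement in the centraliser. -/
def mGens : List (List ℕ) := [[0,0,2,4,2,5,2,3,4,2,1,1,3,2,1,1],[5,2,4,3,0,4,2,3,5,2,3,2,4,3,1,1]]

/-- Its elements. -/
def mEls : List (List ℕ) :=
  [
    [],
    [0,0,2,4,2,5,2,3,4,2,1,1,3,2,1,1],
    [5,2,4,3,0,4,2,3,5,2,3,2,4,3,1,1],
    [0,2,3,1,0,4,2,4,2,5,4,2,4,2,1,2,2,1],
    [5,2,4,3,0,2,2,5,5,3,1,2,1,4,2,1,3,2,1,2,1,1],
    [2,2,1,0,5,2,2,5,2,2,4,2,4,3,1,2,2,1,1],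
    [0,3,4,2,1,0,1,4,1,5,5,2,4,1,2,4,3,2,1,2,3,1],
    [2,2,1,2,0,2,5,3,2,5,2,4,3,2,1,1,4,3,2,3,1],
    [2,2,1,0,4,1,3,2,5,1,1,4,2,4,3,1,2,2,3],
    [3,0,1,2,1,0,4,2,2,5,3,1,4,2,4,3,2,1],
    [2,5,4,2,0,1,5,2,2,5,3,2,3,1,1,4,2,2,1,1,2],
    [4,3,0,3,1,5,2,5,1,3,1,4,2,1,2,2,1],
    [3,0,1,2,1,0,1,5,3,2,5,1,1,4,2,1,2,1,3,2,1,1],
    [1,5,2,2,5,3,1,4,2,1,1,3,1,1],
    [4,2,0,0,0,4,1,5,2,5,4,2,2,4,2,2,1],
    [1,0,1,0,2,0,3,1,5,4,2,5,1,4,2,1,4,2,2,1,2,1,1],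
    [5,3,0,2,0,2,5,2,2,1,5,1,1,2,1,4,1,3,2,1,2,1],
    [1,0,1,0,2,0,5,1,1,2,5,2,4,1,4,2,4,1,3,1,2,3],
    [4,2,0,0,0,4,5,1,2,5,1,2,3,4,3,2,3,1,2,1],
    [0,0,1,2,1,1,5,4,3,1,1,4,2,1,2,2,1],
    [0,2,2,5,0,3,5,1,2,1,5,3,1,1,4,2,2,1,1,3,1],
    [2,0,0,2,1,0,2,5,1,5,2,4,2,4,3,2,3,1,2],
    [5,0,0,0,2,0,2,4,5,3,5,4,2,4,3,2,1,3,1],
    [5,3,2,1,0,3,5,2,5,1,1,4,2,4,2,1,1,2],
    [2,5,4,2,0,5,2,2,5,2,4,2,1,1,4,3,2,1,3,2,1,1],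
    [5,0,0,0,2,0,2,5,1,3,2,5,1,2,4,1,2,1,3,2,1,1],
    [0,2,2,5,0,2,5,3,2,5,3,2,2,1,4,3,1,1,2,1,1],
    [2,0,0,2,1,0,1,3,4,2,5,3,4,1,2,1,4,1,2,3,1,1],
    [0,2,3,1,0,2,2,3,4,2,2,1,1,2,1,1],
    [0,5,4,2,0,0,5,5,3,2,5,1,4,3,1,2,2],
    [2,0,0,2,1,0,2,5,3,2,5,2,3,1,4,1,3,2,1,2,1],
    [2,0,2,0,0,5,1,5,3,4,2,1,4,2,3,1],
    [4,3,0,5,2,4,2,3,2,2,1,1],
    [1,0,0,2,3,0,4,5,4,2,1,5,1,2,1,4,1,1,3,1,2,1,1],
    [5,3,0,2,0,2,2,5,2,2,5,2,4,3,1,2,4,3,2,1,1,2],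
    [2,0,2,0,0,3,4,3,5,2,3,4,1,2,1,3],
    [0,5,4,2,0,0,1,5,2,3,5,1,2,4,1,2,2,1,2],
    [2,0,0,2,1,0,2,5,5,1,4,2,2,4,2,1,3,2,1],
    [0,3,4,2,1,0,4,2,5,3,4,1,2,4,2,1,2,2],
    [2,2,1,2,0,2,1,3,1,5,2,3,2,1,4,1,1,3,2,1,1],
    [0,5,4,2,0,0,4,1,2,5,3,1,3,4,3,1,2],
    [2,0,2,0,0,5,2,5,1,2,4,2,4,1,1,3,1,2,1],
    [3,0,1,2,1,0,5,1,2,5,1,5,3,1,2,4,2,1,1,3,2,1],
    [0,2,2,5,0,1,4,5,2,5,1,2,1,4,3,2,1],
    [2,2,1,2,0,3,5,2,5,1,2,3,4,1,1,3,2],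
    [1,0,0,2,3,0,2,4,5,3,5,2,2,4,2,2,1,1,2,1,1],
    [3,0,2,0,2,4,5,5,4,3,2,2,1,4,3,1,2,1],
    [5,3,2,1,0,5,2,1,5,5,2,4,1,2,4,1,3,1,1,2,1],
    [0,3,4,2,1,0,2,1,1,5,3,4,3,2,4,2,1,2,1,3,2],
    [0,2,2,5,0,3,1,5,4,2,5,2,2,4,2,4,2,1,3,1,2,1],
    [0,5,4,2,0,0,1,1,2,5,5,1,2,1,4,1,2,2,3,2,1,1],
    [2,0,2,0,0,3,5,2,5,1,1,2,1,4,2,1,3],
    [3,0,1,2,1,0,3,4,2,5,3,1,4,2,4,3,1,2,3],
    [2,5,4,2,0,1,1,5,2,5,2,2,4,2,4,3,1,1,2],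
    [4,3,0,1,2,5,2,5,3,1,4,2,1,2],
    [2,0,2,0,0,5,3,4,1,2,5,1,2,4,2,4,1,2,2,1,2,1,1],
    [5,0,0,0,2,0,1,2,5,5,1,4,2,1,4,1,3,1,1,2],
    [2,2,1,0,5,1,1,2,5,4,2,2,1,4,2,1,3,2,1,1],
    [4,2,0,0,0,2,5,4,2,5,3,1,4,2,4,3,1,2,2,1,1],
    [0,5,4,2,0,0,4,2,5,1,5,3,1,4,1,2,2,1,2,1],
    [0,0,2,1,3,1,5,1,1,4,2,1,2,2,1,1],
    [3,0,2,0,2,4,5,3,5,3,2,2,1,4,1,3,1],
    [3,0,2,0,4,2,4,2,5,2,3,2,4,3,2,1,3,2,1],
    [1,0,0,2,3,0,5,4,1,2,5,2,3,2,1,4,2,1,1,2],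
    [0,2,3,1,0,4,3,2,5,5,1,3,1,4,1,1,3],
    [4,2,0,0,0,5,1,2,5,4,2,4,2,1,2],
    [5,0,0,0,2,0,4,5,1,5,4,3,4,3,2,1,2,2,1,1],
    [2,2,1,0,5,5,2,4,1,3,4,1,1,3,1,2,1,1],
    [4,2,0,0,0,1,2,5,3,2,5,2,3,2,4,2,2,1,1,2,1],
    [1,0,1,0,2,0,4,2,5,3,2,5,3,1,2,4,1,2,1,3],
    [5,3,0,2,0,2,4,5,3,5,1,1,3,2,4,2,3,1,1],
    [1,0,1,0,2,0,4,2,2,5,1,1,4,2,4,1,3,1,1,2],
    [5,0,0,0,2,0,3,5,4,2,5,2,3,2,4,2,1,1,2],
    [0,2,2,5,0,2,5,1,3,2,5,3,1,1,4,3,1,2,1,1],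
    [4,3,0,4,5,5,4,2,1,4,2,3,2,2,1,1],
    [4,2,5,2,2,5,2,4,3,4,1,3,1,2],
    [0,5,4,2,0,0,5,3,4,5,2,5,1,3,4,1,2,1,3,1],
    [2,2,5,2,4,1,4,2,4,2,3,2],
    [0,2,3,1,0,1,4,1,2,5,4,3,4,2,4,1,1,3,1,2,1,1],
    [3,0,2,0,5,3,4,5,2,5,3,1,1,4,1,2,2],
    [5,3,2,1,0,4,2,2,5,1,4,1,2,1,4,1,3,2,1,2],
    [5,3,2,1,0,1,1,5,4,2,2,4,1,3,2,1,2],
    [1,0,0,2,3,0,1,4,2,1,5,1,2,4,1,2,1,3,2,1],
    [3,0,2,0,1,1,4,5,2,5,3,4,1,2,1,4,1,2,2,1,1,3],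
    [2,2,1,2,0,5,5,3,2,5,2,2,1,4,1,1,2,1,1],
    [2,0,0,2,1,0,1,2,5,2,5,3,2,1,4,1,2,1,1,2,1,1],
    [4,3,0,5,2,2,3,5,4,2,3,1,4,2,1,2,2],
    [2,4,2,5,4,2,3,1,4,1,2,3,1],
    [0,2,2,5,0,4,5,4,2,5,4,1,2,3,4,3,1,2,2,3,1,1],
    [5,0,0,0,2,0,5,3,4,5,2,5,2,1,2,4,2,2,1,1,3,1],
    [2,5,4,2,0,5,3,4,5,2,5,4,1,2,1,4,3,2,3,1,1],
    [4,2,0,0,0,5,2,2,5,5,2,3,2,1,4,1,2],
    [1,0,1,0,2,0,4,5,5,4,1,2,3,1,2],
    [0,0,5,5,2,5,4,1,2,1,4,1,2,3,1,2,1],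
    [5,2,4,3,0,2,2,3,5,2,2,3,4,2,1,3,2,1],
    [2,0,2,0,0,1,5,2,5,2,2,3,1,4,3,1,2,2,3,1],
    [5,2,4,3,0,2,5,2,2,1,5,1,3,2,1,4,1,2,2,1,2,1],
    [0,3,4,2,1,0,1,5,3,4,3,2,4,3,1,1],
    [5,3,2,1,0,5,1,4,2,5,2,4,2,2,1,4,2,1],
    [5,3,0,2,0,2,5,3,2,5,1,2,1,1,4,1,2,2,1],
    [3,0,2,0,1,2,5,1,5,2,4,2,2,1,4,2,1,3,1,1],
    [0,0,4,2,4,2,5,1,4,1,2,1,4,2,2,1,1,3],
    [2,0,0,2,1,0,1,3,2,5,2,2,1,1,4,2],
    [3,0,1,2,1,0,5,1,2,5,4,3,2,2,1,4,3,2,3,1],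
    [2,2,1,2,0,2,4,5,3,5,4,2,2,1,4,2,2,1,2,1,1],
    [1,0,1,0,2,0,2,2,3,5,4,1,2,3,1,4,3,2,1,2],
    [0,0,1,4,2,1,5,4,3,1,3,4,1,2,1,3,1,1],
    [5,2,4,3,0,4,2,1,5,5,1,3,2,1,4,1,3,1,1,2,1,1],
    [0,5,4,2,0,0,3,5,2,5,3,4,2,2,4,1,3,2],
    [2,0,2,0,0,2,5,4,2,5,2,4,3,2,1,1,4,2,1,3,2],
    [4,3,0,3,1,2,1,5,2,1,4,1,2,1,4,2,2,3,2,1],
    [5,3,0,2,0,2,5,1,3,2,5,1,4,2,2,4,1,2,1,1,2,1,1],
    [2,0,0,2,1,0,2,1,2,3,5,2,3,1,1,4,3,2,3,1],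
    [2,5,4,2,0,4,3,5,3,4,3,4,3,2,3,1,2,1],
    [0,2,3,1,0,5,2,1,1,5,2,1,3,2,1,4,1,2,2,1,2,1],
    [5,0,0,0,2,0,5,4,5,1,5,2,4,1,3,4,3,2,3],
    [0,2,2,5,0,3,5,2,5,3,2,4,3,1,2,2,3,1,1],
    [5,2,4,3,0,2,2,5,3,2,5,3,1,4,3,2,1,2,2],
    [2,2,1,0,1,4,2,4,2,5,4,2,1,2,2,1,1],
    [2,5,4,2,0,1,5,3,2,5,3,2,4,1,3,2,1,1,2,1],
    [5,3,0,2,0,5,5,2,5,3,1,2,3,4,2,3,2,2],
    [1,0,0,2,3,0,5,3,5,2,3,4,1,2,3,1],
    [0,3,4,2,1,0,1,5,2,3,5,4,3,2,1,1,4,3,2,3,1,1],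
    [5,3,2,1,0,2,5,2,5,4,3,1,1,4,2,3,2,1,1],
    [4,3,2,5,5,4,1,2,3,4,1,2,1,3],
    [3,0,1,2,1,0,4,2,3,5,4,1,1,3,4,1,1,3,2,1],
    [0,0,4,1,2,1,1,5,3,1,4,2,1,1],
    [2,5,4,2,0,2,4,5,4,2,5,1,2,1,4,1,3,1,2,3,1],
    [0,2,3,1,0,4,2,5,1,5,4,1,2,3,1,4,3,2,1,2,1,1],
    [0,5,4,2,0,0,2,2,1,5,5,1,4,2,1,4,2,1,1,3],
    [2,2,1,2,0,1,2,5,2,2,1,5,3,4,2,2,4,1,2,3,1,2,1],
    [5,3,2,1,0,3,4,2,5,4,1,3,4,1,2,2,3,1,1],
    [0,3,4,2,1,0,4,2,2,5,4,2,3,1,4,2,1,2,1],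
    [2,0,0,2,1,0,4,2,2,1,5,2,4,2,1,2,1,3,2],
    [3,0,1,2,1,0,5,5,4,2,2,5,1,4,3,1,2,4,3,1,1],
    [5,3,0,2,0,1,4,1,5,2,5,1,4,1,2,2,1],
    [0,3,4,2,1,0,2,2,1,5,5,2,3,1,1,4,2,2,1,2,2,1,1],
    [2,2,1,2,0,3,1,5,4,2,5,3,1,4,1,2,2,1],
    [4,3,0,4,5,1,5,3,4,3,4,2,2,3,2],
    [4,2,0,0,0,4,1,5,5,2,2,1,4,1,2,2,1,1,3,1],
    [2,2,1,0,4,5,5,1,1,4,3,1,1,2],
    [1,0,1,0,2,0,3,4,5,2,5,1,1,4,2,4,3,1,2,2,3,1],
    [1,0,0,2,3,0,1,4,1,5,5,4,1,2,3,1,4,3,2,1,3,2],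
    [0,2,3,1,0,3,4,1,2,5,4,3,1,1,4,3,2,1,2,2,1,1],
    [2,5,4,2,0,1,5,2,5,4,1,4,2,4,3,1,2,2,3],
    [5,3,0,2,0,2,1,3,1,5,3,4,2,1,4,1,3,1,2],
    [1,0,0,2,3,0,1,5,4,2,5,4,3,2,1,4,3,1,3,2,1,1],
    [5,2,4,3,0,2,4,2,2,1,5,1,3,4,2,1,3,2,1,2,1,1],
    [2,2,1,0,1,5,3,2,5,2,1,2,4,1,3,2,1],
    [4,2,0,0,0,2,1,2,3,5,1,2,1,1,4,1,2,1,3,2,1],
    [3,1,5,3,4,2,2,4,1,2,2,3],
    [0,2,3,1,0,1,4,1,5,5,2,2,3,4,1,2,3,1,2,1],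
    [0,3,4,2,1,0,4,5,1,2,5,3,4,2,4,3,2,2],
    [2,2,1,2,0,1,4,1,5,2,5,2,4,2,1,2,4,2,2,1,1,2,1],
    [2,0,2,0,0,3,5,3,2,5,3,4,2,4,2,2,3,2,1],
    [0,0,1,4,2,5,2,4,3,1,2,4,1,2,1,3,2,1,1],
    [3,0,1,2,1,0,5,1,2,1,5,2,4,2,1,1,3,2,1],
    [2,2,1,0,3,1,5,2,5,2,4,2,1,1,4,1,2,3,1,1],
    [5,3,2,1,0,3,2,5,5,2,2,4,1,3,2,1,2],
    [4,3,0,5,2,2,1,5,1,2,3,1,4,2,1,2,2],
    [1,0,1,0,2,0,5,1,2,5,1,5,1,3,2,4,2,1,3,1,2,1],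
    [5,0,0,0,2,0,4,2,4,2,5,4,1,3,1,1],
    [3,0,2,0,1,2,5,5,2,1,4,2,2,3],
    [1,0,0,2,3,0,2,2,5,4,3,1,1,4,1,2,1,1,2,1,1],
    [5,2,4,3,0,4,2,5,2,2,5,1,1,2,1,4,3,2,1,1,2,1,1],
    [0,2,2,5,0,1,2,5,2,2,1,5,4,2,1,2,4,1,2,2,3,2,1],
    [3,5,4,1,1,3,2,4,2,3,2,2,1,1],
    [3,0,2,0,1,4,5,2,5,2,2,1,1,4,2,3,1,1]]

/-- Its table. -/
def mNext : List (List ℕ) := [[1,2],[0,3],[4,5],[6,7],[2,8],[9,0],[3,10],[11,1],[12,13],[5,14],[15,16],[7,17],[8,18],[19,4],[20,21],[10,22],[23,6],[24,25],[26,27],[13,28],[14,29],[30,9],[31,32],[16,33],[17,34],[35,11],[18,36],[37,12],[38,39],[40,41],[21,42],[22,43],[44,15],[45,46],[47,48],[25,49],[50,51],[27,52],[28,53],[54,19],[29,55],[56,20],[57,58],[58,59],[32,60],[33,61],[62,23],[34,63],[64,24],[65,50],[36,35],[66,26],[67,68],[69,70],[39,71],[72,73],[41,74],[42,75],[43,30],[76,31],[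77,78],[79,80],[46,81],[82,83],[48,84],[49,85],[51,86],[52,87],[88,37],[53,89],[80,38],[90,72],[55,54],[91,40],[84,92],[93,94],[59,95],[60,96],[97,44],[61,98],[70,45],[99,82],[63,62],[100,47],[74,101],[102,103],[104,105],[106,107],[68,108],[109,110],[71,111],[73,112],[113,56],[75,114],[107,57],[115,116],[117,118],[78,119],[120,121],[81,122],[83,123],[124,64],[85,125],[118,65],[86,126],[127,66],[87,128],[94,67],[129,109],[89,88],[130,69],[131,132],[133,134],[92,135],[136,137],[95,138],[139,76],[96,140],[103,77],[141,120],[98,97],[142,79],[143,144],[145,146],[101,147],[148,149],[150,151],[105,145],[152,153],[108,154],[110,155],[111,142],[151,90],[112,156],[157,91],[158,136],[114,113],[159,93],[153,160],[116,133],[156,150],[119,161],[121,162],[122,130],[160,99],[123,152],[163,100],[164,148],[125,124],[165,102],[126,117],[132,104],[128,127],[138,106],[161,165],[166,143],[140,139],[134,166],[135,163],[137,141],[144,115],[154,159],[167,131],[146,167],[147,157],[149,129],[155,164],[162,158]]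

/-- Its tree. -/
def mTree : List (ℕ × ℕ) := [(0,0),(0,0),(0,1),(1,1),(2,0),(2,1),(3,0),(3,1),(4,1),(5,0),(6,1),(7,0),(8,0),(8,1),(9,1),(10,0),(10,1),(11,1),(12,1),(13,0),(14,0),(14,1),(15,1),(16,0),(17,0),(17,1),(18,0),(18,1),(19,1),(20,1),(21,0),(22,0),(22,1),(23,1),(24,1),(25,0),(26,1),(27,0),(28,0),(28,1),(29,0),(29,1),(30,1),(31,1),(32,0),(33,0),(33,1),(34,0),(34,1),(35,1),(36,0),(36,1),(37,1),(38,1),(39,0),(40,1),(41,0),(42,0),(42,1),(43,1),(44,1),(45,1),(46,0),(47,1),(48,0),(49,0),(51,0),(52,0),(52,1),(53,0),(53,1),(54,1),(55,0),(55,1),(56,1),(57,1),(59,0),(60,0),(60,1),(61,0),(61,1),(62,1),(63,0),(63,1),(64,1),(65,1),(66,1),(67,1),(68,0),(69,1),(71,0),(73,0),(74,1),(75,0),(75,1),(76,1),(77,1),(78,0),(79,1),(81,0),(83,0),(84,1),(85,0),(85,1),(86,0),(86,1),(87,0),(87,1),(88,1),(89,0),(89,1),(90,1),(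91,1),(92,0),(93,1),(95,0),(95,1),(96,0),(96,1),(97,1),(98,0),(98,1),(99,1),(100,1),(101,0),(102,1),(104,1),(105,0),(106,1),(108,0),(110,0),(111,0),(111,1),(112,0),(112,1),(113,1),(114,0),(114,1),(115,1),(116,0),(117,1),(119,0),(121,0),(122,0),(122,1),(123,0),(123,1),(124,1),(125,0),(125,1),(126,0),(126,1),(128,0),(128,1),(129,1),(130,1),(133,1),(134,0),(135,0),(137,0),(138,1),(141,1),(142,1),(146,0),(147,0),(149,0),(155,0),(162,0)]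

/-- A further generator of the complement. -/
def mA : List ℕ := [3,1,2,0,3,1,2,1,5,4,1,2,1,4,1,3,2,1,1,2,1]

/-- Its part in the subgroup. -/
def mAI : ℕ := 1

/-- The actions. -/
def mAct : List ℕ := [22833,33633,42546]

/-- Membership of the common elements. -/
def mMem : List (ℕ × ℕ) := [(0,47),(1,167),(9,47),(6,97),(1,162),(13,53)]

/-- The orbit of the chosen involution. -/
def mOrb : List ℕ := [0,0,0,1,7,5,2,3,9,11,4,6,16,13,8,10]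

/-- Elements moving the subgroup to all its conjugates. -/
def mNConj : List (List ℕ) := [[],[1,4,3,1,1,4,1,3,1,1,2,1,1],[4,3,1,1,4,3,2,1,2],[2,4,1,2,4,1,2,2,1,1,3,1],[5,1,3,1,5,3,1,4,2,3,2,2,1,1],[5,1,3,1,5,1,3,1,4,1,1,3,2,1],[5,1,3,1,5,3,2,1,2,4,1,2,2,1,1],[3,4,5,5,2,3,2,1,4,2,1,3,2],[5,5,1,3,1,4,2,2,1,2,2],[1,3,1,5,2,3,1,4,1,2,1,3,1,1],[3,4,3,5,2,4,2,1,4,2,1,2,1],[2,4,5,5,1,3,1,4,1,2,2,3,2,1,1],[4,3,0,4,5,5,2,4,3,4,3,1,3,2,1,1],[4,3,0,3,1,5,1,4,2,2,4,2,1,3,2,1],[2,2,1,0,4,5,5,3,1,3,4,2,2,1,2,1]]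

/-- Their inverses. -/
def mNConjI : List (List ℕ) := [[],[1,4,3,1,1,4,1,3,1,1,2,1,1],[4,3,1,1,4,3,2,1,2],[2,4,1,2,4,1,2,2,1,1,3,1],[5,3,5,1,4,1,1,3],[3,1,2,1,5,3,1,1,4,3],[5,2,5,5,2,1,4,2,4,3,1,2,2,3,1],[4,2,2,3,5,4,1,1,3,4,1,1,3,1],[5,5,1,3,1,4,2,2,1,2,2],[5,5,2,5,1,3,1,4,3,2,1],[2,1,5,5,4,1,4,2,4,2,1,3,2,1,2,1,1],[5,5,3,1,4,3,1,2,2,3],[0,0,2,0,2,5,1,3,2,5,4,3,2,2,1,4,2,1,3,2,1],[0,0,2,0,1,5,4,2,5,4,3,2,2,1,4,2,1,1],[2,4,2,1,0,4,5,5,1,4,2,2,4,3,2,1,3,2]]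

/-- Witnesses that these differ. -/
def mNWit : List (List ℕ) := [[0,2,2,2,2,2,2,2,2,2,2,2,2,2,2],[2,0,2,2,2,2,2,2,2,2,2,2,2,2,2],[2,2,0,2,2,2,2,2,2,2,2,2,2,2,2],[2,2,2,0,2,2,2,2,2,2,2,2,2,2,2],[2,2,2,2,0,2,2,2,2,2,2,2,2,2,2],[2,2,2,2,2,0,2,2,2,2,2,2,2,2,2],[2,2,2,2,2,2,0,2,2,2,2,2,2,2,2],[2,2,2,2,2,2,2,0,2,2,2,2,2,2,2],[2,2,2,2,2,2,2,2,0,2,2,2,2,2,2],[2,2,2,2,2,2,2,2,2,0,2,2,2,2,2],[2,2,2,2,2,2,2,2,2,2,0,2,2,2,2],[2,2,2,2,2,2,2,2,2,2,2,0,2,2,2],[2,2,2,2,2,2,2,2,2,2,2,2,0,2,2],[2,2,2,2,2,2,2,2,2,2,2,2,2,0,2],[2,2,2,2,2,2,2,2,2,2,2,2,2,2,0]]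

/-- Every complement is conjugate to the chosen one. -/
def mComp : List (List (ℕ × ℕ)) := [[(0,0),(17,1),(17,1),(18,1),(18,1),(17,1),(17,1),(12,0),(17,8),(17,9),(17,9),(17,8),(17,8),(17,9),(17,9),(17,8)],[(18,1),(17,1),(17,1),(14,0),(2,0),(17,1),(17,1),(18,1),(17,8),(17,9),(17,9),(17,8),(17,8),(17,9),(17,9),(17,8)],[(16,1),(16,1),(16,1),(16,1),(16,1),(16,1),(16,1),(16,1),(16,1),(16,1),(16,1),(16,1),(16,1),(16,1),(16,1),(16,1)],[(16,1),(16,1),(16,1),(16,1),(16,1),(16,1),(16,1),(16,1),(16,1),(16,1),(16,1),(16,1),(16,1),(16,1),(16,1),(16,1)],[(16,13),(16,13),(16,13),(16,13),(16,13),(16,13),(16,13),(16,13),(16,13),(16,13),(16,13),(16,13),(16,13),(16,13),(16,13),(16,13)],[(16,13),(16,13),(16,13),(16,13),(16,13),(16,13),(16,13),(16,13),(16,13),(16,13),(16,13),(16,13),(16,13),(16,13),(16,13),(16,13)],[(16,12),(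16,12),(16,12),(16,12),(16,12),(16,12),(16,12),(16,12),(16,12),(16,12),(16,12),(16,12),(16,12),(16,12),(16,12),(16,12)],[(16,12),(16,12),(16,12),(16,12),(16,12),(16,12),(16,12),(16,12),(16,12),(16,12),(16,12),(16,12),(16,12),(16,12),(16,12),(16,12)],[(16,13),(16,13),(16,13),(16,13),(16,13),(16,13),(16,13),(16,13),(16,13),(16,13),(16,13),(16,13),(16,13),(16,13),(16,13),(16,13)],[(16,13),(16,13),(16,13),(16,13),(16,13),(16,13),(16,13),(16,13),(16,13),(16,13),(16,13),(16,13),(16,13),(16,13),(16,13),(16,13)],[(16,12),(16,12),(16,12),(16,12),(16,12),(16,12),(16,12),(16,12),(16,12),(16,12),(16,12),(16,12),(16,12),(16,12),(16,12),(16,12)],[(16,12),(16,12),(16,12),(16,12),(16,12),(16,12),(16,12),(16,12),(16,12),(16,12),(16,12),(16,12),(16,12),(16,12),(16,12),(16,12)],[(18,1),(17,1),(17,1),(6,0),(10,0),(17,1),(17,1),(18,1),(17,8),(17,9),(17,9),(17,8),(17,8),(17,9),(17,9),(17,8)],[(8,0),(17,1),(17,1),(18,1),(18,1),(17,1),(17,1),(4,0),(17,8),(17,9),(17,9),(17,8),(17,8),(17,9),(17,9),(17,8)],[(16,1),(16,1),(16,1),(16,1),(16,1),(16,1),(16,1),(16,1),(16,1),(16,1),(16,1),(16,1),(16,1),(16,1),(16,1),(16,1)],[(16,1),(16,1),(16,1),(16,1),(16,1),(16,1),(16,1),(16,1),(16,1),(16,1),(16,1),(16,1),(16,1),(16,1),(16,1),(16,1)]]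

/-- The relations used. -/
def mRels : List (List ℕ) := [[0,0],[1,1,1],[0,1,0,1,0,1,0,1,0,1,0,1,0,1],[0,1,0,1,1,0,1,0,1,1,0,1,0,1,1,0,1,0,1,1]]

/-- A partition kept by the complement. -/
def mLabel : ℕ := 0x400010000c0000000140a000081802030081402050180006000000c0201018000000018140a000000406001400002050000402280080450010080400010180400000001800010000406010180c00000000c0205018040c01000040c010000000000000c0005000000a010280c00050080c0201000040000008040005028140a000180402000300c02000180002280081402010080c0005000000c000180c0000028000c060000000050281800003b80c00000000c0000000000203018040000000180005008000205028000a000080000030000406000080050011400402010280000060000400050300c0a00000040205030040a010000c00000180c00010001400000000006280180c06010000002010080c06010000c00010280400000001402050000c0000008180000000180a01018000200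

/-- The subgroup moves it. -/
def mLabWit : List ℕ := [0,1,1,2,3,4,3,2,1,1,0,0,1,3,0,0]

/-- The action on the second subgroup. -/
def wActF : List ℕ := [33825,51745,23585,51745,28193,38689,28193,46625,55585,46625,28193,38689,28193,60193,33825,55585,20257,55585,33825,60193,33825,63521,63521,32033,33825,32033,63521,63521,33825,60193,33825,55585,20257,55585,33825,60193,33825,20257,46625,20257,51745,23585,51745,32033,32033,42273,51745,42273,32033,32033,51745,23585,51745,20257,46625,20257,51745,23585,51745,23585,23585,42273,38689,38689,23585,51745,38689,38689,23585,42273,23585,23585,42273,23585,23585,20257,46625,20257,23585,32033,32033,42273,42273,32033,32033,20257,46625,20257,42273,63521,28193,63521,42273,28193,28193,46625,55585,46625,28193,28193,38689,38689,63521,60193,28193,60193,38689,38689,38689,38689,38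689,46625,55585,46625,38689,63521,63521,42273,42273,46625,55585,46625,55585,46625,46625,60193,32033,60193,55585,20257,28193,28193,55585,20257,55585,55585,55585,55585,60193,32033,60193,60193,42273,42273,63521,63521,42273,42273,55585,60193,63521,63521,63521,42273,33825,23585,60193,60193,60193,23585,33825,33825,20257,20257,20257,63521,63521,20257,32033,32033,32033,28193,28193,38689,32033,51745,33825,33825,33825,33825,51745,38689,60193,23585,46625,46625,51745,51745,51745,51745,28193,28193]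

/-- The same for generators. -/
def wgActF : List ℕ := [51745,23585,51745]

/-- The action of the further generator from any candidate. -/
def mCand : List (List (List ℕ)) := [[[9,0],[9,0],[9,0],[9,1],[9,0],[9,0],[9,0],[9,0],[9,0],[9,0],[9,0],[9,0],[9,0],[9,0],[9,0],[9,0]],[[9,0],[9,0],[9,0],[9,0],[9,0],[9,0],[9,0],[9,0],[9,0],[9,0],[9,0],[9,0],[9,0],[9,0],[9,0],[9,0]],[[9,0],[9,0],[9,0],[9,0],[9,0],[9,0],[9,0],[9,0],[9,0],[9,0],[9,0],[9,0],[9,0],[9,0],[9,0],[9,0]],[[9,0],[9,0],[9,0],[9,0],[9,0],[9,0],[9,0],[9,0],[9,0],[9,0],[9,0],[9,0],[9,0],[9,0],[9,0],[9,0]],[[9,0],[9,0],[9,0],[9,0],[9,0],[9,0],[9,0],[9,0],[9,0],[2,2,0,2,0],[9,0],[9,0],[9,0],[9,1],[9,0],[9,0]],[[9,0],[9,0],[9,0],[9,0],[9,0],[9,0],[9,0],[9,0],[9,0],[9,0],[9,0],[0,2,0,2,2],[9,0],[9,0],[9,1],[9,0]],[[9,0],[9,0],[9,0],[9,0],[9,0],[9,0],[9,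0],[9,0],[9,0],[9,0],[2],[9,0],[9,1],[9,0],[9,0],[9,0]],[[9,0],[9,0],[9,0],[9,0],[9,0],[9,0],[9,0],[9,0],[0,2,1,0,2,1,0,1,1,2,0,1,0],[9,0],[9,0],[9,0],[9,0],[9,0],[9,0],[9,1]],[[9,0],[9,0],[9,0],[9,0],[9,0],[9,0],[9,1],[9,0],[9,0],[9,0],[9,0],[9,0],[9,0],[9,0],[1,2,1,0,1,2,1],[9,0]],[[9,0],[9,0],[9,0],[9,0],[9,0],[9,1],[9,0],[9,0],[9,0],[9,0],[9,0],[9,0],[2,1,2,2,2,1,0],[9,0],[9,0],[9,0]],[[9,0],[9,0],[9,0],[9,0],[9,0],[9,0],[9,0],[9,1],[9,0],[9,0],[9,0],[9,0],[9,0],[2,1,2,1,0,2,1,2,1],[9,0],[9,0]],[[9,0],[9,0],[9,0],[9,0],[9,1],[9,0],[9,0],[9,0],[9,0],[9,0],[9,0],[9,0],[9,0],[9,0],[9,0],[2,1,0,1,0,1,1]],[[9,0],[9,0],[9,0],[9,0],[2,0,1,1,0,2,0,2,1],[9,0],[9,0],[9,0],[9,1],[9,0],[9,0],[9,0],[9,0],[9,0],[9,0],[9,0]],[[9,0],[9,0],[9,0],[9,0],[9,0],[9,0],[1,2,1,0,1,2,1,2,1,0],[9,0],[9,0],[9,0],[9,0],[9,1],[9,0],[9,0],[9,0],[9,0]],[[9,0],[9,0],[9,0],[9,0],[9,0],[9,0],[9,0],[2,1,0,1,1,0,1,1],[9,0],[9,1],[9,0],[9,0],[9,0],[9,0],[9,0],[9,0]],[[9,0],[9,0],[9,0],[9,0],[9,0],[1,0,1,1,0,1,1,2],[9,0],[9,0],[9,0],[9,0],[9,1],[9,0],[9,0],[9,0],[9,0],[9,0]]]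

/-- The generators of the amalgam. -/
def spqW : List (List ℕ) := [[3,0,2,0,2,1,2,5,2,5,3,4,2,4,2,3,2],[2,4,0,2,0,0,2,1,3,1,5,2,4,2,1,4,2,3,2,2,1,1],[1,0,1,0,2,0,5,4,2,1,5,2,1,4,1,2,1,4,2,1,2,3],[5,3,4,2,1,0,2,3,5,3,2,1,1,4,1,2,3,1,1]]

/-- Their inverses. -/
def spqI : List (List ℕ) := [[3,0,2,0,2,1,2,5,2,5,3,4,2,4,2,3,2],[1,0,0,2,3,0,2,4,1,2,5,2,3,1,1,4,2,1,1,3,2],[1,0,1,0,2,0,1,2,5,2,5,2,2,1,1,4,2,2,3,2],[0,2,1,0,1,4,1,5,5,1,3,2,4,1,2,1,1,2,1,1]]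

/-- The generators of the centraliser in them. -/
def centExpr : List (List ℕ) := [[0,1,1,2,0,1,2,1,2,1],[0,2,0,2,2,1,2,0,1,1,2,0],[2,1,2,0,1,2,2,1,1],[0,1,0,1,1,0,1,0,1,1]]

/-- Generators of a Sylow subgroup for three. -/
def threeGens : List (List ℕ) := [[4,1,5,2,5,1,4,2,2,4,1,1,3,2],[1,4,3,1,1,4,1,2,1,1,2],[3,1,3,4,2,1,3,1,1],[4,5,1,5,3,1,4,3,1,2,2,1],[2,4,5,5,4,3,4,2,1,3,2],[5,1,3,1,5,1,3,4,1,1,2,1]]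

/-- Its elements. -/
def threeEls : List (List ℕ) :=
  [
    [],
    [4,1,5,2,5,1,4,2,2,4,1,1,3,2],
    [1,4,3,1,1,4,1,2,1,1,2],
    [3,1,3,4,2,1,3,1,1],
    [4,5,1,5,3,1,4,3,1,2,2,1],
    [2,4,5,5,4,3,4,2,1,3,2],
    [5,1,3,1,5,1,3,4,1,1,2,1],
    [1,2,5,2,5,2,3,4,2,2,3,1,1],
    [4,1,5,2,5,3,1,2,4,2,1,2,3,1],
    [4,1,5,2,5,2,4,3,1,2,4,1,3,2,1],
    [5,1,2,5,4,1,1,3,4,2,1,2,1,3,2,1,1],
    [2,1,2,3,5,2,4,1,3,4,2,1],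
    [5,5,4,2,2,5,3,1,2,4,3,1,2],
    [4,3,1,1,4,1,1,3,1,1],
    [4,1,1,3,4,1,3,2,1,2,1,1],
    [4,5,1,5,2,1,1,2,1,4,1,2,2,3,1],
    [2,4,5,5,2,4,1,4,2,4,1,3,2],
    [5,1,3,1,5,2,4,2,1,1,4,2,1,2],
    [2,4,2,1,4,2,1,1,3,1,1],
    [4,5,1,5,4,2,2,4,1,3,1],
    [2,4,5,5,2,2,1,4,2,3,2,2],
    [5,1,3,1,5,1,2,1,3,4,1,2,2,3],
    [2,5,2,2,5,1,1,2,1,4,3,2,1,3,2],
    [2,4,5,1,5,3,1,4,2,2,1,1,3,1],
    [3,2,5,5,1,4,1,2,3,1,2],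
    [4,5,3,5,1,3,4,2,1],
    [5,2,1,1,5,1,1,4,2,4,3,2,1,2,1],
    [5,2,1,1,5,4,1,2,3,4,1,2,3,1,2,1,1],
    [4,2,1,5,1,2,4,2,4,1,1,3],
    [5,2,1,5,5,1,4,2,4,1,3,2,1,2,2,1,1],
    [1,4,1,5,5,1,4,3,1,1,4,2,2,1,1,2],
    [5,5,1,2,1,1,4,2,1,1,3,2],
    [5,1,3,1,5,4,2,1,2,4,2,2,3,2],
    [3,1,5,2,3,1,1,4,1,2,3,1,2,1],
    [1,2,5,2,5,4,2,2,4,1,2,1],
    [1,2,5,2,5,1,3,1,4,2,2,1,2],
    [2,5,2,2,5,2,3,1,1,4,3,2,1,3,2],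
    [5,2,1,1,5,3,1,4,2,4,3,2,1,2,3,1,1],
    [1,4,2,4,2,5,3,2,1,1,4,3,2,1,2,1],
    [4,1,5,2,5,1,3,2,4,2,1,2,2],
    [4,1,5,2,5,3,1,3,4,2,1,2,3,1],
    [5,1,2,5,3,4,2,1,1,3,2],
    [2,1,2,3,5,4,3,1,1,4,3,2,1,2,2,1],
    [5,5,4,2,2,5,1,2,1,1,4,2,2,3,1],
    [4,1,5,2,5,4,2,4,3,4,3,1,2,2,3],
    [5,1,2,5,4,3,1,1,4,1,3,2],
    [2,1,2,3,5,4,2,2,1,4,3,2,1,2,2,1],
    [5,5,4,2,2,5,3,4,2,1,4,1,3,2,1,2,2,1,1],
    [4,3,5,4,2,1,1,4,2,1,3,1,2],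
    [1,2,5,5,2,4,1,3,4,3,2,1,2,1],
    [5,3,4,1,2,5,4,2,4,1,2,2,3,2,1],
    [2,3,5,2,1,4,1,2,1,4,1,2,3,1,2],
    [4,5,5,2,4,1,3,4,3,2,1,3,1],
    [5,1,3,2,5,3,2,1,4,2,1,1,3,2,1],
    [4,5,2,5,3,1,2,4,3,2,3,1,2,1,1],
    [5,5,4,2,2,5,4,1,3,4,3,1,3,2,1,1],
    [2,3,5,2,5,3,4,2,2,1],
    [1,1,4,3,2,2,1],
    [4,5,1,5,1,3,1,4,2,1,2,2,1,1],
    [2,4,5,5,4,3,1,3,4,1,3,2,1,1],
    [5,1,3,1,5,4,2,3,1,1],
    [3,2,2,1,4,1],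
    [4,5,1,5,3,2,3,1,1,4,3,2,1,2,3,1],
    [2,4,5,5,1,1,3,2,4,2,2,3,2,1],
    [5,1,3,1,5,4,2,3,1,4,3,2,2,1],
    [2,5,2,2,5,1,4,1,2,1,4,3,2,1,2,1],
    [2,4,5,1,5,2,1,1,2,1,4,2,3,1,2],
    [3,2,5,5,2,4,1,4,2,4,1,2,1,3,1],
    [4,5,3,5,2,4,2,1,1,4,3,2,1,1,2,1],
    [5,2,1,1,5,4,1,2,3,1,4,2,1,1,3,2,1],
    [5,2,1,1,5,2,2,3,4,1,3,2,1,2,2],
    [4,2,1,5,4,3,4,2,4,2,3,2,2,1,1],
    [5,2,1,5,5,2,2,4,2,4,1,2,2,1],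
    [1,4,1,5,5,2,4,1,3,4,2,1,2,1,3,2,1,1],
    [5,5,1,2,3,4,2,2,1,2,2,1],
    [5,1,3,1,5,4,1,2,3,1,4,1],
    [3,1,5,3,2,1,1,4,1,3,1,1,2,1],
    [4,5,1,5,4,1,3,1,1],
    [2,4,5,5,2,3,2,4,3,1,2,2,3,1],
    [2,5,2,2,5,3,4,3,4,1,1,3,1,2,1],
    [2,4,5,1,5,1,4,2,4,1,2,2,3,1,1],
    [3,2,5,5,4,1,4,2,4,2,1,1],
    [4,5,3,5,4,3,4,2,4,1,2,3,1,2,1],
    [5,2,1,1,5,1,3,1,4,1,2,1,3,2,1],
    [4,2,1,5,4,2,2,4,1,2,2,1,1,3],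
    [5,2,1,5,5,2,1,4,2,4,2,1,1,2],
    [1,4,1,5,5,2,4,3,4,2,3,1,2,1,1],
    [5,5,1,3,2,1,2,2,1],
    [3,1,5,4,3,2,2,1,4,3,1],
    [5,1,2,5,1,2,1,1,4,3,2,2,1],
    [1,3,4,2,5,4,2,3,1,4,1,3,1],
    [3,4,1,2,5,2,4,1,4,2,4,3,2,1,2],
    [2,2,5,5,1,1,3,4,2,3,1,1],
    [4,3,5,2,4,3,2,4,3,2,1,2],
    [2,1,1,5,1,1,4,1,3,2,1,2],
    [5,3,4,2,1,3,2],
    [3,4,1,2,5,4,3,2,2,1,4,1,2,2,1,1],
    [1,2,5,5,1,3,2,4,2,1,3,2,1,1],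
    [1,2,5,1,1,4,2,3,1,1],
    [1,3,2,5,4,2,2,4,2,1,2,1,3,2],
    [1,3,1,5,3,1,2,3,1],
    [2,2,3,5,3,2,3,1,1,4,1,3,1,1,2],
    [5,3,4,1,2,5,1,1,3,4,3,2,3,1,2,1,1],
    [2,3,2,5,5,2,2,4,2,4,2,2,1,1,2],
    [2,1,2,3,5,1,4,3,1,1,4,1,2,1,3,2],
    [2,1,2,3,5,4,1,1,3,2,4,1,2,2,3,1,1],
    [5,3,4,5,2,5,4,2,3,1,4,2,2,1,1,2],
    [2,5,2,1,5,3,1,4,2,3],
    [2,1,2,3,5,4,1,2,3,4,1,3,2,1],
    [5,3,4,5,2,5,1,4,2,1,4,3,1,1,2,1,1],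
    [2,5,2,1,5,4,1,2,3,1,4,1,2,2],
    [2,3,5,2,1,1,2,1,4,3,2,1,1],
    [2,3,5,4,2,2,4,2,2,1,1,2,1],
    [5,2,2,3,5,2,3,4,3,2,2,1,1],
    [5,5,4,2,2,5,1,3,2,1],
    [2,5,2,1,5,3,4],
    [1,4,1,2,5,1,2,1,4,2,2,1,1,2,1],
    [4,1,5,5,4,1,3,4,1,3,1,2,3,1],
    [4,5,3,5,4,2,1,1,4,3],
    [1,4,1,5,5,2,4,2,1,2,4,1,2,1,3],
    [5,1,3,2,5,2,1,1,4,1,1,3,2],
    [2,5,5,2,1,5,2,1,3,4,1,1,3,2,1],
    [4,5,2,5,1,4,2,1,4,3,1,2,2,3],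
    [4,5,2,5,3,4,2,4,3,2,3,1,2,1,1],
    [2,2,1,1,5,4,3,2,2,1,4,1,1,3,1,2],
    [5,5,2,3,1,1,4,1,3,1,1,2],
    [3,1,5,1,2,1,1,4,2,3,1,1],
    [1,5,5,1,2,3,4,3,2,2,1,1],
    [1,5,4,2,5,4,2,2,1,4,2,1,3,2,1,2,1,1],
    [1,2,5,2,5,2,1,1,4,2,1,1],
    [1,2,5,2,5,3,1,4,3,1,2,3,1],
    [2,5,2,2,5,3,4,2,2,4,1,3,1,1],
    [1,4,2,4,2,5,2,4,2,1,3],
    [1,2,5,2,5,4,1,2,1,4,3,2,3,1,1],
    [1,4,2,4,2,5,4,1,4,2,4,2,1,3,2],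
    [1,3,4,2,5,2,3,1,4,1,2,1],
    [3,4,1,2,5,2,2,4,2,4,1,1,3],
    [2,2,5,5,2,4,2,2,1,4,2,1,2,1],
    [5,3,4,5,2,5,1,2,1,3,4,2,1,1,2],
    [2,5,2,1,5,1,3,1,4,1,3,2,1,2,1,1],
    [1,3,2,5,2,3,4,3,1,2,2,1,1],
    [4,2,2,5,1,3,1,4,1,3,1],
    [1,4,2,4,2,5,1,2,3,4,2,3,2],
    [5,2,5,5,2,1,4,2,4,1,3,1,1],
    [4,1,5,2,5,3,4,1,2,1],
    [5,1,2,5,3,1,3,4,2,2,1,2,2,1],
    [5,5,4,2,2,5,1,3,2,4,3,2,2,1],
    [4,1,5,2,5,3,4,1,2,4,3,2,2,1],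
    [5,1,2,5,1,2],
    [5,5,4,2,2,5,4,1,2,4,1,3,2,1],
    [4,3,5,3,2,2,4,2,2,3],
    [1,2,5,5,2,3,1,2,1],
    [5,3,4,1,2,5,4,2,3,1,1,4,1,3,1],
    [4,5,5,4,1,3,4,1,2,2,3],
    [5,1,3,2,5,2,3,1,4,3,2,1,1,2,1,1],
    [4,5,2,5,1,2,1,1,4,1,3,1,2,3],
    [2,3,5,2,5,1,1,4,1,3,2,1,2,2,1,1],
    [5,3,4,1,2,5,2,4,3,2,4,2,2,1,2,1,1],
    [4,5,5,2,4,3,2,1,1,4,1,2,3,1,2],
    [2,3,5,2,5,2,3,1,1,4,1,3,1,1,2,1,1],
    [5,2,3,5,1,1,3,2,4,1,3,1,2,1,1],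
    [1,1,2,5,5,3,1,2,3,4,1,3,1,2,3,1,1],
    [2,5,2,1,4,1,2,1,4,2,3,1,2],
    [3,4,5,2,5,4,2,4,1,3,2,1,1,2],
    [5,2,2,3,5,3,2,2,1,4,2,3,1,1],
    [2,2,5,5,3,2,4,1,3,1,1,2,1],
    [5,2,5,1,4,3,1,1,4,2,1,1,2],
    [5,4,5,1,5,2,4,2,1,1,4,2,1,2,3,1,1],
    [1,4,2,4,2,5,3,1,2,4,2,1,3],
    [5,2,1,5,5,4,2,1,1,4,2,1,2,3,1,1],
    [1,1,4,5,2,5,4,2,4,1,2,2,3,2,1,1],
    [5,4,2,1,5,1,2,1,1,4,2,1,3,2,1,2,1,1],
    [5,1,3,2,5,1,1,3,4,1,2,1,3],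
    [1,3,2,5,2,2,4,2,4,3,2,1,3],
    [1,4,2,5,1,5,2,1,4,1,2,1,4,3,2,1,3,2,1,1],
    [4,2,2,5,1,1,2,1,4,2,1,3,2,1,1],
    [4,2,2,5,1,2,2,1,2,1],
    [3,1,5,2,5,2,3,4,2,1,1,2,1],
    [2,3,5,2,5,2,1,1,2,1,4,2,1,1,2,1,1],
    [2,1,2,5,2,5,2,4,3,1,2,4,3],
    [3,4,2,5,1,4,3,1,1,4,1,1,3,2],
    [1,1,3,2,4,1,2,2,3,2,1],
    [4,5,1,5,2,3,4,1,1,3,1,2,1],
    [2,4,5,5,3,2,2,1,4,1,1,3],
    [5,1,3,1,5,4,3,2,1,4,3,1,2],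
    [2,5,2,2,5,2,2,3,1,4,1,3,1,2,3,1,1],
    [2,4,5,1,5,2,1,4,1,2,1,4,1,3,2,1,1],
    [3,2,5,5,4,3,4,3,1,2,1,1],
    [4,5,3,5,2,4,3,2,4,2,1,1,2],
    [5,2,1,1,5,4,3,1,2,4,3,1,2,2,1],
    [4,2,1,5,3,4,2,4,1,1,3,2,1],
    [5,2,1,5,5,4,1,1,3,2,4,1,2,2,1,2,1,1],
    [1,4,1,5,5,4,1,3,4,1,3,2,1,2,1],
    [5,5,3,1,2,4,2,1,3,1,2],
    [5,1,3,1,5,1,1,4,2,4,3,1,3,2],
    [3,1,5,3,4,2,2,4,3,2,1,2,1],
    [4,5,1,5,2,4,3,2,4,3,2,1,3,2,1],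
    [2,4,5,5,2,2,1,1,4,2,3,1,2,1,1],
    [2,5,2,2,5,2,1,4,1,2,1,4,2,2,1,1,2,1,1],
    [2,4,5,1,5,4,2,2,1,4,2,1,1],
    [3,2,5,5,1,1,3,2,4,3,2,1,2,2,1],
    [4,5,3,5,2,4,3,2,1,1,4,3,1,1,2],
    [5,2,1,1,5,2,1,1,2,1,4,3,2,3,1],
    [4,2,1,5,2,1,1,4,2,3,1,2,1],
    [5,2,1,5,5,4,3,2,1,1,4,2,1,2,1,3,2],
    [1,4,1,5,5,3,4,1,2,4,2,2,1,1,3],
    [5,5,4,1,3,4,1,3,1,2,1],
    [3,1,5,4,1,1,3,2,4,3,2,1,1,2,1],
    [5,1,2,5,1,3,2,4,2,2,1,1,3,1,1],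
    [1,3,4,2,5,4,3,2,1,4,2,2,1,2,2,1],
    [3,4,1,2,5,1,4,1,1,3,2,1,1],
    [2,2,5,5,4,3,4,2,3,1],
    [4,3,5,4,3,2,1,1,2],
    [2,1,1,5,2,4,3,1,2,4,3,1,1,2,1],
    [5,2,4,3,1,2,4,2,1,3,2],
    [3,4,1,2,5,1,4,2,4,2,2,1,2,2,1],
    [1,2,5,5,1,2,3,4,2,1,3,1,1],
    [1,2,5,3,4,1,1,2,1],
    [1,3,2,5,3,2,3,1,1,4,3,1,2,1,1],
    [1,3,1,5,2,4,1,3,4,2,1,2,1,1],
    [2,2,3,5,2,1,1,4,2,2,1,1,3,1,1],
    [5,3,4,1,2,5,4,3,4,3,2,2,1],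
    [2,3,2,5,5,4,2,2,1,4,1,1,3,1,2],
    [2,1,2,3,5,1,4,2,4,2,1,2,3],
    [5,3,4,5,2,5,3,1,2,3,4,3,2,1,1,2,1],
    [2,5,2,1,5,2,1,1,2,1,4,3,2],
    [2,1,2,3,5,2,3,2,4,3],
    [5,3,4,5,2,5,2,1,3,2,1,4,1,3,2,1,2,1,1],
    [2,5,2,1,5,1,1,4,2,4,2,2,3,2],
    [2,3,5,3,1,4,3,2,1],
    [2,3,5,2,3,4,3,2,1,3,2,1],
    [5,2,2,3,5,4,2,2,4,3,2,1,2,3],
    [5,5,4,2,2,5,2,4,1,3,4,2,1,2,3,1,1],
    [2,5,2,1,5,4,1,1,3,4,1,1,3],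
    [1,4,1,2,5,1,4,2,1,4,2,1,3,1,2,1],
    [4,1,5,5,2,4,1,3,4,1,2,1,1,2],
    [4,5,3,5,3,4,3,2,4,1,2,1,3,2,1,1],
    [1,4,1,5,5,3,1,4,2,4,3,2,1],
    [5,1,3,2,5,3,2,4,1,2,3,1,2,1,1],
    [2,5,5,2,1,5,3,4,2,2,4,3,1,2,2,1],
    [4,5,2,5,1,2,1,4,3,2,1,1,2,1],
    [4,5,2,5,2,4,2,4,1,3,2,1,1],
    [2,2,1,1,5,2,2,4,2,4,1,1,3,1],
    [5,5,3,2,1,1,4,2,2,1,1,3,1,1],
    [3,1,5,1,2,3,4,1,1,2,1],
    [1,5,5,1,4,2,2,4,3,2,1,2,3],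
    [1,5,4,2,5,2,2,4,2,4,1,1,3,2,1,1],
    [2,4,5,1,5,1,1,4,2,4,1,3,1,2,3,1,1],
    [3,2,5,5,3,1,2,1,4,3,1,3,2,1,1],
    [4,2,1,5,1,2,1,4,2,1,2,1],
    [5,2,1,5,5,3,2,2,4,3,1,2,1,1],
    [1,3,4,2,5,4,1,2,1],
    [3,4,1,2,5,2,2,1,4,2,1,2,1],
    [2,2,5,5,4,2,2,4,2,3,1],
    [4,3,5,3,1,4,2,2,1,1,2,1,1],
    [2,1,1,5,2,4,2,1,4,2,3,1],
    [5,4,2,2,1,4,2,3,2,2],
    [1,2,5,5,1,1,3,2,4,2,1,3,1,2],
    [1,2,5,3,4,2,2,4,2,1,3,2,1,1],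
    [1,3,2,5,4,2,2,1,4,1,2,2,1,1,3,1,1],
    [1,3,1,5,1,2,1,3,4,2,2,1,1,3,1,1],
    [2,2,3,5,1,2,4,2,1,3,1,2],
    [5,3,4,1,2,5,2,1,4,2,4,1,3,1,1],
    [2,3,2,5,5,2,4,3,2,1,1,4,1,2,1,3,2],
    [5,3,4,5,2,5,1,1,4,2,4,2,1,3,1,2,1],
    [2,3,5,4,1,4,2,4,1,2,2,1,2,1],
    [5,2,2,3,5,2,4,2,1,2,4,3,2,1],
    [1,4,1,2,5,2,2,4,2,4,1,2,2,1,2,1],
    [4,1,5,5,4,1,2,4,1,3,1,2,3,1],
    [5,1,3,2,5,2,4,1,4,2,4,2,2,1,1,3,1,1],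
    [2,5,5,2,1,5,2,4,3,2,1,1,4,3,1,2,3],
    [4,5,2,5,1,3,2,4,1,3,2,1,2,1,1],
    [2,2,1,1,5,2,3,1,1,4,1,2,2,1,1],
    [1,5,5,4,3,2,1,1,4,3,2,1,3],
    [1,5,4,2,5,2,3,4,2,3,1,2],
    [4,2,4,2,5,1,4,3,1,2,4,3,2,3,1,2],
    [1,4,5,2,5,2,2,1,1,4,1,1],
    [2,4,1,2,5,3,1,4,1,2,2,1,2,1,1],
    [4,2,5,5,3,2,2,1,4,1,3,1,2,1],
    [5,4,5,1,5,1,3,4,2,2,1,1,3,1],
    [1,5,5,2,5,2,4,1,3,2,1,1,2,1],
    [5,2,3,5,3,2,1,1,4,3,2,3,1,1],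
    [1,1,2,5,5,4,3,1,3,4,2,1,2,1],
    [4,2,4,2,5,3,4,3,4,3,1,3,2,1],
    [5,4,2,2,5,1,1,4,2,4,3,2,1,3,2,1,1],
    [4,2,5,5,4,2,4,3,4,2,2,1,1,2,1],
    [4,5,5,4,3,1,1,4,3,2,2,1,1],
    [2,5,5,4,2,2,1,4,2,3,1,1],
    [1,4,5,2,5,2,2,1,4,1,2,3],
    [2,1,2,5,2,1,1,4,2,2,3],
    [1,2,5,5,4,3,1,1,4,3,2,1,2],
    [2,4,1,2,5,2,2,3,1,4,1,2,2,1,2,1],
    [5,1,3,2,5,3,4,2,1,4,1,2,2,3],
    [2,5,1,4,2,4,2,1,2,1],
    [2,5,2,1,1,2,1,4,1,3,2,1,1],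
    [2,5,5,2,1,4,2,4,3,2,1,2],
    [1,3,2,5,2,4,2,1,2,4,1,2,1,3,2],
    [3,4,5,5,2,2,1,4,2,2],
    [1,1,2,5,5,4,1,4,2,4,2,2,1,1,3],
    [3,4,5,2,5,4,3,4,2,2,3],
    [2,5,1,3,2,5,3,4,2,2,4,3,2,1,3,2],
    [5,4,5,1,5,4,3,2,1,1,4,3,2,1,2,3,1,1],
    [5,2,2,5,5,4,3,1,3,4,2,2,3,2,1,1],
    [5,2,5,3,2,3,1,1,4,2,2,1,2,2,1],
    [4,5,5,3,4,2,4,3,2,1,1,2],
    [4,2,2,5,4,3,1,1,4,1,2,2,1,1,3,1,1],
    [4,5,5,1,3,2,4,3],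
    [4,2,2,3,5,2,4,2,1,1,4,2,2,1,2,2,1,1],
    [4,2,2,5,2,2,3,1,4,2,2,1,1,3,1,1],
    [2,2,3,5,4,1,3,4,2,2,1,1,3],
    [4,2,2,3,5,2,4,2,4,1,2,1,3,2,1,1],
    [1,4,5,2,5,3,1,2,3,4,3,2,2],
    [1,1,4,2,5,2,4,3,2,4,2,1,3,2,1],
    [5,5,4,2,2,5,3,2,1,4,2,1,3,1,2],
    [2,3,5,2,5,1,3,1,4,1,2,1,1,2,1,1],
    [4,2,2,3,5,4,1,2,4,2,3,2,2,1],
    [2,5,2,1,1,5,3,2,3,1,1,4,2,1,3,2,1,2],
    [1,3,1,5,3,2,4,1,3,2,1,1,2,1],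
    [4,1,5,5,4,2,3,1,4,3,2,1,1],
    [2,5,5,3,2,2,1,4,2,2,1,1,3,1],
    [5,3,4,1,2,5,4,3,1],
    [2,2,5,5,2,1,4,2,4,1,3,1,2,3,1],
    [2,3,2,5,5,1,4,2,2,4,1,2,2,1,1],
    [2,5,5,2,1,5,1,1,4,2,4,1,1,3,1,1],
    [5,4,2,1,5,1,4,2,1,4,2,2,3,2,1],
    [1,4,2,5,1,5,4,3,2,2,1,4,1,2,2,3,2,1,1],
    [2,3,5,2,5,4,1,1,3,4,3,2,1,3,2,1,1],
    [5,2,2,5,5,4,1,3,4,2,2,1,2,1],
    [4,2,2,5,3,4,3,4,1,2,1,1,2,1],
    [3,1,5,2,5,1,2,1,4,2,2,1,1,3,1,1],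
    [3,1,5,2,5,2,4,1,3,4,1,2,1,3,1,1],
    [1,1,2,1,5,2,4,2,1,3,2],
    [2,2,1,1,5,1,4,2,2,4,2,1,1,3],
    [1,5,5,3,2,4,3,2,1,2,3],
    [1,4,1,2,5,2,3,2,1,4,3,2,1,2],
    [1,5,4,2,5,2,1,4,2,4,1,3,2,1,2,2,1],
    [4,1,5,2,5,2,4,3,4,1,3,2,1],
    [5,2,2,5,5,3,1,2,4,2,2,1,1,3,1,1],
    [2,5,1,3,2,5,2,4,2,1,1,4,3],
    [2,5,1,5,2,4,2,1,1,4,3,2,3,1,2,1],
    [2,5,1,3,2,5,4,3,2,2,1,4,2,3,2,2,1],
    [1,2,5,2,5,2,1,4,1,2,1,4,3,2,1,1,2,1,1],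
    [2,5,2,2,5,2,4,3,2,1,3,2,1],
    [1,4,2,4,2,5,3,4,2,2,4,1,3,1,1,2,1],
    [1,2,5,2,5,3,2,1,2,4,2,2,1,2],
    [1,4,2,4,2,5,2,2,1,4,2,3,2],
    [1,3,4,2,5,1,4,3,1,2,4,1,3,1,1,2,1],
    [2,2,5,5,4,2,3,1,1,4,1,2,1,3,1],
    [4,2,2,5,3,1,4,2,1,1,2,1],
    [5,2,5,5,4,2,4,1,2,2,3,2,1],
    [5,2,5,5,1,3,4,2,1,2,1,3,2,1],
    [4,2,4,2,5,2,1,1,2,1,4,3,2,1,2,1],
    [1,4,5,2,5,4,3,2,1,4,1,3,2,1,2,2],
    [2,4,1,2,5,1,1,2,1,4,2,1,2,3,1,1],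
    [4,2,5,5,2,4,3,4,3,2,1,2],
    [5,4,5,1,5,1,2,4,2,4,3,2,2],
    [1,5,5,2,5,1,2,3,4,3,2,2,1],
    [2,2,3,5,3,1,2,3,4,2,2,1,2,2,1],
    [4,5,5,3,1,2,4,2,1,3,2,1,2],
    [4,2,2,3,5,3,1,1,4,1,3,1,2,1],
    [2,5,5,4,3,2,1,1,4,1,2,2,3],
    [1,3,2,5,1,1,4,2,4,2,3,2],
    [3,4,5,5,4,1,4,2,4,3,1,3,2,1],
    [3,2,1,3,1,5,1,1,3,4,2,1,2,1,3,2,1,1],
    [5,2,5,5,1,4,1,2,1,3,1,1],
    [2,1,5,5,3,1,3,4,2,3,2,2,1,1],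
    [2,1,2,5,4,3,1,3,4,3,2,1,1,2,1,1],
    [5,1,2,5,4,1,3,4,2,3,1,2,1,1],
    [4,3,5,3,4,3,2,4,1,1,2,1,1],
    [2,3,5,2,5,2,4,3,2,1,2,2],
    [5,2,3,5,2,2,1,4,3,1,2,2,3,1,1],
    [1,1,2,5,5,1,2,4,3,2,1],
    [3,4,5,2,5,4,2,3,1,1,4,2,1,3,1,2,1],
    [5,2,2,3,5,1,1,3,2,4,3,2,1,2,3],
    [5,2,5,3,2,1,1,2],
    [1,4,2,4,2,5,1,4,2,2,4,3,1,3,2],
    [1,1,4,5,2,5,4,3,2,1,1,4,1,1,3,1],
    [5,4,2,1,5,1,2,3,4,1,3,1,1],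
    [1,4,2,5,1,5,3,4,3,4,3,2,1,2,1],
    [3,1,5,2,5,2,1,1,4,1,2,2,3,2,1],
    [2,1,2,5,2,5,4,1,1,3,4,2,1,2,1],
    [3,4,2,5,4,3,1,1,4,2,2,1,1,3,1,1],
    [3,4,5,2,5,1,2,1,3,4,1,2,1,3,2],
    [5,2,5,3,1,4,1,3,1,1,2],
    [1,1,4,5,2,5,1,2,4,2,3,2,1,1],
    [2,1,2,5,2,5,3,4,2,2,4,3,2,1,2,3,1,1],
    [3,4,2,5,1,1,4,2,4,2,1,2],
    [5,1,2,1,1,4,1,1,2,1],
    [4,2,5,5,4,2,2,1,4,1,2,1,3,2],
    [2,5,2,1,1,5,4,1,1,3,2,4,1,2,1,1,2,1],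
    [1,1,4,2,5,3,2,3,1,1,4,3,1,2],
    [1,5,5,2,5,2,4,1,3,4,2,1,3,2,1,1],
    [5,5,2,5,2,2,3,4,2,2,3,1],
    [1,4,2,4,2,5,1,1,3,2,4,2,1,3],
    [5,2,5,5,1,1,3,4,3,2,3,1,2,1,1],
    [1,1,2,1,5,3,1,2,1,4,3,1,1,2,1,1],
    [5,4,2,1,5,3,2,1,1,4,1,1,2,1,1],
    [1,4,2,5,1,5,2,3,2,1,4,1,2,3,1],
    [3,4,5,5,3,4,1,2,4],
    [5,2,5,5,4,2,3,1,1,4,1,3,1],
    [3,2,1,3,1,5,4,3,1,2,4,3,1,2,3],
    [3,2,1,3,1,5,3,1,1,4,1,3,2],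
    [2,1,2,5,2,5,2,1,3,2,1,4,1,2,1],
    [1,1,4,5,2,5,2,1,1,2,1,4,2,2,1,1],
    [3,4,2,5,3,1,1,4,2,1,3,2,1,2],
    [1,2,5,2,5,1,2,1,4,2,2,3,1,1],
    [1,1,4,2,5,1,4,3,1,1,4,3,2],
    [2,5,2,1,1,5,4,1,3,4,3,2,1,3],
    [4,5,1,2,5,3,2,1,1,4,1,3,1,1,2,1,1],
    [4,5,1,5,3,1,1,4,2,1,3,2,1,2,1,1],
    [2,4,5,5,2,2,3,4,1,3,2],
    [2,5,2,2,5,1,3,1,4,3,2,1,1],
    [2,4,5,1,5,2,2,4,2,4,1,2,2],
    [3,2,5,5,2,2,1,4,1,2,2,3,1,1],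
    [4,5,3,5,2,4,2,4,1,3,1,2,3],
    [5,2,1,1,5,2,1,4,1,2,1,4,2,1,2,2,1],
    [4,2,1,5,3,2,4,1,2,2,1,1,3],
    [5,2,1,5,5,4,2,4,1,2,2,3,2],
    [1,4,1,5,5,2,1,4,1,1,2],
    [5,5,2,4,1,3,4,2,1,1,2,1],
    [3,1,5,2,2,4,2,4,1,3,1,2],
    [5,1,2,5,3,1,2,4,3,1,2,3],
    [1,3,4,2,5,1,2,4,2,1,2,3,1],
    [3,4,1,2,5,4,3,1,3,4,2,1,3,2],
    [2,2,5,5,2,4,1,4,2,4,2,2,1,2,2,1],
    [4,3,5,1,3,4,2,1,3,1,2,1,1],
    [2,1,1,5,3,1,3,4,1,2,2],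
    [5,3,1,3,4,1,3,2,1,1],
    [1,2,5,5,3,1,2,4,2,2,3,1],
    [1,2,5,2,4,3,1,2,4,2,1,3,2,1,2],
    [1,3,1,5,4,1,3,4,2,2,1,2],
    [2,2,3,5,3,2,4,2,2,3,1],
    [5,3,4,1,2,5,1,4,1,2,1,3,1,1],
    [2,3,2,5,5,4,1,1,3,2,4,3,1,1,2],
    [2,1,2,3,5,2,2,1,1,4,3],
    [5,3,4,5,2,5,3,2,1,2,4,2,3],
    [2,5,2,1,5,2,4,2,1,2,4,1,1,3,1],
    [2,3,5,2,1,1,4,3,2,1,3,2],
    [5,2,2,3,5,2,1,1,4,1,2,2,3],
    [2,5,2,1,5,1,1,4,1,1,3,1,1],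
    [1,4,1,2,5,4,1,2,1,4,1,3,2,1,2],
    [4,1,5,5,3,2,1,1],
    [4,5,3,5,4,3,2,4,3],
    [1,4,1,5,5,4,2,1,2,4,3,2,3,1,2],
    [5,1,3,2,5,3,2,3,1,1,4,3,1,2,2,3,1],
    [2,5,5,2,1,5,2,4,2,1,3,1],
    [4,5,2,5,3,2,1,2,4],
    [4,5,2,5,4,3,4,2,4,1,2,3,1,1],
    [2,2,1,1,5,4,1,1,3,2,4,3,2,1,3,2,1,1],
    [5,5,2,4,2,2,3,1],
    [3,1,5,1,4,2,2,4,2,1,2],
    [1,5,5,1,2,1,1,4,1,2,2,3],
    [1,5,4,2,5,4,1,1,3,2,4,3,2,1,1,2,1,1],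
    [2,4,5,1,5,2,4,2,1,2,4,1,1,2,1],
    [3,2,5,5,2,1,2,4,1,2,3,1,2],
    [4,2,1,5,3,2,1,2,4,2,2,1,1],
    [5,2,1,5,5,4,3,2,4,1,2,2,1,1,3,1,1],
    [1,3,4,2,5,2,4,2,1,1,4,2,1,1],
    [3,4,1,2,5,3,2,2,1,4,2,2,1,1],
    [2,2,5,5,2,1,1,4,1,3,2,1,1],
    [4,3,5,2,1,1,2,1,4,1,2,2,1,1,3,1,1],
    [2,1,1,5,3,2,2,1,4,2,2,3,2,1],
    [5,4,1,1,3,2,4,2,2,3,2,1],
    [1,2,5,5,3,2,2,1,4,1,3,1],
    [1,2,5,2,1,3,4,1,2,2,3],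
    [1,3,2,5,4,1,1,3,2,4,1,3,1,2],
    [1,3,1,5,1,2,4,2,1,1,3,1],
    [2,2,3,5,1,2,1,3,4,2,2,3,2],
    [2,3,2,5,5,3,4,2,4,1,2,1,1,2,1,1],
    [5,3,4,5,2,5,4,1,2,3,1,4,3,2,3],
    [2,3,5,3,2,2,1,4,1,3,1,2,3,1,1],
    [5,2,2,3,5,3,1,4,2,4,1,3,1,2],
    [1,4,1,2,5,4,3,2,2,1,4,2,1,2,1,3,2,1,1],
    [4,1,5,5,3,2,1,4,3,2,2,1],
    [5,1,3,2,5,4,3,4,1,3,1,2,1,1],
    [2,5,5,2,1,5,1,2,4,2,4,3,1,2,2,1,1],
    [2,2,1,1,5,3,4,2,2,4,2,2,3,1,1],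
    [1,5,5,2,4,2,2,1,4,1,2,3,1,2,1,1],
    [1,5,4,2,5,4,2,2,4,3,1,2,2,1],
    [4,2,4,2,5,4,1,2,4,3,1,2,2,3,1,1],
    [1,4,5,2,5,2,3,2,4,1,2,1,1,2,1,1],
    [2,4,1,2,5,2,1,4,1,2,1,4,1,2,3],
    [4,2,5,5,4,1,4,2,4,1,3,2,1,2],
    [5,4,5,1,5,2,4,3,2,4,1,2,2,1,1,3,1,1],
    [1,5,5,2,5,3,2,1,1,4,2,2,3,2],
    [5,2,3,5,2,1,3,4,3,1,2,2,3,1,1],
    [1,1,2,5,5,4,3,4,2,2,1,2,1,1],
    [4,2,4,2,5,2,1,4,1,2,1,4,3,2,1,3,2],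
    [5,4,2,2,5,4,2,1,2,4,2,1,1,3,2,1,1],
    [4,2,5,5,3,4,1,2,4,1,3,2,1,2,1,1],
    [2,5,5,2,2,4,2,4,1,3,2,1,2,2,1],
    [1,4,5,2,5,2,4,2,1,4,3,1,2,3,1],
    [2,1,2,5,3,2,3,1,1,4,2,2,1,1,2],
    [2,4,1,2,5,2,3,2,1,4,3,2,1,2,1,1],
    [2,5,4,3,2,2,1,4,3,2,1,3,2,1],
    [2,5,3,4,3,4,1,2,1,3],
    [2,5,5,2,4,2,2,1,4,1,1,3,2,1,1],
    [1,3,2,5,3,1,4,2,4,1,2,2,3,2],
    [3,4,5,5,1,1,3,2,4,2,1,1,3,1,1],
    [1,1,2,5,5,2,2,1,4,3,2,1,3,2,1],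
    [3,4,5,2,5,1,1,3,4,2,1,2,3],
    [2,5,1,3,2,5,3,2,1,1,4,2,2,1,1,2,1],
    [5,4,5,1,5,2,1,4,2,4,1,3,2,1,2,2,1,1],
    [5,2,2,5,5,4,3,4,1,1],
    [5,2,5,2,1,1,4,2,1,3,1,2],
    [4,5,5,2,4,2,4,3,2,1,2,2,1],
    [4,2,2,5,1,4,3,1,1,4,3,1,3,2],
    [4,5,5,1,2,1,1,4,3],
    [4,2,2,3,5,1,3,4,1,3,2,1,2,2,1],
    [4,2,2,5,2,3,2,1,4,3,1,2,3],
    [2,2,3,5,2,4,1,3,4,2,1,3,1,2,1],
    [4,2,2,3,5,4,3,4,2,4,3,2,1,2,2,1],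
    [1,4,5,2,5,1,2,4,3,2,1,3],
    [1,1,4,2,5,3,1,1,4,2,1,1,3,2],
    [2,3,5,2,5,3,4,3,4,1],
    [4,2,2,3,5,3,4,2,1,4,2,1,2,2,1,1],
    [2,5,2,1,1,5,2,3,4,2,3,2,2,1],
    [1,3,1,5,2,1,1,4,2,2,3,2],
    [4,1,5,5,1,2,4,2,2,1,2,2,1],
    [2,5,5,2,4,2,1,4,2,1,2,1],
    [5,3,4,1,2,5,1,3,4,2,1,2,1,3,2,1],
    [2,3,2,5,5,1,2,1,1,4,3,1,2,1,1],
    [2,5,5,2,1,5,4,2,1,2,4,1,1,3,2,1],
    [5,4,2,1,5,1,2,1,4,3,1,2,2,1],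
    [1,4,2,5,1,5,2,2,4,2,4,2,2,3,1,1],
    [5,2,2,5,5,4,3,1,1,4,1,2,3],
    [3,1,5,2,5,3,2,1,2,4,3,1,2,3],
    [3,1,5,2,5,4,1,3,4,1,2,1,3,1],
    [1,1,2,1,5,3,4,2,2,4,1,3,2,1,1,2,1,1],
    [2,2,1,1,5,1,2,3,4,1,3,2,1,1],
    [1,5,5,4,2,2,4,1,3],
    [1,4,1,2,5,1,4,1,2,1,4,2,1,2],
    [1,5,4,2,5,4,3,2,1,1,4,1,2,1,3],
    [5,2,2,5,5,1,3,2,4,3,1,2,3],
    [2,5,1,3,2,5,3,1,1,4,1,1,3,2,1,1],
    [2,5,1,5,2,4,3,2,4,1,2,2,1,1],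
    [2,5,1,3,2,5,4,1,1,3,2,4,2,1,3,2,1,2],
    [2,1,1,5,2,2,1,1,4,2,1,2,2,1,1],
    [5,1,4,2,2,4,3,2,1,2,2,1],
    [1,2,5,4,1,1,3,2,4,3,1,2,2,3],
    [5,2,2,3,5,4,1,4,2,4,2,2,3,2,1,1],
    [4,2,4,2,5,1,2,1,1,4,2,1,3],
    [2,4,1,2,5,2,2,1,4,1,3,2,1,1,2],
    [4,2,5,5,1,4,2,4,3,2,1,2,3,1],
    [1,5,5,2,5,4,1,3,4,1,2,1,1],
    [5,2,3,5,1,4,1,3,1,2,1,1],
    [5,4,2,2,5,1,4,3,1,2,4,2,1,1,2,1,1],
    [2,1,2,5,4,3,4,2,2,3,2,1],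
    [2,5,2,3,2,4,3,2,3,1,2,1],
    [3,4,5,5,4,2,4,3,4,3,2,1,2,3],
    [1,1,2,5,5,4,3,2,1,4,1,2,2,1,1,3],
    [3,4,5,2,5,2,1,4,2,4,2,1,1,3,2,1,1],
    [5,4,5,1,5,2,4,2,4,1,2,2,3,2],
    [5,2,5,4,1,3,4,2,1,3,1,2,1,1],
    [1,1,4,2,5,4,1,3,4,2,2,3,1],
    [2,5,2,1,1,5,2,4,1,3,4,2,3],
    [5,4,2,1,5,2,3,1,1,4,1,1,3,1,2,1],
    [1,4,2,5,1,5,1,4,1,2,1,4,3,2,3,1,2],
    [2,3,5,2,5,3,4,2,2,4,3,2,2,1],
    [3,1,5,2,5,3,2,4,2,1,1,3,2],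
    [1,1,2,1,5,2,4,2,1,2,4,2,2,1,1,3,1,1],
    [2,5,1,5,4,2,4,3,4,2,1,2,1,1],
    [4,5,1,2,5,4,3,1,3,4,2,3,2,2,1],
    [3,4,5,2,5,4,3,2,1,4,2,2,1,1,2,1,1],
    [5,4,2,1,5,3,1,2,4,2,1,2,1,3,2,1,1],
    [3,4,2,5,4,1,3,4,2,1,1,3,1],
    [1,1,2,1,5,1,3,2,1,4,1,2,2,1,1],
    [5,5,2,5,2,2,1,1,4,1,3,1,1,2],
    [3,2,1,3,1,5,2,2,3,4,3,2,1,2,3,1],
    [5,2,5,5,4,3,4,3,2,2,1],
    [5,2,3,5,4,1,4,2,4,1,1,3,1,2,1,1],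
    [4,5,1,2,5,2,1,3,4,3,2,1,3],
    [1,1,4,5,2,5,4,2,3,1,1,4,1,2,2,3,2],
    [2,1,5,5,4,3,2,2,1,4,2,1,3,2,1],
    [3,4,2,5,3,1,4,2,4,2,1,2],
    [1,4,2,5,1,5,3,1,4,1,3,1,2,1],
    [2,1,5,5,1,1,4,2,2,1,2,2],
    [3,4,5,5,1,3,2,1,4,2,1,1],
    [1,1,4,5,2,5,4,3,2,1,4,2,3,2,1],
    [2,1,2,5,2,5,1,1,4,3,1,2,2,3,1,1],
    [5,5,2,5,1,4,2,1,4,1,2,2,1,1,3],
    [1,1,4,5,2,5,2,1,4,1,2,1,4,2,1,1,3],
    [3,2,1,3,1,5,4,1,2],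
    [3,4,2,5,1,3,4,2,1,3,2,1,2],
    [1,5,5,2,5,3,1,2,4,2,1,1,3,1],
    [2,1,2,5,2,5,4,1,2,1,4,1,2,2,1,1,3],
    [3,2,1,3,1,5,4,3,1,3,4,2,2,1,2,2,1],
    [2,1,5,5,2,1,1,2,1,4,3,2,3,1,2,1,1],
    [5,2,5,2,1,1,2,1,4,2,1,3,1,1],
    [2,1,2,5,2,5,2,1,3,4,3,2,3,1,1],
    [5,2,5,5,4,3,1],
    [2,1,2,5,2,1,1,2,1,4,2,2,1,1,2,1,1],
    [2,5,1,5,4,1,1,3,2,4,2,1,1,3,2],
    [2,5,2,1,1,5,4,2,2,1,4,1,3],
    [1,3,4,2,5,4,1,2,4,3,2,2,1],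
    [5,2,5,5,2,4,3,2,4,2,2,1,2,1,1],
    [5,4,5,1,5,2,4,3,2,1,1,4,2,1,2,1,3,2],
    [1,5,5,2,5,1,2,1,1,4,2,1,3,1,1],
    [3,2,1,3,1,5,4,3,4,2,1,1,3,2],
    [2,1,5,5,3,4,3,2,1,1,2,1],
    [2,1,2,5,1,1,3,4,1,3,2,1,1,2,1,1],
    [2,1,5,5,3,4,3,4,2,1,3,2,1,1],
    [2,1,2,5,3,1,4,3,2,3],
    [1,1,2,1,5,4,1,2,3,1,4,2,3,1,2],
    [5,5,2,5,4,3,1,1,4,2,1,1,3],
    [3,4,5,5,3,4,1,2,1,4,2,3],
    [2,1,5,5,1,4,2,4,2,1,3,2,1],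
    [5,5,2,5,2,1,3,2,1,4,2,2,3,2],
    [1,1,4,2,5,3,2,4,3,1,2,3],
    [4,5,1,2,5,3,1,1,4,3,2,1,2,2,1,1],
    [2,4,5,1,5,3,1,4,2,4,2,1,3,1,2],
    [3,2,5,5,3,4,1,2,1,4,3,2,1,2,3],
    [4,2,1,5,4,1,2,1,4,2,2,1,2,1,1],
    [1,3,4,2,5,1,3,4,2,1,2,3,1],
    [3,4,1,2,5,4,1,4,2,4,1,3,1,2,3,1],
    [4,3,5,1,3,1,4,1,3,1,2],
    [2,1,1,5,1,1,3,2,4,1,1,3],
    [5,4,3,2,2,1,4,1,1,3],
    [1,2,5,5,2,2,1,4,2,2,1,2,2,1],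
    [1,2,5,2,3,1,1,4,3,2,2,1,1],
    [1,3,1,5,3,1,2,3,4,3,2,2,1],
    [2,3,2,5,5,2,4,2,4,2,1,2,2,1],
    [5,3,4,5,2,5,4,2,1,2,4,1,2,2,1,2,1],
    [2,3,5,2,4,2,1,4,2,2,1,2],
    [5,2,2,3,5,4,1,2,3,1,4,3,2,2,1,1],
    [1,4,1,2,5,4,1,1,3,2,4,3,1,1],
    [4,1,5,5,2,3,1,4,3,1,2],
    [2,5,5,2,1,5,2,4,2,4,2,1,3,1,1],
    [2,2,1,1,5,3,2,1,1,4,3,1,1,2,1,1],
    [1,5,5,4,2,3,1,1,4,3,2,2],
    [1,5,4,2,5,3,2,4,2,1,3,1],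
    [4,2,4,2,5,3,2,1,4,2,1,3],
    [1,4,5,2,5,2,2,3,4,2,2,3,2,1,1],
    [2,4,1,2,5,3,4,3,4,2,1,2,1],
    [4,2,5,5,2,2,1,4,1,2,3,1,1],
    [1,5,5,2,5,2,3,1,1,4,1],
    [5,2,3,5,3,4,2,2,4,3,2,1,2],
    [1,1,2,5,5,2,4,1,4,2,4,1,2,3],
    [5,4,2,2,5,4,1,2,3,1,4,2,2,1,2,2,1,1],
    [2,5,5,1,4,2,4,2,1,1,3,1,1],
    [1,4,5,2,5,3,2,2,1,4,2,2,1],
    [2,1,2,5,4,2,2,4,1,3,2,1,2],
    [2,5,4,2,2,1,4,1,3,1,2,3,1],
    [1,1,2,5,5,3,2,2,1,4,1,3,1,2,3,1],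
    [3,4,5,2,5,2,4,1,4,2,4,2,2,1],
    [2,5,1,3,2,5,2,1,3,4,2,1],
    [5,4,5,1,5,4,2,4,1,2,2,1],
    [5,2,2,5,5,1,4,2,2,1,2,2,1],
    [5,2,5,2,3,4,2,2,3,2],
    [2,2,3,5,1,2,2,1,1,3,1],
    [4,2,2,3,5,2,4,3,2,1,1,4,2,2,1],
    [1,1,4,2,5,4,2,2,1,2,2,1],
    [4,2,2,3,5,1,4,3,1,2,4,2,3,2,1,1],
    [2,5,2,1,1,5,3,2,4,2,1,3,2,1,2],
    [1,3,1,5,3,2,3,1,1,4,1],
    [4,1,5,5,3,1,2,3,4,2,1,3,1,2],
    [2,5,5,4,1,4,2,4,1,3,1,2],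
    [2,3,2,5,5,1,3,2,4,3,1,2,2,1,1],
    [2,5,5,2,1,5,2,4,2,1,2,4,1,2,2,3,2,1],
    [5,4,2,1,5,2,1,3,2,1,4,1,2,2,3,1],
    [1,4,2,5,1,5,4,2,2,1,4,1,3,2,1,1,2],
    [5,2,2,5,5,3,1,3,2],
    [3,1,5,2,5,2,1,3,2,1,4,2,1,3,2,1,1],
    [3,1,5,2,5,3,2,3,1,2],
    [1,1,2,1,5,2,1,3,4,1,3,2,1,1],
    [2,2,1,1,5,1,2,1,1,4,2,1,3,2],
    [1,5,5,2,3,4,2,3,1,1],
    [1,4,1,2,5,1,1,2,1,4,2,3,1,2,1],
    [1,5,4,2,5,2,4,2,2,1,4,1,3,1,1,2,1],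
    [5,2,2,5,5,1,2,3,4,1,3,1,1,2],
    [2,5,1,3,2,5,2,4,3,2,4,3],
    [2,5,1,5,4,1,3,2,1,2,2],
    [2,5,1,3,2,5,2,2,4,2,4,1,3,1,2,3],
    [2,1,1,5,2,3,2,4,1,1,3,2],
    [5,1,3,2,4,3,1,1,2,1,1],
    [1,2,5,4,3,2,2,1,4,1,2,3,1],
    [4,2,4,2,5,1,4,2,2,4,1,2,1,3,1],
    [2,4,1,2,5,3,2,2,1,4,1,2,2,3,2,1,1],
    [4,2,5,5,4,3,2,2,1,4,1,2,1,1],
    [1,5,5,2,5,1,2,3,1],
    [5,2,3,5,4,3,1,3,4,2,3,1,2],
    [5,4,2,2,5,2,3,1,4,3,1,1,2,1,1],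
    [2,5,4,1,2,3,4,1,3,1,2,3,1,1],
    [3,4,5,5,2,4,3,4,1,3,1,1,2,1,1],
    [1,1,4,2,5,1,3,1,1,2],
    [2,5,2,1,1,5,1,4,3,1,1,4,1,1,3,2,1,1],
    [5,4,2,1,5,3,4,2,2,4,2,3,2,1,1],
    [1,4,2,5,1,5,1,1,2,1,4,1,2,1,1],
    [1,1,2,1,5,1,1,4,2,4,3,2,1,2,2,1,1],
    [2,5,1,5,3,4,1,2,4,3,2,1,1,2],
    [4,5,1,2,5,1,4,1,3],
    [3,4,5,2,5,1,2,4,3,1,2,2,3],
    [1,1,2,1,5,3,4,1,2,1,4,2,2,1,1,2],
    [5,5,2,5,4,1,2,3,4,1,3,2,1,1,2],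
    [3,2,1,3,1,5,2,2,1,1,4,1,2,1,3],
    [4,5,1,2,5,3,4,2,2,4,3,1,3,2,1],
    [2,1,5,5,4,2,2,1,4,3,2,1,2,2],
    [3,4,2,5,4,2,1,2,4,2,1,1,2,1],
    [3,4,5,5,2,1,2,4,3,1,2,3,1],
    [1,1,4,5,2,5,4,2,3,1,4,2,1,2,3,1,1],
    [5,5,2,5,3,2,1,2,4,2,1,3,1,2],
    [1,1,4,5,2,5,3,4,3,4,1,3,2,1,2,2,1],
    [3,2,1,3,1,5,1,3,4,2,3,1,2,1,1],
    [3,4,2,5,4,2,1,3,2,1,2],
    [2,1,2,5,2,5,1,2,1,4,1,3,1,2,1,1],
    [2,1,5,5,3,1,4,1,3,1,2,3],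
    [5,2,5,1,3,1,4,2,2,3,1],
    [2,1,2,5,2,5,2,3,1,1,4,2,1,2,2],
    [2,1,2,5,1,3,1,4,2,3,2,1],
    [2,5,1,5,4,3,2,2,1,4,2,1,1,2,1],
    [2,5,2,1,1,5,2,2,4,2,4,1,3,1,2,1,1],
    [5,4,2,2,5,2,4,1,2,4,1,2,2,3,2,1,1],
    [1,1,4,2,5,2,3,4,1,3,1,1,2],
    [4,5,1,2,5,1,3,4,2],
    [5,5,2,5,2,4,1,3,4,1,2,1,3,2],
    [5,5,2,5,1,2,2,1,2,1,1],
    [5,4,2,2,5,2,2,3,1,4,1,2,2,3],
    [2,1,1,5,4,1,2,3,4,3,1,2,2,3],
    [1,2,5,1,4,2,4,3,1,3,2],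
    [4,2,4,2,5,3,1,2,4,1,2,2,1,1,3,1],
    [2,4,1,2,5,2,4,2,1,4,2,1,1],
    [5,2,3,5,2,4,1,4,2,4,3,1,2,3,1],
    [5,4,2,2,5,3,4,2,1,4,2,1,3,2,1],
    [2,5,4,3,1,2,4,3,2,1],
    [2,5,1,5,4,2,1,4,2,2,1,1,3,1,1],
    [4,5,1,2,5,1,1,3,4,2,1,1,2,1,1],
    [2,5,1,5,4,2,2,1,4,1,3,2,1,1,2,1],
    [5,4,2,2,5,1,4,1,2,1,4,2,2,1],
    [4,5,1,2,5,2,4,3,2,4,2,1,3,2,1,2]]

/-- Its table. -/
def threeNext : List (List ℕ) :=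
  [
    [1,2,3,4,5,6],
    [7,8,9,10,11,12],
    [8,13,14,15,16,17],
    [9,14,18,19,20,21],
    [10,15,22,23,24,25],
    [11,26,27,24,28,29],
    [12,30,31,32,21,33],
    [0,34,35,36,37,38],
    [34,39,40,41,42,43],
    [35,40,44,45,46,47],
    [36,41,19,48,49,50],
    [37,16,20,49,51,52],
    [38,53,54,55,47,56],
    [39,0,57,58,59,60],
    [40,57,61,62,63,64],
    [41,58,65,66,67,68],
    [42,69,70,67,71,72],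
    [43,73,74,75,64,76],
    [44,61,0,77,78,75],
    [45,62,79,80,81,82],
    [46,70,83,81,84,85],
    [47,86,87,60,75,88],
    [19,65,89,90,91,92],
    [48,66,93,0,94,95],
    [49,96,97,94,98,99],
    [50,100,101,102,92,103],
    [16,104,105,96,106,107],
    [20,105,108,91,109,110],
    [51,111,112,98,0,87],
    [52,113,114,115,110,116],
    [53,117,118,119,120,121],
    [54,118,110,122,123,124],
    [55,119,125,64,60,126],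
    [56,127,116,128,124,1],
    [2,129,130,131,26,132],
    [3,130,133,22,27,134],
    [4,131,45,135,136,137],
    [5,42,46,136,138,139],
    [6,140,141,142,134,143],
    [129,1,144,145,104,146],
    [130,144,147,148,105,149],
    [131,145,62,150,151,152],
    [26,59,63,151,111,153],
    [132,154,155,114,149,156],
    [133,147,1,89,108,114],
    [22,148,77,93,97,157],
    [27,63,78,97,112,158],
    [134,120,123,146,114,159],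
    [135,150,90,1,160,161],
    [136,67,91,160,162,73],
    [137,163,164,165,82,166],
    [138,106,109,162,1,123],
    [139,167,168,169,85,170],
    [140,171,102,172,173,174],
    [141,102,85,175,176,177],
    [142,172,122,149,146,178],
    [143,179,170,180,177,7],
    [144,3,181,182,183,184],
    [145,4,185,186,187,188],
    [104,37,189,187,190,191],
    [146,192,193,194,184,195],
    [147,181,2,196,197,194],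
    [148,182,198,199,200,201],
    [105,189,202,200,203,204],
    [149,205,206,6,194,207],
    [62,185,208,209,210,211],
    [150,186,212,2,213,214],
    [151,215,216,213,217,218],
    [152,219,220,221,211,222],
    [59,11,223,215,224,225],
    [63,223,226,210,227,228],
    [111,229,230,217,2,206],
    [153,231,232,233,228,234],
    [154,235,236,237,238,239],
    [155,236,228,240,241,242],
    [114,237,243,184,6,244],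
    [156,245,234,246,242,8],
    [89,196,36,247,248,236],
    [108,202,37,248,249,250],
    [77,198,10,251,252,253],
    [93,199,254,3,255,256],
    [97,210,257,255,258,259],
    [157,260,261,262,253,263],
    [78,226,11,252,264,233],
    [112,230,265,258,3,243],
    [158,266,12,225,233,267],
    [120,268,188,192,269,270],
    [123,188,233,271,240,272],
    [159,273,267,274,272,9],
    [79,208,4,254,257,221],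
    [80,209,247,35,275,276],
    [81,216,248,275,277,238],
    [82,278,279,188,221,280],
    [90,212,251,9,281,282],
    [160,283,255,5,284,285],
    [161,286,287,288,282,289],
    [67,290,200,283,291,292],
    [91,200,252,281,293,205],
    [162,294,258,284,4,279],
    [73,295,253,296,205,297],
    [163,206,298,299,260,300],
    [164,298,205,301,261,302],
    [165,299,266,211,188,303],
    [166,272,297,207,302,10],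
    [69,5,183,290,229,286],
    [70,183,197,216,230,304],
    [71,190,203,291,34,305],
    [72,261,194,306,304,307],
    [83,197,5,257,265,306],
    [84,203,249,277,35,308],
    [85,309,6,286,306,310],
    [106,224,227,294,8,241],
    [109,227,264,293,9,240],
    [167,311,269,220,266,312],
    [168,269,240,313,12,314],
    [169,220,184,304,286,315],
    [170,289,272,316,314,11],
    [171,6,317,318,319,245],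
    [102,317,309,320,321,322],
    [172,318,201,205,292,323],
    [173,324,262,292,296,325],
    [174,326,327,310,322,215],
    [175,320,191,305,328,329],
    [176,262,250,328,308,330],
    [177,331,244,245,310,265],
    [122,201,225,241,271,332],
    [178,333,334,335,332,336],
    [179,297,289,337,338,339],
    [180,337,340,322,245,209],
    [13,7,341,342,69,343],
    [14,341,344,65,70,345],
    [15,342,148,346,96,347],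
    [17,99,348,168,345,349],
    [18,344,7,79,83,168],
    [21,173,176,343,168,350],
    [23,346,80,7,351,352],
    [24,151,81,351,353,154],
    [25,354,355,118,157,356],
    [28,71,84,353,7,176],
    [29,357,75,358,158,359],
    [30,360,165,361,86,362],
    [31,165,158,125,87,363],
    [32,361,175,345,343,364],
    [33,365,359,366,363,0],
    [341,9,336,367,223,313],
    [342,10,182,368,290,262],
    [343,292,271,232,313,326],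
    [344,336,8,208,226,232],
    [65,367,196,212,216,320],
    [345,238,241,12,232,369],
    [346,368,209,8,370,371],
    [96,187,210,370,294,192],
    [347,372,373,253,201,374],
    [107,279,375,250,204,376],
    [99,377,221,269,259,378],
    [348,221,204,308,305,379],
    [349,380,376,381,379,34],
    [92,382,231,321,236,383],
    [110,301,38,191,250,384],
    [350,385,384,386,330,35],
    [351,213,281,11,339,219],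
    [352,225,318,387,276,335],
    [353,291,293,339,10,261],
    [354,241,288,388,382,389],
    [355,288,238,309,231,390],
    [118,388,301,201,262,391],
    [356,330,239,369,390,36],
    [357,214,296,373,301,392],
    [75,296,308,393,38,394],
    [358,373,313,228,225,334],
    [359,335,330,395,394,37],
    [360,12,299,396,268,380],
    [361,396,320,238,218,397],
    [86,319,321,218,237,398],
    [362,399,312,267,303,187],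
    [125,211,286,206,193,400],
    [87,321,306,193,243,401],
    [363,338,314,380,267,264],
    [364,402,403,404,329,405],
    [365,239,335,406,407,408],
    [366,406,316,303,380,199],
    [336,18,13,409,410,32],
    [367,19,411,412,413,414],
    [223,27,415,413,416,417],
    [313,418,419,17,32,420],
    [182,22,421,422,423,424],
    [368,23,425,13,426,427],
    [290,136,428,426,429,140],
    [262,430,431,432,424,433],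
    [183,46,434,423,435,436],
    [229,51,437,429,13,419],
    [286,438,55,439,436,440],
    [292,441,442,443,444,445],
    [271,442,436,446,447,448],
    [232,443,449,21,17,450],
    [326,451,440,452,448,39],
    [208,409,131,453,454,442],
    [226,415,26,454,455,456],
    [196,411,41,457,458,459],
    [212,412,460,14,461,462],
    [216,423,463,461,464,465],
    [320,466,467,50,459,468],
    [197,434,42,458,469,439],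
    [230,437,470,464,14,449],
    [304,471,43,139,439,472],
    [238,473,25,30,474,475],
    [241,25,439,54,446,476],
    [369,477,472,478,476,40],
    [198,421,15,460,463,432],
    [199,422,453,130,479,480],
    [200,428,454,479,481,444],
    [201,482,483,25,432,484],
    [209,425,457,40,485,486],
    [370,487,461,16,488,489],
    [371,52,490,491,486,492],
    [187,49,413,487,493,53],
    [210,413,458,485,494,418],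
    [294,495,464,488,15,483],
    [192,496,459,497,418,498],
    [372,419,499,500,466,501],
    [373,499,418,502,467,503],
    [253,500,471,424,25,504],
    [374,476,498,420,503,41],
    [189,20,410,428,437,505],
    [190,28,416,493,129,506],
    [191,467,32,507,505,508],
    [202,410,16,463,470,507],
    [203,416,455,481,130,509],
    [204,510,17,52,507,511],
    [224,138,435,495,39,447],
    [227,435,469,494,40,446],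
    [279,512,474,431,471,513],
    [375,474,446,47,43,514],
    [250,431,21,505,52,515],
    [376,492,476,516,514,42],
    [377,17,517,518,519,451],
    [221,517,510,520,137,521],
    [269,518,414,418,53,522],
    [259,523,50,53,497,524],
    [378,56,525,511,521,136],
    [308,520,29,506,141,526],
    [305,50,456,141,509,527],
    [379,528,450,451,511,470],
    [240,414,139,447,54,529],
    [314,530,531,532,529,44],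
    [380,498,492,533,534,535],
    [381,533,536,521,451,422],
    [254,453,48,18,537,538],
    [257,458,49,537,539,497],
    [265,470,51,539,18,31],
    [306,540,47,436,139,531],
    [247,457,23,133,541,491],
    [248,463,24,541,542,474],
    [236,543,502,414,50,544],
    [251,460,135,44,545,499],
    [281,479,537,20,546,482],
    [282,505,496,512,499,547],
    [252,454,136,545,548,443],
    [293,494,539,546,19,502],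
    [205,519,137,140,443,549],
    [382,449,550,551,517,536],
    [231,550,443,552,510,525],
    [321,551,540,459,414,553],
    [383,529,549,450,525,45],
    [249,455,28,542,133,141],
    [264,469,138,548,44,54],
    [301,480,53,467,540,554],
    [384,547,529,555,56,46],
    [324,21,430,441,490,477],
    [296,556,520,444,140,557],
    [325,558,533,515,433,423],
    [328,432,417,509,506,559],
    [330,560,33,477,515,51],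
    [385,549,547,503,501,561],
    [386,503,534,433,477,457],
    [255,485,541,27,562,563],
    [256,417,564,550,538,565],
    [258,464,542,562,22,471],
    [260,509,427,430,543,566],
    [261,427,497,540,502,567],
    [263,568,524,569,567,19],
    [275,461,545,46,561,466],
    [276,436,441,427,491,452],
    [213,570,479,26,571,551],
    [339,535,562,28,23,441],
    [219,506,538,517,482,560],
    [225,483,142,456,417,572],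
    [318,142,482,519,564,573],
    [387,456,523,486,427,574],
    [335,567,560,484,573,48],
    [215,24,423,570,495,30],
    [217,429,481,571,131,438],
    [218,564,432,474,465,575],
    [277,481,548,561,45,510],
    [291,493,494,535,41,467],
    [235,132,543,490,523,576],
    [237,490,424,465,30,577],
    [239,33,567,578,544,49],
    [288,439,473,462,512,478],
    [388,54,480,482,551,555],
    [389,553,579,475,478,487],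
    [309,462,140,438,552,580],
    [390,581,504,476,475,542],
    [391,559,522,56,554,411],
    [228,502,132,29,456,578],
    [206,137,507,31,449,582],
    [233,552,134,417,29,581],
    [234,583,582,536,450,16],
    [243,424,52,419,31,568],
    [266,486,30,483,431,533],
    [267,565,568,534,33,20],
    [214,29,556,499,462,583],
    [392,508,584,526,557,429],
    [393,444,447,43,55,558],
    [394,585,581,583,526,133],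
    [334,574,586,501,420,410],
    [395,484,587,557,583,461],
    [299,31,486,563,430,534],
    [396,32,466,473,496,530],
    [268,134,489,496,556,587],
    [211,563,438,137,442,588],
    [188,489,552,442,520,584],
    [303,448,577,33,533,421],
    [397,514,503,508,468,458],
    [319,47,551,564,518,589],
    [398,590,554,531,553,413],
    [399,579,572,565,559,129],
    [312,572,553,529,522,493],
    [193,459,505,449,419,586],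
    [400,536,558,585,440,435],
    [401,501,56,589,531,138],
    [338,521,530,498,547,545],
    [329,566,420,530,508,437],
    [402,577,591,525,536,592],
    [403,591,448,593,558,434],
    [404,525,501,468,530,135],
    [405,44,39,421,434,55],
    [406,578,588,448,445,481],
    [407,504,585,445,452,541],
    [408,571,546,51,48,564],
    [316,588,589,522,532,479],
    [57,35,405,185,189,393],
    [58,36,367,594,215,321],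
    [60,218,328,375,393,399],
    [61,405,34,198,202,375],
    [64,259,305,38,375,595],
    [66,594,199,34,283,311],
    [68,285,596,236,320,597],
    [74,253,304,243,206,598],
    [76,599,307,600,598,2],
    [88,601,310,602,401,3],
    [94,370,275,37,408,372],
    [95,191,396,298,256,404],
    [98,217,277,408,36,231],
    [100,305,387,317,278,603],
    [101,387,259,266,279,604],
    [103,401,378,595,604,4],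
    [113,371,237,596,309,327],
    [115,596,393,204,191,403],
    [116,404,401,340,244,5],
    [117,38,388,287,324,599],
    [119,287,211,259,192,605],
    [121,195,392,384,391,290],
    [124,407,394,599,384,249],
    [126,606,315,289,400,181],
    [127,378,404,607,331,284],
    [128,607,395,391,599,212],
    [185,45,409,425,428,520],
    [594,48,422,39,570,550],
    [595,589,578,574,527,130],
    [283,426,485,42,535,430],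
    [311,139,518,538,480,532],
    [285,447,491,543,563,593],
    [596,491,444,510,438,608],
    [597,527,445,558,608,131],
    [194,497,509,134,132,569],
    [307,532,527,566,569,26],
    [295,43,500,556,473,579],
    [297,143,513,472,504,24],
    [598,534,514,579,472,469],
    [599,445,532,554,555,571],
    [600,554,516,504,579,412],
    [278,446,512,489,500,516],
    [280,526,475,514,513,22],
    [310,452,526,528,143,27],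
    [601,475,452,608,593,562],
    [602,608,555,553,589,453],
    [298,507,519,480,550,591],
    [317,141,462,466,489,528],
    [603,584,576,524,574,426],
    [604,515,544,527,524,539],
    [322,586,557,143,580,409],
    [327,440,433,568,577,495],
    [184,465,506,132,142,590],
    [244,573,515,492,568,18],
    [340,468,477,577,492,485],
    [287,55,563,523,441,585],
    [605,569,608,440,588,454],
    [270,420,580,581,584,428],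
    [195,576,508,547,586,13],
    [332,516,590,573,572,416],
    [272,593,143,587,581,28],
    [606,522,478,513,516,609],
    [315,478,559,560,590,415],
    [289,513,593,588,585,23],
    [181,133,129,411,415,142],
    [607,511,484,559,575,464],
    [331,544,573,575,565,537],
    [284,488,561,138,135,496],
    [421,77,342,610,611,118],
    [434,83,69,611,612,169],
    [409,79,145,613,614,165],
    [425,80,615,57,616,617],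
    [428,91,618,616,619,173],
    [520,620,357,152,165,621],
    [410,108,104,614,622,115],
    [437,112,623,619,57,125],
    [505,624,146,107,115,625],
    [444,626,68,73,172,627],
    [447,68,115,155,122,628],
    [558,629,625,630,628,144],
    [411,89,58,615,618,102],
    [412,90,610,341,631,632],
    [413,97,611,631,633,120],
    [414,634,167,68,102,635],
    [422,93,613,144,636,637],
    [570,351,616,59,638,354],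
    [550,153,639,640,637,641],
    [423,81,614,636,642,86],
    [495,162,619,638,58,167],
    [551,87,643,644,620,645],
    [540,643,86,646,357,647],
    [459,644,624,92,68,648],
    [553,628,362,88,647,145],
    [415,78,59,618,623,358],
    [416,84,612,633,341,175],
    [417,649,60,153,358,650],
    [435,109,622,642,144,122],
    [483,352,172,101,624,651],
    [456,101,64,158,153,652],
    [572,641,628,653,178,104],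
    [564,60,654,655,656,127],
    [432,654,649,157,347,657],
    [474,655,82,86,154,658],
    [465,659,152,154,361,660],
    [575,156,661,650,657,96],
    [509,157,72,176,348,662],
    [506,152,169,348,175,663],
    [559,664,126,127,650,623],
    [446,82,107,123,155,665],
    [514,666,667,668,665,147],
    [579,362,641,669,670,671],
    [565,669,672,657,127,90],
    [460,610,150,61,673,674],
    [463,614,151,673,675,361],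
    [470,623,111,675,61,74],
    [507,164,149,110,107,667],
    [453,613,66,344,676,640],
    [454,618,67,676,677,172],
    [442,678,646,82,152,679],
    [457,615,346,147,680,643],
    [485,631,673,63,681,634],
    [486,158,360,352,643,366],
    [458,611,96,680,682,119],
    [494,642,675,681,62,646],
    [418,656,347,99,119,683],
    [563,125,161,163,654,672],
    [438,161,119,355,649,661],
    [588,665,683,126,661,148],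
    [455,612,71,677,344,348],
    [469,622,106,682,147,155],
    [502,632,154,357,164,684],
    [578,366,665,685,156,105],
    [523,64,100,117,639,629],
    [497,686,157,120,99,687],
    [524,159,669,652,103,91],
    [527,688,76,629,652,111],
    [589,683,366,647,645,689],
    [574,647,670,103,629,613],
    [461,636,676,70,690,691],
    [462,85,171,161,674,180],
    [464,619,677,690,65,624],
    [466,175,95,100,678,692],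
    [467,95,361,164,646,693],
    [468,694,660,364,693,62],
    [479,616,680,105,689,620],
    [480,110,117,95,640,128],
    [426,160,631,69,695,163],
    [535,671,690,71,66,117],
    [430,176,674,654,634,688],
    [518,168,634,656,171,696],
    [538,169,659,637,95,697],
    [532,693,688,635,696,150],
    [429,98,633,695,342,113],
    [481,633,682,689,148,649],
    [493,353,642,671,145,357],
    [441,343,678,639,659,365],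
    [443,639,92,173,73,698],
    [445,76,693,699,679,151],
    [491,115,626,617,352,630],
    [543,155,632,634,163,685],
    [593,166,179,627,630,351],
    [510,617,99,113,355,700],
    [608,701,648,628,627,677],
    [544,177,658,156,684,79],
    [436,646,343,72,169,699],
    [419,347,358,74,125,702],
    [439,355,345,85,72,701],
    [440,703,702,672,126,59],
    [449,92,153,87,74,694],
    [471,637,73,167,101,669],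
    [472,180,694,670,76,63],
    [427,72,686,643,617,703],
    [567,359,356,662,687,98],
    [569,704,701,703,662,344],
    [531,697,363,645,88,78],
    [566,635,705,687,703,616],
    [500,74,637,691,100,670],
    [556,75,620,626,360,666],
    [473,345,354,360,686,705],
    [424,691,113,347,118,706],
    [504,124,698,76,669,89],
    [557,178,647,359,621,614],
    [519,149,163,171,655,707],
    [549,350,684,667,166,81],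
    [513,170,166,665,658,353],
    [568,672,159,704,116,109],
    [582,645,156,707,667,106],
    [534,657,666,362,366,680],
    [526,692,88,666,359,112],
    [585,698,708,661,672,709],
    [581,708,124,710,159,108],
    [583,661,645,621,666,346],
    [554,699,706,124,121,633],
    [555,648,704,121,128,676],
    [571,695,681,111,150,171],
    [516,706,707,658,668,631],
    [545,676,94,78,711,678],
    [499,358,656,632,161,708],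
    [548,682,98,711,77,355],
    [552,640,120,649,113,712],
    [537,680,351,83,713,644],
    [539,675,353,713,79,164],
    [517,348,617,620,354,664],
    [521,363,687,349,700,77],
    [541,673,160,108,709,654],
    [561,689,713,84,80,626],
    [452,700,692,679,365,93],
    [542,677,162,709,89,101],
    [475,88,700,701,356,97],
    [512,107,655,674,632,668],
    [489,123,640,678,691,710],
    [431,674,173,624,167,714],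
    [584,663,121,159,712,342],
    [580,650,635,177,174,619],
    [528,679,696,174,180,673],
    [490,114,691,659,117,704],
    [577,364,712,116,706,611],
    [590,707,699,697,663,341],
    [586,670,178,179,625,622],
    [501,103,127,683,708,160],
    [562,690,711,112,93,659],
    [546,681,709,109,90,656],
    [482,122,352,354,644,653],
    [496,146,644,686,626,179],
    [547,684,653,648,179,80],
    [536,621,629,698,641,636],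
    [525,116,103,694,698,162],
    [529,653,350,696,170,84],
    [450,696,652,641,694,61],
    [487,94,636,104,671,100],
    [488,638,689,106,346,360],
    [508,668,663,692,364,69],
    [530,687,697,693,692,711],
    [591,712,685,166,707,610],
    [498,349,651,625,648,67],
    [451,174,703,700,664,638],
    [522,126,714,170,635,618],
    [511,128,662,664,349,70],
    [576,121,668,684,685,695],
    [533,625,621,363,362,642],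
    [515,630,177,688,350,83],
    [476,710,349,705,701,71],
    [492,651,710,706,704,66],
    [433,702,174,350,714,58],
    [573,658,630,651,653,713],
    [448,685,364,365,699,612],
    [477,660,180,714,688,681],
    [484,662,627,178,651,65],
    [587,627,128,712,710,690],
    [420,705,650,708,702,57],
    [478,714,664,356,705,615],
    [609,713,638,623,615,686],
    [560,356,365,660,697,94],
    [186,135,412,129,487,512],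
    [207,587,511,591,582,14],
    [220,538,465,471,483,715],
    [222,582,575,590,715,15],
    [242,555,569,576,578,455],
    [245,575,583,580,528,488],
    [246,580,566,544,576,425],
    [273,524,565,715,560,546],
    [274,715,528,584,587,460],
    [300,433,451,549,591,570],
    [302,531,521,582,549,548],
    [323,450,715,572,484,463],
    [333,557,574,567,566,716],
    [337,472,468,586,498,494],
    [715,652,679,663,660,675],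
    [716,711,671,622,613,639],
    [615,247,368,181,717,387],
    [618,252,290,717,718,296],
    [623,265,229,718,181,193],
    [610,251,186,405,719,288],
    [611,257,187,719,720,269],
    [613,254,594,336,721,298],
    [636,275,717,183,722,278],
    [637,304,295,311,298,600],
    [614,248,215,721,723,237],
    [642,293,718,722,182,301],
    [691,243,371,372,317,340],
    [706,332,398,244,327,367],
    [612,249,190,720,405,328],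
    [622,264,224,723,336,271],
    [646,276,292,261,373,406],
    [699,600,332,407,326,223],
    [659,184,219,235,287,273],
    [660,369,337,315,222,210],
    [663,603,195,273,315,229],
    [707,398,600,302,300,724],
    [697,302,338,222,273,251],
    [616,281,719,189,725,382],
    [617,204,377,371,387,381],
    [619,258,720,725,185,266],
    [620,308,214,219,388,395],
    [621,400,325,394,392,182],
    [631,255,721,223,724,260],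
    [632,228,235,214,288,246],
    [671,339,725,190,186,235],
    [655,375,278,319,377,606],
    [674,250,324,282,214,386],
    [668,392,603,280,606,368],
    [633,277,723,724,367,309],
    [640,233,268,256,311,274],
    [678,271,276,278,372,407],
    [710,374,380,270,274,283],
    [649,256,218,231,596,607],
    [712,403,303,272,270,720],
    [679,379,323,326,406,198],
    [624,282,192,279,220,337],
    [625,381,400,338,195,183],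
    [693,307,597,329,397,217],
    [667,386,598,300,207,197],
    [692,280,601,397,404,255],
    [644,193,282,382,219,338],
    [686,194,260,268,295,333],
    [626,393,285,295,396,601],
    [648,242,605,195,337,208],
    [687,314,302,307,263,252],
    [656,313,372,377,318,385],
    [683,595,406,334,374,200],
    [651,376,374,332,323,291],
    [694,340,369,402,234,227],
    [702,300,326,385,334,224],
    [670,322,333,297,600,721],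
    [662,395,207,333,307,230],
    [704,605,602,327,340,726],
    [701,602,242,389,369,226],
    [703,327,300,263,333,594],
    [684,384,383,242,239,277],
    [685,303,402,239,246,719],
    [695,408,722,229,368,377],
    [653,383,385,323,335,275],
    [680,719,213,197,727,388],
    [643,306,319,276,371,602],
    [682,723,217,727,196,596],
    [673,721,283,202,728,299],
    [675,718,291,728,198,373],
    [654,328,256,260,285,331],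
    [657,598,397,399,607,196],
    [676,717,370,226,726,317],
    [689,724,728,203,199,268],
    [677,720,294,726,208,220],
    [627,207,607,403,597,216],
    [700,310,280,379,378,258],
    [664,391,606,378,381,717],
    [639,232,382,324,235,402],
    [698,394,390,234,383,248],
    [645,222,245,398,602,370],
    [690,725,727,230,212,324],
    [681,722,726,227,209,319],
    [634,240,311,285,299,316],
    [672,263,273,605,289,281],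
    [661,234,222,400,605,294],
    [665,316,595,606,376,203],
    [638,284,724,224,594,295],
    [666,397,386,392,395,727],
    [708,390,407,374,385,247],
    [658,244,604,376,280,257],
    [650,246,329,331,399,189],
    [669,267,263,598,297,293],
    [652,274,379,603,595,202],
    [628,389,399,601,403,190],
    [641,312,389,383,402,186],
    [696,323,274,312,316,728],
    [629,325,381,604,603,722],
    [635,329,270,314,312,185],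
    [705,270,246,390,389,725],
    [630,604,331,597,601,254],
    [713,728,284,265,254,396],
    [688,597,599,325,386,213],
    [709,726,408,249,247,318],
    [714,315,391,330,325,718],
    [711,727,339,264,251,287],
    [647,334,322,401,398,723],
    [503,667,657,702,683,682],
    [592,709,695,612,610,655],
    [721,541,426,410,716,543],
    [723,548,429,716,409,552],
    [717,545,487,415,609,500],
    [718,539,493,609,411,540],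
    [719,537,570,434,592,517],
    [724,561,609,416,412,473],
    [720,542,495,592,421,431],
    [725,562,716,437,425,523],
    [722,546,592,435,422,519],
    [728,609,488,470,460,556],
    [726,592,571,455,453,518],
    [727,716,535,469,457,490]]

/-- Its tree. -/
def threeTree : List (ℕ × ℕ) :=
  [
    (0,0),
    (0,0),
    (0,1),
    (0,2),
    (0,3),
    (0,4),
    (0,5),
    (1,0),
    (1,1),
    (1,2),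
    (1,3),
    (1,4),
    (1,5),
    (2,1),
    (2,2),
    (2,3),
    (2,4),
    (2,5),
    (3,2),
    (3,3),
    (3,4),
    (3,5),
    (4,2),
    (4,3),
    (4,4),
    (4,5),
    (5,1),
    (5,2),
    (5,4),
    (5,5),
    (6,1),
    (6,2),
    (6,3),
    (6,5),
    (7,1),
    (7,2),
    (7,3),
    (7,4),
    (7,5),
    (8,1),
    (8,2),
    (8,3),
    (8,4),
    (8,5),
    (9,2),
    (9,3),
    (9,4),
    (9,5),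
    (10,3),
    (10,4),
    (10,5),
    (11,4),
    (11,5),
    (12,1),
    (12,2),
    (12,3),
    (12,5),
    (13,2),
    (13,3),
    (13,4),
    (13,5),
    (14,2),
    (14,3),
    (14,4),
    (14,5),
    (15,2),
    (15,3),
    (15,4),
    (15,5),
    (16,1),
    (16,2),
    (16,4),
    (16,5),
    (17,1),
    (17,2),
    (17,3),
    (17,5),
    (18,3),
    (18,4),
    (19,2),
    (19,3),
    (19,4),
    (19,5),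
    (20,2),
    (20,4),
    (20,5),
    (21,1),
    (21,2),
    (21,5),
    (22,2),
    (22,3),
    (22,4),
    (22,5),
    (23,2),
    (23,4),
    (23,5),
    (24,1),
    (24,2),
    (24,4),
    (24,5),
    (25,1),
    (25,2),
    (25,3),
    (25,5),
    (26,1),
    (26,2),
    (26,4),
    (26,5),
    (27,2),
    (27,4),
    (27,5),
    (28,1),
    (28,2),
    (29,1),
    (29,2),
    (29,3),
    (29,5),
    (30,1),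
    (30,2),
    (30,3),
    (30,4),
    (30,5),
    (31,3),
    (31,4),
    (31,5),
    (32,2),
    (32,5),
    (33,1),
    (33,3),
    (34,1),
    (34,2),
    (34,3),
    (34,5),
    (35,2),
    (35,5),
    (36,3),
    (36,4),
    (36,5),
    (37,4),
    (37,5),
    (38,1),
    (38,2),
    (38,3),
    (38,5),
    (39,2),
    (39,3),
    (39,5),
    (40,2),
    (40,3),
    (40,5),
    (41,3),
    (41,4),
    (41,5),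
    (42,5),
    (43,1),
    (43,2),
    (43,5),
    (45,5),
    (46,5),
    (47,5),
    (48,4),
    (48,5),
    (49,4),
    (50,1),
    (50,2),
    (50,3),
    (50,5),
    (52,1),
    (52,2),
    (52,3),
    (52,5),
    (53,1),
    (53,3),
    (53,4),
    (53,5),
    (54,3),
    (54,4),
    (54,5),
    (55,5),
    (56,1),
    (56,3),
    (57,2),
    (57,3),
    (57,4),
    (57,5),
    (58,2),
    (58,3),
    (58,4),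
    (58,5),
    (59,2),
    (59,4),
    (59,5),
    (60,1),
    (60,2),
    (60,3),
    (60,5),
    (61,3),
    (61,4),
    (62,2),
    (62,3),
    (62,4),
    (62,5),
    (63,2),
    (63,4),
    (63,5),
    (64,1),
    (64,2),
    (64,5),
    (65,2),
    (65,3),
    (65,4),
    (65,5),
    (66,2),
    (66,4),
    (66,5),
    (67,1),
    (67,2),
    (67,4),
    (67,5),
    (68,1),
    (68,2),
    (68,3),
    (68,5),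
    (69,2),
    (69,4),
    (69,5),
    (70,2),
    (70,4),
    (70,5),
    (71,1),
    (71,2),
    (72,1),
    (72,2),
    (72,3),
    (72,5),
    (73,1),
    (73,2),
    (73,3),
    (73,4),
    (73,5),
    (74,3),
    (74,4),
    (74,5),
    (75,2),
    (75,5),
    (76,1),
    (76,3),
    (77,3),
    (77,4),
    (78,4),
    (78,5),
    (79,3),
    (79,4),
    (79,5),
    (80,2),
    (80,4),
    (80,5),
    (81,2),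
    (81,4),
    (81,5),
    (82,1),
    (82,2),
    (82,3),
    (82,5),
    (83,4),
    (84,2),
    (85,1),
    (85,5),
    (86,1),
    (86,4),
    (86,5),
    (87,3),
    (87,5),
    (88,1),
    (88,3),
    (90,4),
    (90,5),
    (91,4),
    (92,1),
    (92,2),
    (92,5),
    (93,4),
    (93,5),
    (94,1),
    (94,4),
    (94,5),
    (95,1),
    (95,2),
    (95,3),
    (95,5),
    (96,1),
    (96,4),
    (96,5),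
    (97,4),
    (98,1),
    (99,1),
    (99,3),
    (99,5),
    (100,2),
    (100,3),
    (100,5),
    (101,3),
    (101,5),
    (102,5),
    (105,5),
    (106,5),
    (107,3),
    (107,5),
    (109,5),
    (110,1),
    (110,5),
    (113,1),
    (113,5),
    (114,3),
    (114,5),
    (115,5),
    (116,3),
    (117,2),
    (117,3),
    (117,4),
    (118,3),
    (118,4),
    (118,5),
    (119,5),
    (120,1),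
    (120,5),
    (121,1),
    (121,2),
    (122,4),
    (122,5),
    (123,5),
    (124,1),
    (125,5),
    (126,1),
    (126,2),
    (126,3),
    (126,5),
    (127,3),
    (127,4),
    (127,5),
    (128,2),
    (129,2),
    (129,3),
    (129,5),
    (130,2),
    (130,5),
    (131,3),
    (131,5),
    (132,2),
    (132,5),
    (134,5),
    (135,4),
    (135,5),
    (136,4),
    (137,1),
    (137,2),
    (137,5),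
    (139,1),
    (139,3),
    (139,5),
    (140,1),
    (140,3),
    (140,5),
    (141,5),
    (142,5),
    (143,1),
    (143,3),
    (144,3),
    (145,3),
    (149,5),
    (150,4),
    (150,5),
    (152,1),
    (152,2),
    (152,5),
    (153,2),
    (153,5),
    (154,1),
    (154,5),
    (155,5),
    (156,1),
    (156,3),
    (157,1),
    (157,5),
    (158,5),
    (159,1),
    (159,3),
    (161,3),
    (163,3),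
    (163,5),
    (164,5),
    (165,5),
    (167,5),
    (168,3),
    (168,5),
    (170,3),
    (171,3),
    (172,5),
    (173,5),
    (174,1),
    (175,5),
    (176,5),
    (178,1),
    (178,2),
    (178,3),
    (178,5),
    (179,3),
    (179,4),
    (179,5),
    (181,3),
    (181,4),
    (182,2),
    (182,3),
    (182,4),
    (182,5),
    (183,2),
    (183,4),
    (183,5),
    (184,1),
    (184,2),
    (184,5),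
    (185,2),
    (185,3),
    (185,4),
    (185,5),
    (186,2),
    (186,4),
    (186,5),
    (187,2),
    (187,4),
    (188,1),
    (188,2),
    (188,3),
    (188,5),
    (189,2),
    (189,4),
    (189,5),
    (190,2),
    (191,1),
    (191,3),
    (191,5),
    (192,1),
    (192,2),
    (192,3),
    (192,4),
    (192,5),
    (193,3),
    (193,4),
    (193,5),
    (194,2),
    (194,5),
    (195,1),
    (195,3),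
    (196,3),
    (196,4),
    (197,4),
    (197,5),
    (198,3),
    (198,4),
    (198,5),
    (199,2),
    (199,4),
    (199,5),
    (200,2),
    (200,4),
    (200,5),
    (201,1),
    (201,2),
    (201,5),
    (202,4),
    (203,2),
    (204,1),
    (204,5),
    (205,1),
    (205,4),
    (205,5),
    (206,5),
    (207,1),
    (207,3),
    (209,4),
    (209,5),
    (210,4),
    (211,1),
    (211,2),
    (211,5),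
    (212,4),
    (212,5),
    (213,1),
    (213,4),
    (213,5),
    (214,2),
    (214,3),
    (214,5),
    (215,4),
    (216,4),
    (217,1),
    (218,1),
    (218,3),
    (218,5),
    (219,2),
    (219,3),
    (219,5),
    (220,3),
    (220,5),
    (221,5),
    (223,5),
    (224,5),
    (225,3),
    (225,5),
    (227,5),
    (228,1),
    (228,5),
    (231,1),
    (231,5),
    (232,5),
    (233,5),
    (234,3),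
    (235,2),
    (235,3),
    (235,4),
    (236,3),
    (236,5),
    (237,5),
    (238,1),
    (238,5),
    (239,2),
    (240,5),
    (241,5),
    (242,1),
    (243,5),
    (244,1),
    (244,2),
    (244,3),
    (245,3),
    (245,4),
    (245,5),
    (246,2),
    (247,4),
    (247,5),
    (248,4),
    (250,1),
    (251,4),
    (252,4),
    (253,1),
    (253,5),
    (254,4),
    (255,4),
    (256,5),
    (257,4),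
    (259,5),
    (260,2),
    (260,3),
    (261,3),
    (262,5),
    (266,5),
    (267,3),
    (269,1),
    (269,5),
    (270,1),
    (271,5),
    (272,1),
    (273,5),
    (275,4),
    (275,5),
    (276,2),
    (276,5),
    (278,5),
    (279,5),
    (280,1),
    (280,3),
    (283,1),
    (283,4),
    (286,5),
    (287,5),
    (288,5),
    (292,5),
    (295,5),
    (296,5),
    (297,3),
    (300,2),
    (301,5),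
    (302,1),
    (305,5),
    (307,1),
    (312,2),
    (314,1),
    (315,2),
    (316,2),
    (320,5),
    (324,5),
    (325,1),
    (333,2),
    (333,5),
    (334,3),
    (342,3),
    (345,5),
    (347,2),
    (347,5),
    (348,5),
    (349,1),
    (349,3),
    (350,1),
    (350,3),
    (354,5),
    (355,5),
    (361,5),
    (364,1),
    (365,3),
    (373,5),
    (402,5),
    (409,3),
    (409,4),
    (410,4),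
    (411,3),
    (411,4),
    (412,2),
    (412,4),
    (412,5),
    (413,2),
    (413,4),
    (414,1),
    (414,5),
    (415,4),
    (416,2),
    (417,1),
    (417,5),
    (418,1),
    (418,5),
    (419,5),
    (420,1),
    (420,3),
    (422,4),
    (422,5),
    (423,4),
    (424,1),
    (424,5),
    (425,4),
    (425,5),
    (426,4),
    (427,2),
    (427,3),
    (427,5),
    (428,4),
    (430,2),
    (430,3),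
    (430,5),
    (431,3),
    (431,5),
    (432,5),
    (436,1),
    (436,5),
    (438,5),
    (439,5),
    (440,3),
    (441,2),
    (441,3),
    (441,4),
    (442,5),
    (443,5),
    (444,1),
    (444,5),
    (445,2),
    (446,5),
    (447,5),
    (448,1),
    (449,5),
    (450,1),
    (450,2),
    (450,3),
    (451,3),
    (451,4),
    (451,5),
    (452,2),
    (453,4),
    (453,5),
    (454,4),
    (457,4),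
    (458,4),
    (459,1),
    (459,5),
    (460,4),
    (461,4),
    (463,4),
    (465,5),
    (471,5),
    (472,3),
    (474,1),
    (474,5),
    (476,1),
    (477,5),
    (479,4),
    (479,5),
    (482,5),
    (483,5),
    (484,1),
    (487,4),
    (490,5),
    (491,5),
    (497,5),
    (498,3),
    (502,5),
    (503,1),
    (506,5),
    (508,1),
    (514,1),
    (516,2),
    (520,5),
    (523,5),
    (530,2),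
    (530,5),
    (531,3),
    (537,4),
    (540,5),
    (541,4),
    (552,5),
    (596,5),
    (606,5),
    (610,4),
    (611,4),
    (613,4),
    (614,4),
    (615,4),
    (616,4),
    (618,4),
    (629,5),
    (631,4),
    (666,5),
    (673,4),
    (676,4)]

/-- Involutions centralising the elements of order three. -/
def threeInv : List (List ℕ) :=
  [
    [3,1,1,2],
    [5,0,0,0,3,5,4,1,3,4,2,2,1],
    [5,0,0,0,3,5,1,2,3,4,1,2,2,3],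
    [4,5,1,0,1,4,1,5,5,1,3,4,1,1,3,1,1],
    [4,5,1,0,4,3,5,2,1,1,2,1,4,2,1,1,2,1],
    [2,4,3,0,4,5,4,2,1,5,3,4,2,2,4,1,2,1,3,2,1],
    [0,0,5,2,1,5,5,2,4,1,4,2,4,1,2,1,3,2,1,1],
    [4,3,0,4,5,1,5,3,4,3,4,2,2,3,2],
    [4,3,0,4,5,5,1,1,4,2,1,2,1,3,2,1],
    [5,0,0,0,3,5,4,1,3,4,2,1,1,3,2,1,1],
    [2,2,1,2,2,1],
    [1,1,4,1],
    [2,5,0,5,2,5,5,2,4,2,4,3,2,1,2,1,1],
    [5,5,0,0,5,3,5,1,2,3,1,4,3,1,1,2,1],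
    [1,2,5,0,3,2,5,4,2,2,4,1,2,2,1,2,1,1],
    [4,5,1,0,1,4,1,5,5,1,3,4,3,2],
    [1,1,4,2,1,1,2,1],
    [3,5,0,4,5,1,5,3,4,3,2,4,3,2,1,2,2,1],
    [3,4,2,1,0,2,2,5,5,3,4,2,1,4,2,1,1,3,2,1,1],
    [1,1,0,5,3,4,1,2,5,1,2,3,1,4,2,1,3,2,1],
    [3,0,4,5,5,1,1,3,4,3,2,1,1,2],
    [0,1,0,1,3,1,5,3,1,4,1,2,2,3,2,1,1],
    [0,0,3,1,5,4,3,4,1,3,2,1,1,2,1,1],
    [2,3,2,4,3,2,3],
    [3,4,2,3,2,2,1],
    [2,4,1,0,4,5,5,4,3,2,2,1,4,2,2,3],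
    [0,0,0,1,5,5,4,1,2,1,4,3,2,1,2,3,1,1],
    [3,0,4,5,5,1,2,4,2,1,2],
    [5,0,0,0,3,5,1,3,2,4,2,3,1,1],
    [2,1,1,2,1,1],
    [1,0,0,0,4,5,1,2,5,3,2,1,2,4,2,2,1,2,1,1],
    [1,4,3,1,1,4,3,2,1,1],
    [1,4,3,1,1,4,3,2,1,2,3,1,1],
    [1,4,3,1,1,4,1,3,2,1,1,2,1,1],
    [4,1,1,3,4,2,1,2,1,3,2,1,1],
    [2,4,2,2,1,2],
    [0,4,5,4,2,5,3,4,2,2,4,1,3,2,1],
    [3,2,2,1],
    [5,0,3,2,5,5,3,2,1,1,4,3,2,1,3,2],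
    [5,1,0,1,4,1,5,5,3,1,4,3],
    [4,2,0,0,0,1,5,5,2,1,2,4,3,2,1,2,2,1],
    [2,2,0,4,5,5,1,1,3,4,2,1,3,2,1,1],
    [4,1,3,4,1,2,3,1],
    [1,2,3,1],
    [4,1,3,4,1,2,2,1,2],
    [2,4,2,1,4,2,3,2],
    [1,3,1,1,2,1,1],
    [4,5,1,0,5,4,1,3,4,2,1,3,1,2],
    [4,1,1,3,4,2,2,1,2,2],
    [1,2,4,2,1],
    [3,2,2,1,4,1,3,1,1,2],
    [4,3,1,1,4,1,2,2,1,1,3,1,1],
    [3,1,3,4,2,1,1,3,2],
    [1,1,0,4,5,5,4,3,4,1,3,2,1,1,2,1],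
    [4,2,1,1,2],
    [0,1,0,4,3,5,4,3,1,3,4,1,2],
    [0,0,1,5,2,2,1,5,2,2,3,4,2,2,1,1,2,1,1],
    [2,4,1,2,4,1,2,2,1,1,3,1],
    [1,1,0,2,4,5,5,3,2,2,1,4,3,2,1,2,3,1],
    [4,3,2,2,1,4,2,3,1,2,1],
    [2,4,3,2,4,3,2,1,2,1],
    [3,4,2,1,3,2,1,2],
    [3,0,0,0,4,5,1,5,3,1,1,4,3,2,1,1,2,1],
    [0,1,0,5,3,5,4,1,2,2,3,2,1,1],
    [1,4,3,1,1,4,1,3,1,1,2,1,1],
    [2,5,0,4,5,1,5,3,4,3,1,2,2],
    [1,4,3,1,1,4,2,2,1,2,2,1,1],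
    [0,0,0,1,5,4,2,1,1,2,1,1],
    [3,2,1,0,4,5,5,1,4,2,2,3],
    [5,0,4,5,1,5,1,4,3,1,1,4,2,1,1,3,2],
    [5,1,0,1,4,1,5,5,1,4,3,1,1,4,3,2,1,1,2,1,1],
    [3,0,2,0,1,4,2,5,1,5,2,1,3,4],
    [0,2,3,0,5,3,5,3,4,3,2,4,1,3,1,2,1],
    [3,1,0,4,5,5,3,2,1,1,4,2,3,1,2,1,1],
    [3,1,0,4,5,5,4,3,4,1,2,1,1,2,1,1],
    [2,1,1,2,1,4,1,2,1,1,2,1],
    [2,2,0,0,0,1,5,5,4,2,1,2,2,1,1],
    [3,2,0,1,3,1,5,4,3,1,1,4,1,3,2,1,2,1],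
    [1,0,4,5,5,4,3,2,4,1,3,2,1,1,2,1,1],
    [5,5,0,0,5,1,5,3,1,1,4,1,2,2,3,2,1,1],
    [5,1,0,1,4,1,5,5,3,4,3,2,4,2,3,2,1],
    [5,5,0,0,4,5,1,5,4,3,1,1,4,3,2,1,1,2,1],
    [5,1,0,1,4,1,5,5,2,1,4,2,3,1],
    [1,2,5,0,4,5,1,5,4,3,2,1,4,3,2,1,3,2],
    [2,4,1,0,5,4,3,1,3,4,3,2,1,2,2,1],
    [1,0,4,5,5,1,3,1,4,2,1,2,1,3,2,1,1],
    [4],
    [4,3,1,3,4,2,1,1,2],
    [1,0,0,0,1,5,5,1,1,3,4,2,1,3,1,2],
    [0,4,5,5,3,1,3,4,2,1,2,1,3,2,1],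
    [3,1,4,1,1,3],
    [5,0,4,5,1,5,4,3,1,3,4,1,1,3,1,1],
    [3,1,1,4,1,3],
    [1,1,3,4,3,1],
    [1,1,3,4,2,1,3,2,1,2,1],
    [2,4,3,2,4,2,1,3,2],
    [3,1,0,4,5,5,2,4,2,1,4,2,1,1,2,1],
    [3,5,0,5,1,3,1,5,2,1,1,3,2,1,1],
    [0,1,3,2,0,2,5,5,2,4,3,1,2,4,1,2,1,3],
    [3,4,3,4,2,2,3,2,1],
    [2,5,0,4,5,1,5,4,2,2,1,4,3,2,1,3,2,1],
    [2,2,1,4,3,2,1,2,3,1,1],
    [4,3,1,1,4,3,2],
    [3,1,2,3,4,1,3,2,1],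
    [1,0,4,5,5,1,2,4,2,1,2,3,1,1],
    [1,3,4,2,3,2,2],
    [1,3,1,4,3,2,1,1,2,1],
    [4,3,1,3,4,2,2,3,2],
    [1,4,3,1,1,4,3,2,1,2,1,1],
    [3,2,1,2,2,1,1],
    [0,1,2,5,1,3,2,1,4,3,1,2,1],
    [4,3,1,1,4,2,2,1,1,2,1,1],
    [4,1,3,4,3,1,1,2,1,1],
    [5,0,2,4,5,3,5,1,3,4,3,1,2,3,1,1],
    [3,1,3,2,1],
    [1,0,0,0,1,2,3,5,1,4,3,1,2,4,1,2,2,1,1],
    [3,4,1,2,4,2,1,1,3,2],
    [0,1,3,2,0,1,4,2,5,1,5,4,1,4,2,4,3,1],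
    [2,5,0,1,2,5,5,4,2,4,3,4,1,2,1,1,2,1,1],
    [4,1,3,4,1,2,1,3],
    [2,4,1,0,4,5,5,2,2,4,2,4,3,1,1],
    [5,5,0,0,5,3,5,2,3,2,4,1,2,3,1,2],
    [1,3,2,1,2,2,1],
    [0,0,0,1,5,5,4,3,4,2,4,2,1,2,3],
    [3,1,2,4,3,1,2,1],
    [4,1,1,3,4,2,1,3,2,1,2,1],
    [1,4,3,1,1,4,1,2,3],
    [3,5,0,4,5,1,5,4,2,3,1,4,2,1,1,3,2,1],
    [1,1,4,2,2,1,2,2,1]]

/-- Which one. -/
def threeWit : List ℕ := [0,0,1,2,3,4,0,0,5,6,7,8,0,1,9,10,11,0,2,12,13,0,14,3,15,0,16,17,4,0,0,0,0,0,18,19,20,21,0,18,22,23,24,0,19,25,26,0,20,27,0,21,0,0,0,0,0,28,29,30,0,28,31,32,0,33,29,34,35,36,37,38,0,0,0,0,0,39,35,40,41,42,0,43,44,43,0,45,34,41,40,46,0,39,47,0,48,49,47,0,50,0,0,0,38,51,36,0,44,43,52,30,35,0,0,0,0,0,0,44,0,0,0,33,31,0,0,0,0,5,53,54,0,6,0,7,55,0,8,0,0,0,0,0,56,57,0,58,59,0,60,61,44,0,0,0,0,0,34,43,62,0,63,50,0,0,0,0,0,0,0,0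,35,0,0,0,31,33,0,0,0,9,64,65,0,66,10,67,0,68,16,0,0,0,0,0,69,70,71,72,73,0,74,75,0,0,0,0,76,77,78,0,79,80,0,81,82,83,0,0,0,0,0,84,11,0,85,86,0,24,87,0,0,0,0,0,0,0,0,0,0,0,0,0,0,0,0,14,88,17,0,12,89,0,25,90,0,91,92,0,0,0,0,0,13,26,0,0,0,0,0,0,0,0,0,93,0,94,0,0,0,95,0,96,15,0,0,0,0,0,97,98,0,99,100,0,0,0,0,0,0,0,0,0,0,0,0,0,0,0,0,0,0,0,0,0,0,0,0,0,0,0,0,0,0,0,0,0,0,0,0,0,0,0,0,0,53,0,0,55,0,58,60,0,56,0,57,101,0,0,52,63,0,62,50,0,0,0,0,0,0,102,0,45,0,0,0,103,54,0,104,0,0,0,0,0,0,0,0,0,0,0,0,0,0,0,0,0,0,0,0,0,0,0,0,0,0,0,0,0,0,0,0,0,0,22,0,0,27,79,86,77,76,105,0,75,70,0,0,0,0,72,71,106,0,69,100,0,107,96,0,0,0,0,87,85,0,74,0,0,0,0,0,0,0,0,0,0,0,0,0,0,0,66,108,65,0,64,109,0,103,110,0,111,112,0,0,0,0,84,68,0,0,0,0,0,0,0,0,113,0,114,0,0,0,115,0,98,97,0,0,0,0,80,116,104,0,0,0,0,0,0,0,0,0,0,0,0,0,0,0,0,0,0,0,0,0,0,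0,0,0,0,0,0,0,0,0,0,0,0,0,0,0,0,0,67,0,92,0,90,0,99,95,0,0,94,89,0,93,0,0,0,0,0,0,0,0,0,0,0,0,91,88,0,0,0,0,0,0,0,83,81,0,0,0,0,0,0,0,0,0,0,0,0,0,0,0,0,0,0,0,0,78,0,23,0,0,0,0,0,0,0,0,0,0,0,0,0,0,82,33,117,51,31,118,59,119,61,120,121,0,0,37,32,31,0,0,34,0,33,0,122,34,123,0,0,124,125,48,126,0,102,127,0,0,0,33,0,50,128,0,119,0,0,0,119,0,50,0,0,125,31,0,0,101,0,0,0,35,0,44,61,0,123,0,124,121,122,0,50,127,117,119,61,0,35,31,0,0,118,120,0,0,126,0,34,0,0,0,0,0,0,0,44,0,128,0,31,0,42,0,49,0,46,0,0,73,116,113,114,110,112,111,115,108,109,107,106,105]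

/-- The generators of the model in those of the amalgam. -/
def genExpr : List (List ℕ) := [[0,3,1,2,1,0,3,2,3,1,2,3,2,0,1,2,0,2,1,0,2,1],[1,1,0,1,2,3,0,1,2,3,0,2,0,1,1,1,0,1,1,1,2],[1,1,0,3,1,2,1,3,2,1,3,1,0,1,1,0,1,0,2,1,0],[1,2,1,1,2,1,3,0,2,1,0,1,2,1,0,2,0],[3,1,3,3,2,1,0,3,1,2,0,3,2,2,2,0,2,0,1,1,1,1],[3,0,1,3,0,2,3,0,1,0,3,2,1,1,2,0,1,2,0,1,1,1,0]]

/-- The relators of the amalgam. -/
def rels : List (List (Fin 4 × Bool)) :=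
  [
    [(0, true), (0, true)],
    [(0, false), (0, false)],
    [(3, true), (3, true), (3, true)],
    [(2, false), (3, true), (2, false), (2, false), (3, true), (2, false)],
    [(3, true), (2, false), (2, false), (3, true), (2, false), (2, false)],
    [(3, false), (2, true), (2, true), (3, false), (2, true), (2, true)],
    [(2, true), (2, true), (2, true), (2, true), (2, true), (2, true), (2, true), (2, true)],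
    [(3, true), (0, true), (3, true), (0, true), (3, true), (0, false), (3, true), (0, false)],
    [(3, true), (0, true), (3, true), (0, false), (3, true), (0, false), (3, true), (0, false)],
    [(3, true), (1, false), (3, true), (1, false), (3, true), (1, false), (3, true), (1, false)],
    [(3, false), (0, true), (3, true), (0, true), (3, true), (0, false), (3, true), (0, false), (3, false)],
    [(2, true), (0, true), (2, true), (1, true), (1, true), (0, false), (1, false), (0, false), (2, false), (1, true)],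
    [(2, true), (0, true), (2, false), (0, true), (3, true), (2, false), (3, true), (2, false), (3, false), (0, false)],
    [(2, true), (0, true), (2, false), (1, true), (1, true), (2, false), (0, false), (2, true), (1, false), (1, false)],
    [(2, true), (1, true), (1, true), (0, true), (1, false), (0, false), (2, false), (1, true), (2, true), (0, false)],
    [(2, true), (1, false), (1, false), (2, true), (0, true), (2, false), (1, true), (1, true), (2, false), (0, false)],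
    [(2, true), (1, false), (1, false), (2, true), (0, false), (2, false), (1, true), (1, true), (2, false), (0, false)],
    [(2, true), (1, false), (2, true), (1, false), (2, true), (1, false), (2, false), (2, false), (2, false), (1, false)],
    [(2, true), (2, true), (2, true), (1, false), (2, false), (2, false), (2, false), (2, false), (1, true), (2, true)],
    [(2, true), (2, true), (2, true), (2, true), (0, true), (2, false), (2, false), (2, false), (2, false), (0, false)],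
    [(2, true), (2, true), (2, true), (2, true), (0, false), (2, false), (2, false), (2, false), (2, false), (0, false)],
    [(2, true), (2, true), (2, true), (2, true), (1, true), (2, false), (2, false), (2, false), (2, false), (1, false)],
    [(3, true), (0, true), (3, true), (1, false), (3, true), (0, false), (3, true), (0, false), (1, true), (0, false)],
    [(3, true), (1, false), (0, true), (3, false), (0, true), (3, false), (1, true), (0, false), (3, true), (0, false)],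
    [(3, true), (1, false), (0, true), (3, false), (0, false), (3, false), (1, true), (0, false), (3, true), (0, false)],
    [(3, false), (0, true), (1, false), (3, true), (0, false), (3, true), (0, false), (1, true), (3, false), (0, false)],
    [(3, false), (0, true), (3, true), (0, true), (3, false), (3, false), (0, false), (3, true), (0, false), (3, false)],
    [(3, false), (0, true), (3, false), (1, true), (0, true), (3, true), (0, false), (3, true), (1, false), (0, false)],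
    [(0, true), (1, true), (1, true), (2, false), (0, true), (2, false), (0, false), (2, false), (1, true), (0, false), (2, true)],
    [(0, true), (1, true), (2, true), (0, true), (1, false), (1, false), (2, true), (2, true), (1, true), (2, true), (1, false)],
    [(0, true), (1, false), (0, true), (3, false), (0, true), (3, true), (3, true), (1, true), (3, false), (0, false), (3, false)],
    [(0, true), (2, true), (0, true), (2, true), (0, true), (2, false), (0, false), (2, false), (3, true), (0, false), (3, true)],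
    [(0, true), (2, true), (1, false), (1, false), (0, true), (2, false), (0, false), (1, false), (2, true), (0, false), (2, true)],
    [(0, true), (2, false), (0, true), (1, false), (2, true), (0, true), (2, true), (0, false), (2, true), (1, false), (1, false)],
    [(0, true), (2, false), (0, true), (1, false), (2, true), (0, false), (2, true), (0, false), (2, true), (1, false), (1, false)],
    [(0, true), (3, true), (0, true), (1, true), (0, true), (3, false), (3, false), (0, false), (3, true), (1, false), (3, true)],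
    [(0, true), (3, true), (0, true), (3, true), (1, false), (3, false), (3, false), (0, false), (3, true), (0, false), (1, true)],
    [(1, true), (1, true), (1, true), (1, true), (1, true), (1, true), (2, false), (2, false), (2, false), (2, false), (1, true)],
    [(1, true), (1, true), (1, true), (1, true), (1, true), (2, true), (2, true), (2, true), (2, true), (1, true), (1, true)],
    [(1, true), (1, true), (1, true), (1, true), (1, true), (2, false), (2, false), (2, false), (2, false), (1, true), (1, true)],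
    [(1, true), (1, true), (2, true), (1, false), (2, false), (2, false), (1, true), (1, true), (2, false), (1, false), (2, false)],
    [(1, true), (1, true), (2, true), (1, false), (2, true), (0, true), (2, true), (2, true), (1, true), (1, true), (2, true), (0, false)],
    [(1, true), (1, true), (3, true), (1, true), (3, false), (0, true), (3, true), (1, false), (3, false), (1, false), (1, false), (0, false)],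
    [(1, true), (1, true), (3, true), (1, true), (3, false), (0, false), (3, true), (1, false), (3, false), (1, false), (1, false), (0, false)],
    [(1, true), (1, true), (3, false), (1, true), (0, true), (3, false), (1, false), (3, false), (1, false), (3, false), (1, false), (0, false)],
    [(1, true), (1, true), (3, false), (1, true), (1, true), (1, true), (3, false), (1, true), (0, false), (1, true), (3, true), (0, false)],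
    [(1, false), (1, false), (3, false), (1, false), (3, false), (1, true), (0, false), (3, false), (1, true), (0, false), (3, false), (0, false)],
    [(0, true), (1, true), (0, true), (1, true), (0, true), (2, true), (2, true), (0, false), (1, true), (1, true), (0, false), (2, false), (2, false)],
    [(0, true), (1, true), (0, true), (1, true), (3, false), (0, true), (3, false), (1, false), (1, false), (1, false), (1, false), (1, false), (1, false)],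
    [(0, true), (1, true), (1, true), (1, true), (3, true), (1, true), (0, true), (1, false), (3, true), (1, true), (3, true), (1, false), (3, true)],
    [(0, true), (1, true), (1, true), (3, true), (0, true), (3, true), (1, true), (3, true), (1, false), (0, false), (3, true), (1, true), (3, false)],
    [(0, true), (2, true), (3, true), (0, true), (3, true), (2, true), (0, true), (3, false), (2, true), (3, true), (2, true), (3, true), (2, false)],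
    [(1, true), (1, true), (1, true), (1, true), (1, true), (1, true), (1, true), (1, true), (1, true), (1, true), (1, true), (1, true), (1, true), (1, true)],
    [(2, true), (0, true), (2, true), (0, true), (2, true), (0, true), (2, true), (0, false), (2, true), (0, false), (2, true), (0, false), (2, true), (0, false)],
    [(0, true), (1, true), (0, true), (1, true), (0, true), (1, false), (0, true), (1, true), (0, true), (1, true), (1, true), (0, false), (1, true), (0, false), (1, false), (1, false), (1, false)],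
    [(0, true), (1, true), (1, true), (1, true), (0, true), (1, true), (1, true), (1, true), (0, true), (1, true), (1, true), (1, true), (0, false), (1, false), (1, false), (1, false), (1, false)]]

end Cfsg.Agent.McLRecog.Data
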