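import Cfsg.Agent.Compute.Perm
import Cfsg.Agent.StemCert.Bound

/-!
Packed linear maps of a four-dimensional space over two elements.
-/

set_option autoImplicit false

namespace Cfsg.Agent.McLRecog

/-- A bit. -/
def bitAt (k i : ℕ) : ℕ := Nat.land (Nat.shiftRight k i) 1

/-- An image of a basis vector. -/
def dig (a i : ℕ) : ℕ := Nat.land (Nat.shiftRight a (Nat.mul 4 i)) 15

/-- The image of a vector. -/
def app (a k : ℕ) : ℕ :=
  Nat.xor (Nat.xor (Nat.mul (bitAt k 0) (dig a 0)) (Nat.mul (bitAt k 1) (dig a 1)))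
    (Nat.xor (Nat.mul (bitAt k 2) (dig a 2)) (Nat.mul (bitAt k 3) (dig a 3)))

/-- The image under a product of listed maps. -/
noncomputable def appL (acts : List ℕ) (w : List ℕ) (k : ℕ) : ℕ :=
  List.rec (motive := fun _ => ℕ) k (fun s _ r => app (acts.getD s 0) r) w

theorem bitAt_le (k i : ℕ) : bitAt k i ≤ 1 := by
  have : bitAt k i = (k >>> i) &&& 1 := rfl
  rw [this, Nat.and_one_is_mod]; omega

theorem dig_lt (a i : ℕ) : dig a i < 16 := by
  have : dig a i = (a >>> (4 * i)) &&& 15 := rfl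
  rw [this]
  exact Nat.lt_succ_of_le Nat.and_le_right

theorem xor_lt16 {a b : ℕ} (ha : a < 16) (hb : b < 16) : Nat.xor a b < 16 :=
  Nat.xor_lt_two_pow (n := 4) ha hb

theorem app_lt (a k : ℕ) : app a k < 16 := by
  have h : ∀ i, Nat.mul (bitAt k i) (dig a i) < 16 := fun i => by
    have h1 := bitAt_le k i
    have h2 := dig_lt a i
    show bitAt k i * dig a i < 16
    rcases (show bitAt k i = 0 ∨ bitAt k i = 1 by omega) with h | h <;> rw [h] <;> omega
  exact xor_lt16 (xor_lt16 (h 0) (h 1)) (xor_lt16 (h 2) (h 3))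

theorem appL_lt (acts w : List ℕ) {k : ℕ} (hk : k < 16) : appL acts w k < 16 := by
  cases w with
  | nil => exact hk
  | cons s w => exact app_lt _ _

variable {G : Type*} [Group G]

/-- Conjugation by `g` acts on the listed elements as the map `a`. -/
def Conjs (el : ℕ → G) (g : G) (a : ℕ) : Prop := ∀ k < 16, g * el k * g⁻¹ = el (app a k)

theorem appL_spec (el : ℕ → G) {acts : List ℕ} {gs : ℕ → G} {n : ℕ}
    (h : ∀ s < n, Conjs el (gs s) (acts.getD s 0)) :
    ∀ w : List ℕ, (∀ s ∈ w, s < n) → ∀ k < 16,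
      (w.map gs).prod * el k * ((w.map gs).prod)⁻¹ = el (appL acts w k) := by
  intro w
  induction w with
  | nil => intro _ k _; simp [appL]
  | cons s w ih =>
    intro hw k hk
    have e := ih (fun r hr => hw r (List.mem_cons_of_mem _ hr)) k hk
    rw [List.map_cons, List.prod_cons]
    calc gs s * (w.map gs).prod * el k * (gs s * (w.map gs).prod)⁻¹
        = gs s * ((w.map gs).prod * el k * ((w.map gs).prod)⁻¹) * (gs s)⁻¹ := by group
      _ = gs s * el (appL acts w k) * (gs s)⁻¹ := by rw [e]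
      _ = el (app (acts.getD s 0) (appL acts w k)) :=
        h s (hw s (by simp)) _ (appL_lt acts w hk)

theorem conjs_of_basis (el : ℕ → G) (h0 : el 0 = 1)
    (hmul : ∀ i < 16, ∀ j < 16, el i * el j = el (Nat.xor i j)) {g : G} {a : ℕ}
    (h : ∀ i < 4, g * el (2 ^ i) * g⁻¹ = el (dig a i)) : Conjs el g a := by
  have hp : ∀ i < 4, ∀ b ≤ 1, g * el (Nat.mul b (2 ^ i)) * g⁻¹ = el (Nat.mul b (dig a i)) := by
    intro i hi b hb
    show g * el (b * 2 ^ i) * g⁻¹ = el (b * dig a i)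
    rcases (show b = 0 ∨ b = 1 by omega) with rfl | rfl
    · simp [h0]
    · simpa using h i hi
  intro k hk
  have hb : ∀ i, Nat.mul (bitAt k i) (dig a i) < 16 := fun i => by
    have h1 := bitAt_le k i
    have h2 := dig_lt a i
    show bitAt k i * dig a i < 16
    rcases (show bitAt k i = 0 ∨ bitAt k i = 1 by omega) with h | h <;> rw [h] <;> omega
  have hk2 : ∀ i, i < 4 → Nat.mul (bitAt k i) (2 ^ i) < 16 := fun i hi => by
    have h1 := bitAt_le k i
    show bitAt k i * 2 ^ i < 16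
    interval_cases i <;> omega
  have hdec : k = Nat.xor (Nat.xor (Nat.mul (bitAt k 0) (2 ^ 0)) (Nat.mul (bitAt k 1) (2 ^ 1)))
      (Nat.xor (Nat.mul (bitAt k 2) (2 ^ 2)) (Nat.mul (bitAt k 3) (2 ^ 3))) := by
    clear hb hk2
    revert k; decide
  conv_lhs => rw [hdec]
  show _ = el (app a k)
  unfold app
  rw [← hmul _ (xor_lt16 (hk2 0 (by omega)) (hk2 1 (by omega))) _
      (xor_lt16 (hk2 2 (by omega)) (hk2 3 (by omega))),
    ← hmul _ (hk2 0 (by omega)) _ (hk2 1 (by omega)), ← hmul _ (hk2 2 (by omega)) _ (hk2 3 (by omega)),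
    ← hmul _ (xor_lt16 (hb 0) (hb 1)) _ (xor_lt16 (hb 2) (hb 3)),
    ← hmul _ (hb 0) _ (hb 1), ← hmul _ (hb 2) _ (hb 3)]
  rw [← conj_mul, ← conj_mul, ← conj_mul, hp 0 (by omega) _ (bitAt_le k 0), hp 1 (by omega) _ (bitAt_le k 1),
    hp 2 (by omega) _ (bitAt_le k 2), hp 3 (by omega) _ (bitAt_le k 3)]

end Cfsg.Agent.McLRecog
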