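import Cfsg.Agent.McLRecog.Words
import Cfsg.Agent.McLRecog.Lin
import Cfsg.Agent.McLRecog.Data

/-!
The finite checks on one of the two elementary subgroups of order sixteen.
-/

set_option autoImplicit false

namespace Cfsg.Agent.McLRecog

open Cfsg Cfsg.Agent.Compute Cfsg.Agent.StemCert Cfsg.Agent.LeechModel

/-- Tables of a side. -/
structure Side where
  els : List (List ℕ)
  pl : List ℕ
  nm : List (List ℕ)
  gens : List (List ℕ)
  lels : List (List ℕ)
  lnext : List (List ℕ)
  ltree : List (ℕ × ℕ)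
  a : List ℕ
  ai : ℕ
  act : List ℕ
  mem : List (ℕ × ℕ)
  orb : List ℕ
  nconj : List (List ℕ)
  nconjI : List (List ℕ)
  nwit : List (List ℕ)
  comp : List (List (ℕ × ℕ))
  rels : List (List ℕ)
  label : ℕ
  labwit : List ℕ
  cand : List (List (List ℕ))
  wacts : List ℕ
  wgacts : List ℕ
  oth : List ℕ

variable (S : Side)

/-- An element of the subgroup. -/
noncomputable def Side.elW (i : ℕ) : List ℕ := S.els.getD i []

/-- A complement element. -/
noncomputable def Side.lW (i : ℕ) : List ℕ := S.lels.getD i []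

/-- A complement generator. -/
noncomputable def Side.gW (i : ℕ) : List ℕ := S.gens.getD i []

/-- The words of membership. -/
noncomputable def Side.memW (i : ℕ) : List ℕ :=
  [Data.wGens.getD 0 [], Data.wGens.getD 1 [], Data.wGens.getD 2 [], Data.tauW,
    Data.spqW.getD 0 [], S.oth].getD i []

noncomputable def Side.okMul : Bool :=
  eqW (S.elW 0) [] && eqW (S.elW 1) McL.Out.tWord && eqW (S.elW 2) (Data.eEls.getD 2 []) &&
  eqW (S.elW 3) (Data.eEls.getD 3 []) &&
    allBelow 16 fun i => allBelow 16 fun j => eqW (S.elW i ++ S.elW j) (S.elW (Nat.xor i j))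

noncomputable def Side.okPl : Bool :=
  allBelow 16 (fun i => Nat.blt (S.pl.getD i 128) 128 &&
    eqW (S.elW i) (McL.Out.sylEls.getD (S.pl.getD i 128) [])) &&
  allBelow 3 (fun g => allBelow 16 fun i => Nat.blt ((S.nm.getD g []).getD i 16) 16 &&
    eqW (McL.Out.sylGens.getD g [] ++ S.elW i)
      (S.elW ((S.nm.getD g []).getD i 16) ++ McL.Out.sylGens.getD g []))

noncomputable def Side.okDist : Bool := distinctW 16 S.els

noncomputable def Side.okL : Bool :=
  tableB S.lels S.gens S.lnext S.ltree 168 2 && distinctW 168 S.lels &&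
  allBelow 2 (fun g => eqW (S.gW g ++ McL.Out.tWord) (McL.Out.tWord ++ S.gW g) &&
    allBelow 4 (fun i => eqW (S.gW g ++ S.elW (Nat.pow 2 i))
      (S.elW (dig (S.act.getD g 0) i) ++ S.gW g))) &&
  allBelow 4 (fun i => eqW (S.a ++ S.elW (Nat.pow 2 i)) (S.elW (dig (S.act.getD 2 0) i) ++ S.a)) &&
  eqW S.a (S.elW S.ai ++ Data.xW) && Nat.blt S.ai 16

noncomputable def Side.okDisj : Bool :=
  allBelow 168 fun i => Nat.beq i 0 || allBelow 16 fun j => neW (S.lW i) (S.elW j)

noncomputable def Side.okMem : Bool :=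
  allBelow 6 fun i => Nat.blt (S.mem.getD i (16, 0)).1 16 && Nat.blt (S.mem.getD i (16, 0)).2 168 &&
    eqW (S.memW i) (S.elW (S.mem.getD i (16, 0)).1 ++ S.lW (S.mem.getD i (16, 0)).2)

noncomputable def Side.okOrb : Bool :=
  allBelow 14 fun i => Nat.blt (S.orb.getD (Nat.add i 2) 168) 168 &&
    eqW (S.lW (S.orb.getD (Nat.add i 2) 168) ++ S.elW 2)
      (S.elW (Nat.add i 2) ++ S.lW (S.orb.getD (Nat.add i 2) 168))

noncomputable def Side.okNC : Bool :=
  allBelow 15 fun j =>
    eqW (S.nconj.getD j [] ++ McL.Out.tWord) (McL.Out.tWord ++ S.nconj.getD j []) &&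
    eqW (S.nconj.getD j [] ++ S.nconjI.getD j []) [] &&
    allBelow 15 fun k => Nat.beq j k || (Nat.blt ((S.nwit.getD j []).getD k 16) 16 &&
      allBelow 16 fun i =>
        neW (S.nconj.getD j [] ++ (S.elW ((S.nwit.getD j []).getD k 16) ++ S.nconjI.getD j []))
          (S.nconj.getD k [] ++ (S.elW i ++ S.nconjI.getD k [])))

/-- A relator at twisted generators. -/
noncomputable def Side.relW (i j : ℕ) (r : List ℕ) : List ℕ :=
  List.rec (motive := fun _ => List ℕ) [] (fun s _ rest =>
    S.elW (Bool.rec (motive := fun _ => ℕ) j i (Nat.beq s 0)) ++ (S.gW s ++ rest)) r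

noncomputable def Side.okComp : Bool :=
  allBelow 4 (fun r => allB (fun s => Nat.blt s 2) (S.rels.getD r [])) &&
  allBelow 16 fun i => allBelow 16 fun j =>
    forceN ((S.comp.getD i []).getD j (20, 0)).1 fun c => forceN ((S.comp.getD i []).getD j (20, 0)).2 fun e =>
      (Nat.blt c 16 && eqW (S.elW c ++ (S.gW 0 ++ S.elW c)) (S.elW i ++ S.gW 0) &&
        eqW (S.elW c ++ (S.gW 1 ++ S.elW c)) (S.elW j ++ S.gW 1)) ||
      (Nat.blt c 20 && Nat.ble 16 c && Nat.blt e 16 && !Nat.beq e 0 &&
        eqW (S.relW i j (S.rels.getD (Nat.sub c 16) [])) (S.elW e))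

noncomputable def Side.okLab : Bool :=
  allBelow 3 (fun g => allBelow 275 fun p =>
    Nat.beq (getField 9 S.label (appW 9 McL.Model.codes ([S.gW 0, S.gW 1, S.a].getD g []) p))
      (getField 9 S.label p)) &&
  allBelow 15 (fun k => Nat.blt (S.labwit.getD (Nat.succ k) 275) 275 &&
    !Nat.beq (getField 9 S.label (appW 9 McL.Model.codes (S.elW (Nat.succ k)) (S.labwit.getD (Nat.succ k) 275)))
      (getField 9 S.label (S.labwit.getD (Nat.succ k) 275))) &&
  allB (fun s => Nat.blt s 6) S.a &&
  allBelow 2 (fun g => allB (fun s => Nat.blt s 6) (S.gW g)) &&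
  allBelow 16 (fun k => allB (fun s => Nat.blt s 6) (S.elW k))

noncomputable def Side.okAct : Bool :=
  allBelow 192 (fun n => allBelow 4 fun i => eqW (Data.wEls.getD n [] ++ S.elW (Nat.pow 2 i))
    (S.elW (dig (S.wacts.getD n 0) i) ++ Data.wEls.getD n [])) &&
  allBelow 3 (fun n => allBelow 4 fun i => eqW (Data.wGens.getD n [] ++ S.elW (Nat.pow 2 i))
    (S.elW (dig (S.wgacts.getD n 0) i) ++ Data.wGens.getD n []))

/-- A candidate map. -/
noncomputable def candMap (i j : ℕ) : ℕ := Nat.add 50 (Nat.add (Nat.mul 256 i) (Nat.mul 4096 j))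

noncomputable def Side.okCand : Bool :=
  allBelow 16 fun i => allBelow 16 fun j => forceN (candMap i j) fun al =>
    (Nat.beq (((S.cand.getD i []).getD j []).getD 0 0) 9 &&
      forceN (((S.cand.getD i []).getD j []).getD 1 0) fun g => Nat.blt g 3 &&
        allBelow 192 fun n => !allBelow 16 fun k =>
          Nat.beq (app al (app (S.wgacts.getD g 0) k)) (app (S.wacts.getD n 0) (app al k))) ||
    (allB (fun s => Nat.blt s 3) ((S.cand.getD i []).getD j []) &&
      allBelow 16 fun k => Nat.beq
        (appL [S.act.getD 0 0, S.act.getD 1 0, al] ((S.cand.getD i []).getD j []) k)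
        (app (S.act.getD 2 0) k))

/-- All checks of a side hold. -/
structure Side.Ok : Prop where
  mul : S.okMul = true
  pl : S.okPl = true
  dist : S.okDist = true
  l : S.okL = true
  disj : S.okDisj = true
  mem : S.okMem = true
  orbit : S.okOrb = true
  first : S.nconj.getD 0 [] = []
  nc : S.okNC = true
  comp : S.okComp = true
  lab : S.okLab = true
  acts : S.okAct = true
  cand : S.okCand = true

/-- The first side. -/
def sideE : Side where
  els := Data.eEls
  pl := Data.eT
  nm := Data.eN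
  gens := Data.lGens
  lels := Data.lEls
  lnext := Data.lNext
  ltree := Data.lTree
  a := Data.lA
  ai := Data.lAI
  act := Data.lAct
  mem := Data.lMem
  orb := Data.lOrb
  nconj := Data.lNConj
  nconjI := Data.lNConjI
  nwit := Data.lNWit
  comp := Data.lComp
  rels := Data.lRels
  label := Data.lLabel
  labwit := Data.lLabWit
  cand := Data.lCand
  wacts := Data.wAct
  wgacts := Data.wgAct
  oth := Data.spqW.getD 1 []

/-- The second side. -/
def sideF : Side where
  els := Data.fEls
  pl := Data.fT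
  nm := Data.fN
  gens := Data.mGens
  lels := Data.mEls
  lnext := Data.mNext
  ltree := Data.mTree
  a := Data.mA
  ai := Data.mAI
  act := Data.mAct
  mem := Data.mMem
  orb := Data.mOrb
  nconj := Data.mNConj
  nconjI := Data.mNConjI
  nwit := Data.mNWit
  comp := Data.mComp
  rels := Data.mRels
  label := Data.mLabel
  labwit := Data.mLabWit
  cand := Data.mCand
  wacts := Data.wActF
  wgacts := Data.wgActF
  oth := Data.spqW.getD 2 []

end Cfsg.Agent.McLRecog
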