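import Cfsg.Agent.McLRecog.Words
import Cfsg.Agent.McLRecog.Data

/-!
The finite checks that concern the centraliser as a whole and the Sylow subgroup for three.
-/

set_option autoImplicit false
set_option maxRecDepth 100000
set_option maxHeartbeats 0
set_option Elab.async false

namespace Cfsg.Agent.McLRecog

open Cfsg Cfsg.Agent.Compute Cfsg.Agent.StemCert Cfsg.Agent.LeechModel

/-- An element of the Sylow subgroup. -/
noncomputable def sW (i : ℕ) : List ℕ := McL.Out.sylEls.getD i []

/-- The second involution's word. -/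
noncomputable def vW : List ℕ := Data.eEls.getD 2 []

/-- The place of a member of the list of involutions. -/
noncomputable def inv2 (a : ℕ) : ℕ := Data.invT.getD a 0

noncomputable def chkInvol : Bool :=
  allBelow 128 (fun i => Nat.beq i 0 || Nat.beq i 116 || neW (sW i ++ sW i) [] ||
    !allBelow 34 (fun a => !Nat.beq (inv2 a) i)) &&
  allBelow 34 (fun a => Nat.blt (inv2 a) 128 &&
    eqW (Data.invC.getD a [] ++ McL.Out.tWord) (McL.Out.tWord ++ Data.invC.getD a []) &&
    eqW (Data.invC.getD a [] ++ vW) (sW (inv2 a) ++ Data.invC.getD a [])) &&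
  eqW (sW 116) McL.Out.tWord

noncomputable def chkMul : Bool :=
  allBelow 128 (fun i => Nat.blt (Data.tMul.getD i 128) 128 &&
    eqW (McL.Out.tWord ++ sW i) (sW (Data.tMul.getD i 128))) &&
  allBelow 34 (fun a => allBelow 34 fun b => forceN ((Data.invMul.getD a []).getD b 200) fun m =>
    (Nat.blt m 128 && eqW (sW (inv2 a) ++ sW (inv2 b)) (sW m)) ||
    neW (sW (inv2 a) ++ sW (inv2 b)) (sW (inv2 b) ++ sW (inv2 a)))

/-- Membership in a list. -/
noncomputable def inL (i : ℕ) (l : List ℕ) : Bool :=
  List.rec (motive := fun _ => Bool) false (fun x _ r => Nat.beq i x || r) l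

noncomputable def chkMax : Bool :=
  allBelow 34 fun a => allBelow 34 fun b =>
    forceN ((Data.invMul.getD a []).getD b 200) fun ab =>
      Nat.ble 128 ab || inL (inv2 b) [inv2 a, Data.tMul.getD (inv2 a) 128] ||
      allBelow 34 fun c =>
        Nat.ble 128 ((Data.invMul.getD a []).getD c 200) || Nat.ble 128 ((Data.invMul.getD b []).getD c 200) ||
        inL (inv2 c) [inv2 a, Data.tMul.getD (inv2 a) 128, inv2 b, Data.tMul.getD (inv2 b) 128, ab,
          Data.tMul.getD ab 128] ||
        (inL (inv2 a) Data.eT && inL (inv2 b) Data.eT && inL (inv2 c) Data.eT) ||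
        (inL (inv2 a) Data.fT && inL (inv2 b) Data.fT && inL (inv2 c) Data.fT)

noncomputable def chkV : Bool :=
  eqW (vW ++ vW) [] && neW vW [] && neW vW McL.Out.tWord &&
  eqW (vW ++ McL.Out.tWord) (McL.Out.tWord ++ vW) && neW (Data.eEls.getD 4 []) [] &&
  allBelow 16 (fun j => neW (Data.eEls.getD 4 []) (Data.fEls.getD j []))

noncomputable def chkW : Bool :=
  tableB Data.wEls Data.wGens Data.wNext Data.wTree 192 3 && distinctW 192 Data.wEls &&
  allBelow 3 (fun g =>
    eqW (Data.wGens.getD g [] ++ McL.Out.tWord) (McL.Out.tWord ++ Data.wGens.getD g []) &&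
    eqW (Data.wGens.getD g [] ++ vW) (vW ++ Data.wGens.getD g []))

/-- A conjugate of the second involution. -/
noncomputable def vcW (i : ℕ) : List ℕ := Data.vConj.getD i [] ++ (vW ++ Data.vConjI.getD i [])

noncomputable def chkClass : Bool :=
  allBelow 210 (fun i =>
    eqW (Data.vConj.getD i [] ++ McL.Out.tWord) (McL.Out.tWord ++ Data.vConj.getD i []) &&
    eqW (Data.vConj.getD i [] ++ Data.vConjI.getD i []) []) &&
  allBelow 210 (fun i => forceN (key (vcW i)) fun k => allBelow i fun j => !Nat.beq (key (vcW j)) k) &&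
  allBelow 210 (fun i => allB (fun s => Nat.blt s 6) (vcW i))

noncomputable def chkCentre : Bool :=
  allBelow 192 fun n => !allBelow 4 (fun k => !eqW (Data.wEls.getD n []) (Data.eEls.getD k [])) ||
    !allBelow 3 (fun g => eqW (Data.wGens.getD g [] ++ Data.wEls.getD n [])
      (Data.wEls.getD n [] ++ Data.wGens.getD g []))

noncomputable def chkSelf : Bool :=
  allBelow 192 fun n => !allBelow 16 (fun j => !eqW (Data.wEls.getD n []) (Data.eEls.getD j [])) ||
    !(eqW (Data.wEls.getD n [] ++ Data.eEls.getD 4 []) (Data.eEls.getD 4 [] ++ Data.wEls.getD n []) &&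
      eqW (Data.wEls.getD n [] ++ Data.eEls.getD 8 []) (Data.eEls.getD 8 [] ++ Data.wEls.getD n []))

noncomputable def chkSelfF : Bool :=
  allBelow 192 fun n => !allBelow 16 (fun j => !eqW (Data.wEls.getD n []) (Data.fEls.getD j [])) ||
    !(eqW (Data.wEls.getD n [] ++ Data.fEls.getD 4 []) (Data.fEls.getD 4 [] ++ Data.wEls.getD n []) &&
      eqW (Data.wEls.getD n [] ++ Data.fEls.getD 8 []) (Data.fEls.getD 8 [] ++ Data.wEls.getD n []))

noncomputable def chkX : Bool :=
  eqW (Data.xW ++ McL.Out.tWord) (vW ++ Data.xW) &&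
  eqW (Data.xW ++ vW) (Data.eEls.getD 3 [] ++ Data.xW) &&
  eqW (Data.xW ++ Data.xiW) [] &&
  allBelow 4 (fun d => Nat.blt (Data.xFix.getD d 4) 4 &&
    eqW (Data.xW ++ Data.eEls.getD d [])
      (Data.eEls.getD (Data.xFix.getD d 4) [] ++ (Data.xW ++ Data.eEls.getD (Data.xFix.getD d 4) []))) &&
  eqW (Data.tauW ++ vW) (Data.eEls.getD 3 [] ++ Data.tauW) &&
  eqW (Data.tauW ++ McL.Out.tWord) (McL.Out.tWord ++ Data.tauW) &&
  eqW (Data.tauW ++ Data.xW) (Data.xiW ++ Data.tauW)

noncomputable def chkGen : Bool :=
  allBelow 3 (fun g =>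
    eqW (Data.spqW.getD g [] ++ McL.Out.tWord) (McL.Out.tWord ++ Data.spqW.getD g [])) &&
  allBelow 4 (fun g => eqW (Data.spqW.getD g [] ++ Data.spqI.getD g []) []) &&
  eqW (Data.spqW.getD 3 []) Data.xW &&
  allBelow 4 (fun s => allB (fun q => Nat.blt q 3) (Data.centExpr.getD s []) &&
    eqW (McL.Out.cent0Gens.getD s [])
      (List.rec (motive := fun _ => List ℕ) [] (fun q _ r => Data.spqW.getD q [] ++ r)
        (Data.centExpr.getD s [])))

noncomputable def chkThree : Bool :=
  tableB Data.threeEls Data.threeGens Data.threeNext Data.threeTree 729 6 &&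
  distinctW 729 Data.threeEls &&
  allBelow 729 (fun i => Nat.beq i 0 ||
    neW (Data.threeEls.getD i [] ++ (Data.threeEls.getD i [] ++ Data.threeEls.getD i [])) [] ||
    (eqW (Data.threeInv.getD (Data.threeWit.getD i 0) [] ++ Data.threeEls.getD i [])
      (Data.threeEls.getD i [] ++ Data.threeInv.getD (Data.threeWit.getD i 0) []))) &&
  allBelow 129 (fun u => eqW (Data.threeInv.getD u [] ++ Data.threeInv.getD u []) [] &&
    neW (Data.threeInv.getD u []) []) &&
  allBelow 729 (fun i => Nat.blt (Data.threeWit.getD i 0) 129)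

theorem invol_ok : chkInvol = true := by decide +kernel
theorem mul_ok : chkMul = true := by decide +kernel
theorem max_ok : chkMax = true := by decide +kernel
theorem v_ok : chkV = true := by decide +kernel
theorem w_ok : chkW = true := by decide +kernel
theorem class_ok : chkClass = true := by decide +kernel
theorem centre_ok : chkCentre = true := by decide +kernel
theorem self_ok : chkSelf = true := by decide +kernel
theorem selfF_ok : chkSelfF = true := by decide +kernel
theorem x_ok : chkX = true := by decide +kernel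
theorem gen_ok : chkGen = true := by decide +kernel
theorem three_ok : chkThree = true := by decide +kernel

end Cfsg.Agent.McLRecog
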