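import Cfsg.Agent.McLRecog.SideFacts
import Cfsg.Agent.McLRecog.CommonCheck

/-!
Facts on the centraliser of the involution in the model.
-/

set_option autoImplicit false

namespace Cfsg.Agent.McLRecog

open Cfsg Cfsg.Agent.Compute Cfsg.Agent.StemCert Cfsg.Agent.LeechModel

/-- The first subgroup. -/
noncomputable abbrev E₀ : Subgroup M := sideE.E sideE_ok

/-- The second subgroup. -/
noncomputable abbrev F₀ : Subgroup M := sideF.E sideF_ok

theorem sylEl_zIdx : McL.sylEl 116 = t₀ := by
  have := invol_ok; simp only [chkInvol, Bool.and_eq_true] at this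
  exact (W_eq this.2).trans t₀_eq

theorem sylTwo_le : McL.sylTwo ≤ CT := by
  intro s hs
  rw [mem_CT, ← sylEl_zIdx]
  exact McL.z_central hs

theorem v_facts : v₀ * v₀ = 1 ∧ v₀ ≠ 1 ∧ v₀ ≠ t₀ ∧ v₀ ∈ CT := by
  have := v_ok; simp only [chkV, Bool.and_eq_true] at this
  refine ⟨?_, ?_, ?_, ?_⟩
  · have h := W_eq this.1.1.1.1.1
    rwa [W_append] at h
  · exact W_ne this.1.1.1.1.2
  · exact fun e => W_ne this.1.1.1.2 (e.trans t₀_eq.symm)
  · have h := W_eq this.1.1.2
    rw [W_append, W_append] at h
    rw [mem_CT]; exact h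

theorem invol_syl {y : M} (hy : y ∈ McL.sylTwo) (h2 : y * y = 1) :
    y = 1 ∨ y = t₀ ∨ ∃ c ∈ CT, c * v₀ * c⁻¹ = y := by
  obtain ⟨i, hi, rfl⟩ := McL.mem_sylTwo.mp hy
  have hc := invol_ok; simp only [chkInvol, Bool.and_eq_true] at hc
  have := allBelow_eq_true.mp hc.1.1 i hi
  simp only [Bool.or_eq_true, Nat.beq_eq, Bool.not_eq_true'] at this
  rcases this with ((h | h) | h) | h
  · left; rw [h, McL.sylEl, McL.syl_ok.2.2.1]; rfl
  · right; left; rw [h, sylEl_zIdx]
  · exfalso
    refine W_ne h ?_
    rw [W_append, W_nil]; exact h2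
  · right; right
    obtain ⟨a, ha, hai⟩ : ∃ a < 34, inv2 a = i := by
      by_contra hne
      push_neg at hne
      rw [allBelow_eq_true.mpr fun a ha => by
        rw [Bool.not_eq_true', ← Bool.not_eq_true, Nat.beq_eq]; exact hne a ha] at h
      exact Bool.noConfusion h
    have hh := allBelow_eq_true.mp hc.1.2 a ha
    simp only [Bool.and_eq_true] at hh
    refine ⟨W (Data.invC.getD a []), ?_, ?_⟩
    · have h3 := W_eq hh.1.2
      rw [W_append, W_append] at h3
      rw [mem_CT]; exact h3
    · rw [← hai]; exact W_conj_eq hh.2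

theorem exists_conj_syl {P : Subgroup M} (hP : IsPGroup 2 P) (hle : P ≤ CT) :
    ∃ c ∈ CT, ∀ x ∈ P, c * x * c⁻¹ ∈ McL.sylTwo := by
  have := Fact.mk Nat.prime_two
  let T : Subgroup CT := McL.sylTwo.subgroupOf CT
  have hT : Nat.card T = 2 ^ (Nat.card CT).factorization 2 := by
    rw [Nat.card_congr (Subgroup.subgroupOfEquivOfLe sylTwo_le).toEquiv, McL.card_sylTwo,
      McL.card_centralizer, show (40320 : ℕ) = 2 ^ 7 * 315 by norm_num,
      Nat.factorization_mul (by norm_num) (by norm_num), Finsupp.add_apply,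
      Nat.Prime.factorization_pow Nat.prime_two, Finsupp.single_eq_same,
      Nat.factorization_eq_zero_of_not_dvd (by norm_num)]
  let S : Sylow 2 CT := Sylow.ofCard T hT
  obtain ⟨Q, hQ⟩ := (hP.comap_of_injective CT.subtype CT.subtype_injective).exists_le_sylow
  obtain ⟨c, hc⟩ := MulAction.exists_smul_eq CT Q S
  refine ⟨c, c.2, fun x hx => ?_⟩
  have hxQ : (⟨x, hle hx⟩ : CT) ∈ Q := hQ hx
  have : c * ⟨x, hle hx⟩ * c⁻¹ ∈ S := by
    rw [← hc]
    exact Subgroup.smul_mem_pointwise_smul _ (MulAut.conj c) _ hxQ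
  exact this

theorem invol_CT {y : M} (hy : y ∈ CT) (h2 : y * y = 1) :
    y = 1 ∨ y = t₀ ∨ ∃ c ∈ CT, c * v₀ * c⁻¹ = y := by
  have := Fact.mk Nat.prime_two
  have hP : IsPGroup 2 (Subgroup.zpowers y) := by
    rintro ⟨_, k, rfl⟩
    refine ⟨1, Subtype.ext ?_⟩
    show (y ^ k) ^ 2 = 1
    rw [← zpow_natCast, ← zpow_mul, mul_comm, zpow_mul, zpow_natCast, pow_two, h2, one_zpow]
  obtain ⟨c, hc, hcT⟩ := exists_conj_syl hP (Subgroup.zpowers_le.2 hy)
  have hct : t₀ * c = c * t₀ := (mem_CT.mp hc).symm
  rcases invol_syl (hcT y (Subgroup.mem_zpowers y)) (by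
    rw [show c * y * c⁻¹ * (c * y * c⁻¹) = c * (y * y) * c⁻¹ by group, h2, mul_one, mul_inv_cancel])
    with h | h | ⟨d, hd, h⟩
  · left
    have := congrArg (fun z => c⁻¹ * z * c) h
    simpa [mul_assoc] using this
  · right; left
    have := congrArg (fun z => c⁻¹ * z * c) h
    simp only [mul_assoc, inv_mul_cancel, mul_one, inv_mul_cancel_left] at this
    rw [this, hct, inv_mul_cancel_left]
  · right; right
    refine ⟨c⁻¹ * d, mul_mem (inv_mem hc) hd, ?_⟩
    have := congrArg (fun z => c⁻¹ * z * c) h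
    simp only [mul_assoc, inv_mul_cancel, mul_one, inv_mul_cancel_left] at this
    rw [← this]; group

theorem inL_iff {i : ℕ} : ∀ {l : List ℕ}, inL i l = true ↔ i ∈ l
  | [] => by simp [inL]
  | x :: l => by
    show (Nat.beq i x || inL i l) = true ↔ _
    rw [Bool.or_eq_true, Nat.beq_eq, inL_iff, List.mem_cons]

theorem place_mem {S : Side} (h : S.Ok) {i : ℕ} (hi : i ∈ S.pl) (hlen : S.pl.length = 16) :
    McL.sylEl i ∈ S.E h := by
  obtain ⟨k, hk, rfl⟩ := List.getElem_of_mem hi
  rw [← List.getD_eq_getElem _ 128 hk, (el_syl h (hlen ▸ hk)).2]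
  exact el_mem h (hlen ▸ hk)

/-- An elementary subgroup of order sixteen of the Sylow subgroup containing the involution is one
of the two. -/
theorem elem_cases {P : Subgroup M} (hP : P ≤ McL.sylTwo) (hc : Nat.card P = 16)
    (h2 : ∀ x ∈ P, x * x = 1) (ht : t₀ ∈ P) : P = E₀ ∨ P = F₀ := by
  classical
  have hcomm : ∀ x ∈ P, ∀ y ∈ P, x * y = y * x := by
    intro x hx y hy
    have e := h2 _ (mul_mem hx hy)
    calc x * y = (x * y)⁻¹ := eq_inv_of_mul_eq_one_left e
      _ = y⁻¹ * x⁻¹ := mul_inv_rev _ _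
      _ = y * x := by rw [inv_eq_of_mul_eq_one_right (h2 x hx), inv_eq_of_mul_eq_one_right (h2 y hy)]
  have pick : ∀ s : Finset M, s.card < 16 → ∃ x ∈ P, x ∉ s := by
    intro s hs
    by_contra hne
    push_neg at hne
    have : Nat.card P ≤ s.card := by
      rw [← Nat.card_eq_finsetCard]
      exact Nat.card_le_card_of_injective (fun x : P => (⟨x.1, hne x.1 x.2⟩ : s))
        fun a b e => Subtype.ext (congrArg (fun z : s => z.1) e)
    omega
  obtain ⟨a, ha, ha'⟩ := pick {1, t₀} (lt_of_le_of_lt (Finset.card_insert_le _ _) (by simp))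
  simp only [Finset.mem_insert, Finset.mem_singleton, not_or] at ha'
  obtain ⟨b, hb, hb'⟩ := pick {1, t₀, a, t₀ * a}
    (lt_of_le_of_lt Finset.card_le_four (by norm_num))
  simp only [Finset.mem_insert, Finset.mem_singleton, not_or] at hb'
  obtain ⟨c, hc', hcn⟩ := pick ({1, t₀, a, t₀ * a} ∪ {b, t₀ * b, a * b, t₀ * (a * b)})
    (lt_of_le_of_lt ((Finset.card_union_le _ _).trans (Nat.add_le_add Finset.card_le_four
      Finset.card_le_four)) (by norm_num))
  simp only [Finset.mem_union, Finset.mem_insert, Finset.mem_singleton, not_or] at hcn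
  have hI := invol_ok; simp only [chkInvol, Bool.and_eq_true] at hI
  have idx : ∀ x ∈ P, x ≠ 1 → x ≠ t₀ → ∃ i < 34, McL.sylEl (inv2 i) = x ∧ inv2 i < 128 := by
    intro x hx h1 ht'
    obtain ⟨i, hi, rfl⟩ := McL.mem_sylTwo.mp (hP hx)
    have := allBelow_eq_true.mp hI.1.1 i hi
    simp only [Bool.or_eq_true, Nat.beq_eq, Bool.not_eq_true'] at this
    rcases this with ((h | h) | h) | h
    · exact absurd (by rw [h, McL.sylEl, McL.syl_ok.2.2.1]; rfl) h1
    · exact absurd (by rw [h, sylEl_zIdx]) ht'
    · exact absurd (h2 _ hx) (fun e => W_ne h (by rw [W_append, W_nil]; exact e))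
    · obtain ⟨k, hk, hki⟩ : ∃ k < 34, inv2 k = i := by
        by_contra hne
        push_neg at hne
        rw [allBelow_eq_true.mpr fun k hk => by
          rw [Bool.not_eq_true', ← Bool.not_eq_true, Nat.beq_eq]; exact hne k hk] at h
        exact Bool.noConfusion h
      exact ⟨k, hk, by rw [hki], hki ▸ hi⟩
  obtain ⟨ia, hia, ea, la⟩ := idx a ha ha'.1 ha'.2
  obtain ⟨ib, hib, eb, lb⟩ := idx b hb hb'.1 hb'.2.1
  obtain ⟨ic, hic, ec, lc⟩ := idx c hc' hcn.1.1 hcn.1.2.1
  have hM := mul_ok; simp only [chkMul, Bool.and_eq_true] at hM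
  have tmul : ∀ i < 128, McL.sylEl (Data.tMul.getD i 128) = t₀ * McL.sylEl i := by
    intro i hi
    have := allBelow_eq_true.mp hM.1 i hi
    simp only [Bool.and_eq_true] at this
    exact ((W_eq this.2).symm.trans (W_append _ _)).trans (by rw [t₀_eq]; rfl)
  have imul : ∀ i < 34, ∀ j < 34,
      McL.sylEl (inv2 i) * McL.sylEl (inv2 j) = McL.sylEl (inv2 j) * McL.sylEl (inv2 i) →
      (Data.invMul.getD i []).getD j 200 < 128 ∧
      McL.sylEl ((Data.invMul.getD i []).getD j 200) = McL.sylEl (inv2 i) * McL.sylEl (inv2 j) := by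
    intro i hi j hj he
    have := allBelow_eq_true.mp (allBelow_eq_true.mp hM.2 i hi) j hj
    rw [forceN_eq] at this
    simp only [Bool.or_eq_true, Bool.and_eq_true, Nat.blt_eq] at this
    rcases this with h | h
    · exact ⟨h.1, ((W_eq h.2).symm.trans (W_append _ _))⟩
    · exact absurd (by rw [W_append, W_append]; exact he) (W_ne h)
  obtain ⟨lab, eab⟩ := imul ia hia ib hib (by rw [ea, eb]; exact hcomm a ha b hb)
  obtain ⟨lac, -⟩ := imul ia hia ic hic (by rw [ea, ec]; exact hcomm a ha c hc')
  obtain ⟨lbc, -⟩ := imul ib hib ic hic (by rw [eb, ec]; exact hcomm b hb c hc')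
  have ne : ∀ {x y : M} {i j : ℕ}, McL.sylEl i = x → McL.sylEl j = y → x ≠ y → i ≠ j :=
    fun hx hy hxy e => hxy (hx ▸ hy ▸ congrArg McL.sylEl e)
  have hmax := allBelow_eq_true.mp (allBelow_eq_true.mp max_ok ia hia) ib hib
  rw [forceN_eq] at hmax
  have hab_le : Nat.ble 128 ((Data.invMul.getD ia []).getD ib 200) = false := by
    rw [← Bool.not_eq_true, Nat.ble_eq]; omega
  have hb_in : inL (inv2 ib) [inv2 ia, Data.tMul.getD (inv2 ia) 128] = false := by
    rw [← Bool.not_eq_true, inL_iff]
    simp only [List.mem_cons, List.not_mem_nil, or_false, not_or]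
    exact ⟨ne eb ea hb'.2.2.1, ne eb ((tmul _ la).trans (by rw [ea])) hb'.2.2.2⟩
  rw [hab_le, hb_in, Bool.false_or, Bool.false_or] at hmax
  have hcc := allBelow_eq_true.mp hmax ic hic
  have hac_le : Nat.ble 128 ((Data.invMul.getD ia []).getD ic 200) = false := by
    rw [← Bool.not_eq_true, Nat.ble_eq]; omega
  have hbc_le : Nat.ble 128 ((Data.invMul.getD ib []).getD ic 200) = false := by
    rw [← Bool.not_eq_true, Nat.ble_eq]; omega
  have hc_in : inL (inv2 ic) [inv2 ia, Data.tMul.getD (inv2 ia) 128, inv2 ib,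
      Data.tMul.getD (inv2 ib) 128, (Data.invMul.getD ia []).getD ib 200,
      Data.tMul.getD ((Data.invMul.getD ia []).getD ib 200) 128] = false := by
    rw [← Bool.not_eq_true, inL_iff]
    simp only [List.mem_cons, List.not_mem_nil, or_false, not_or]
    exact ⟨ne ec ea hcn.1.2.2.1, ne ec ((tmul _ la).trans (by rw [ea])) hcn.1.2.2.2,
      ne ec eb hcn.2.1, ne ec ((tmul _ lb).trans (by rw [eb])) hcn.2.2.1,
      ne ec (eab.trans (by rw [ea, eb])) hcn.2.2.2.1,
      ne ec ((tmul _ lab).trans (by rw [eab, ea, eb])) hcn.2.2.2.2⟩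
  rw [hac_le, hbc_le, hc_in, Bool.false_or, Bool.false_or, Bool.false_or] at hcc
  simp only [Bool.or_eq_true, Bool.and_eq_true, inL_iff] at hcc
  have conclude : ∀ {S : Side} (h : S.Ok), a ∈ S.E h → b ∈ S.E h → c ∈ S.E h → t₀ ∈ S.E h →
      P = S.E h := by
    intro S h hA hB hC hT
    let K : Subgroup M := P ⊓ S.E h
    have h8 : 9 ≤ Nat.card K := by
      have hab1 : a * b ∈ K := mul_mem ⟨ha, hA⟩ ⟨hb, hB⟩
      let s : Finset M := {1, t₀, a, t₀ * a} ∪ {b, t₀ * b, a * b, t₀ * (a * b)}
      have hs : ∀ x ∈ insert c s, x ∈ K := by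
        intro x hx
        simp only [s, Finset.mem_insert, Finset.mem_union, Finset.mem_singleton] at hx
        rcases hx with rfl | (rfl | rfl | rfl | rfl) | (rfl | rfl | rfl | rfl)
        exacts [⟨hc', hC⟩, one_mem _, ⟨ht, hT⟩, ⟨ha, hA⟩, mul_mem ⟨ht, hT⟩ ⟨ha, hA⟩, ⟨hb, hB⟩,
          mul_mem ⟨ht, hT⟩ ⟨hb, hB⟩, hab1, mul_mem ⟨ht, hT⟩ hab1]
      have hcard : (insert c s).card = 9 := by
        rw [Finset.card_insert_of_notMem (by
          simp only [s, Finset.mem_union, Finset.mem_insert, Finset.mem_singleton, not_or]; exact hcn)]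
        have t1 : t₀ ≠ 1 := fun e => by have := McL.orderOf_tInv; simp [show McL.tInv = 1 from e] at this
        have tt : t₀ * t₀ = 1 := by rw [← el_one h]; exact el_sq h (by norm_num)
        have aa := h2 a ha
        have bb := h2 b hb
        have h4 : ({1, t₀, a, t₀ * a} : Finset M).card = 4 := by
          rw [Finset.card_eq_four]
          exact ⟨_, _, _, _, t1.symm, Ne.symm ha'.1, fun e => ha'.2 (by
            have := congrArg (fun z => t₀ * z) e
            simpa [← mul_assoc, tt] using this.symm), fun e => ha'.2 e.symm,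
            fun e => ha'.1 (left_eq_mul.mp e), fun e => t1 (right_eq_mul.mp e), rfl⟩
        have h4' : ({b, t₀ * b, a * b, t₀ * (a * b)} : Finset M) =
            ({1, t₀, a, t₀ * a} : Finset M).image (· * b) := by
          simp [Finset.image_insert, mul_assoc]
        have hd : Disjoint ({1, t₀, a, t₀ * a} : Finset M) {b, t₀ * b, a * b, t₀ * (a * b)} := by
          rw [Finset.disjoint_left]
          intro x hx hx'
          simp only [Finset.mem_insert, Finset.mem_singleton] at hx hx'
          have key : b ∈ ({1, t₀, a, t₀ * a} : Finset M) := by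
            have clo : ∀ y ∈ ({1, t₀, a, t₀ * a} : Finset M), ∀ z ∈ ({1, t₀, a, t₀ * a} : Finset M),
                y * z ∈ ({1, t₀, a, t₀ * a} : Finset M) := by
              have at' := hcomm a ha t₀ ht
              have tl : ∀ w : M, t₀ * (t₀ * w) = w := fun w => by rw [← mul_assoc, tt, one_mul]
              have al : ∀ w : M, a * (a * w) = w := fun w => by rw [← mul_assoc, aa, one_mul]
              have at2 : ∀ w : M, a * (t₀ * w) = t₀ * (a * w) := fun w => by
                rw [← mul_assoc, at', mul_assoc]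
              intro y hy z hz
              simp only [Finset.mem_insert, Finset.mem_singleton] at hy hz ⊢
              rcases hy with rfl | rfl | rfl | rfl <;> rcases hz with rfl | rfl | rfl | rfl <;>
                simp [mul_assoc, tt, aa, at', tl, al, at2]
            rcases hx' with rfl | rfl | rfl | rfl
            · simpa using hx
            · have := clo t₀ (by simp) (t₀ * b) (by simpa using hx)
              rwa [← mul_assoc, tt, one_mul] at this
            · have := clo a (by simp) (a * b) (by simpa using hx)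
              rwa [← mul_assoc, aa, one_mul] at this
            · have := clo (t₀ * a) (by simp) (t₀ * (a * b)) (by simpa using hx)
              rwa [show t₀ * a * (t₀ * (a * b)) = (t₀ * t₀) * (a * a) * b by
                rw [mul_assoc t₀ a, ← mul_assoc a t₀, hcomm a ha t₀ ht]; group, tt, aa, one_mul,
                one_mul] at this
          simp only [Finset.mem_insert, Finset.mem_singleton] at key
          rcases key with k | k | k | k
          exacts [hb'.1 k, hb'.2.1 k, hb'.2.2.1 k, hb'.2.2.2 k]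
        rw [Finset.card_union_of_disjoint hd, h4',
          Finset.card_image_of_injective _ (fun x y e => mul_right_cancel e), h4]
      rw [← hcard, ← Nat.card_eq_finsetCard]
      exact Nat.card_le_card_of_injective (fun x : (insert c s : Finset M) => (⟨x.1, hs x.1 x.2⟩ : K))
        fun x y e => Subtype.ext (congrArg (fun z : K => z.1) e)
    have h16 : Nat.card K = 16 := by
      have hd : Nat.card K ∣ 16 := hc ▸ Subgroup.card_dvd_of_le inf_le_left
      have : Nat.card K ≤ 16 := Nat.le_of_dvd (by norm_num) hd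
      obtain ⟨j, hj, hjk⟩ := (Nat.dvd_prime_pow Nat.prime_two (m := 4)).1 (by norm_num; exact hd)
      interval_cases j <;> omega
    calc P = K := (Subgroup.eq_of_le_of_card_ge inf_le_left (by rw [h16, hc])).symm
      _ = S.E h := Subgroup.eq_of_le_of_card_ge inf_le_right (by rw [h16, card_E h])
  rcases hcc with ⟨⟨h1, h2'⟩, h3⟩ | ⟨⟨h1, h2'⟩, h3⟩
  · exact Or.inl (conclude sideE_ok (ea ▸ place_mem _ h1 rfl) (eb ▸ place_mem _ h2' rfl)
      (ec ▸ place_mem _ h3 rfl) (el_one sideE_ok ▸ el_mem sideE_ok (by norm_num)))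
  · exact Or.inr (conclude sideF_ok (ea ▸ place_mem _ h1 rfl) (eb ▸ place_mem _ h2' rfl)
      (ec ▸ place_mem _ h3 rfl) (el_one sideF_ok ▸ el_mem sideF_ok (by norm_num)))

theorem E_ne_F : E₀ ≠ F₀ := by
  intro e
  obtain ⟨j, hj, hje⟩ := (e ▸ el_mem sideE_ok (show 4 < 16 by norm_num) : sideE.el 4 ∈ F₀)
  have := v_ok; simp only [chkV, Bool.and_eq_true] at this
  exact W_ne (allBelow_eq_true.mp this.2 j hj) hje.symm

/-- The centraliser of the four-group. -/
noncomputable def W₀ : Subgroup M := genSub Data.wGens 3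

theorem mem_W₀ {x : M} : x ∈ W₀ ↔ ∃ i < 192, W (Data.wEls.getD i []) = x := by
  have := w_ok; simp only [chkW, Bool.and_eq_true] at this
  exact mem_table (by norm_num) this.1.1

theorem W₀_spec {x : M} : x ∈ W₀ ↔ x ∈ CT ∧ x * v₀ = v₀ * x := by
  classical
  have hw := w_ok; simp only [chkW, Bool.and_eq_true] at hw
  let Cv : Subgroup M := CT ⊓ Subgroup.centralizer {v₀}
  have hle : W₀ ≤ Cv := (Subgroup.closure_le _).mpr fun _ ⟨g, hg, e⟩ => by
    subst e
    have := allBelow_eq_true.mp hw.2 g hg
    simp only [Bool.and_eq_true] at this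
    have h1 := W_eq this.1
    have h2 := W_eq this.2
    rw [W_append, W_append] at h1 h2
    refine ⟨?_, ?_⟩
    · show _ ∈ CT
      rw [mem_CT]; exact h1
    · show _ ∈ Subgroup.centralizer {v₀}
      rw [Subgroup.mem_centralizer_singleton_iff]; exact h2
  have hcard : Nat.card W₀ = 192 := by
    show Nat.card (W₀ : Set M) = _
    rw [W₀, tableB_spec (by norm_num) hw.1.1, Nat.card_range_of_injective (distinctW_spec hw.1.2),
      Nat.card_fin]
  have hcl := class_ok; simp only [chkClass, Bool.and_eq_true] at hcl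
  have hub : 210 * Nat.card Cv ≤ 40320 := by
    let c : Fin 210 → M := fun i => W (Data.vConj.getD i [])
    have cspec : ∀ i : Fin 210, c i ∈ CT ∧ (c i)⁻¹ = W (Data.vConjI.getD i []) := fun i => by
      have := allBelow_eq_true.mp hcl.1.1 i i.2
      simp only [Bool.and_eq_true] at this
      refine ⟨?_, (W_inv this.2).symm⟩
      have h1 := W_eq this.1
      rw [W_append, W_append] at h1
      rw [mem_CT]; exact h1
    have hinj : Function.Injective fun p : Fin 210 × Cv =>
        (⟨c p.1 * p.2, mul_mem (cspec p.1).1 p.2.2.1⟩ : CT) := by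
      rintro ⟨i, a⟩ ⟨j, b⟩ he
      have he' : c i * a = c j * b := congrArg Subtype.val he
      have hij : i = j := by
        by_contra hne
        have ha : (a : M) * v₀ = v₀ * a := Subgroup.mem_centralizer_singleton_iff.1 a.2.2
        have hb : (b : M) * v₀ = v₀ * b := Subgroup.mem_centralizer_singleton_iff.1 b.2.2
        have hv : W (vcW i) = W (vcW j) := by
          simp only [vcW, W_append, ← (cspec i).2, ← (cspec j).2]
          show c i * (v₀ * (c i)⁻¹) = c j * (v₀ * (c j)⁻¹)
          calc c i * (v₀ * (c i)⁻¹) = c i * (a * v₀ * (a : M)⁻¹) * (c i)⁻¹ := by rw [ha]; group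
            _ = (c i * a) * v₀ * (c i * a)⁻¹ := by group
            _ = (c j * b) * v₀ * (c j * b)⁻¹ := by rw [he']
            _ = c j * (b * v₀ * (b : M)⁻¹) * (c j)⁻¹ := by group
            _ = _ := by rw [hb]; group
        have hk := key_congr (allBelow_eq_true.mp hcl.2 i i.2) (allBelow_eq_true.mp hcl.2 j j.2) hv
        rcases Nat.lt_trichotomy (i : ℕ) j with h | h | h
        · have := allBelow_eq_true.mp hcl.1.2 j j.2
          rw [forceN_eq] at this
          have := allBelow_eq_true.mp this i h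
          rw [hk] at this
          simp at this
        · exact hne (Fin.ext h)
        · have := allBelow_eq_true.mp hcl.1.2 i i.2
          rw [forceN_eq] at this
          have := allBelow_eq_true.mp this j h
          rw [hk] at this
          simp at this
      subst hij
      exact Prod.ext rfl (Subtype.ext (mul_left_cancel he'))
    have := Nat.card_le_card_of_injective _ hinj
    rw [Nat.card_prod, Nat.card_fin] at this
    rwa [show Nat.card CT = 40320 from McL.card_centralizer] at this
  have heq : W₀ = Cv := Subgroup.eq_of_le_of_card_ge hle (by omega)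
  rw [heq]
  exact Iff.and Iff.rfl Subgroup.mem_centralizer_singleton_iff

theorem W₀_centre {x : M} (hx : x ∈ W₀) (hc : ∀ w ∈ W₀, w * x = x * w) :
    ∃ k < 4, sideE.el k = x := by
  obtain ⟨n, hn, rfl⟩ := mem_W₀.mp hx
  have := allBelow_eq_true.mp centre_ok n hn
  simp only [Bool.or_eq_true, Bool.not_eq_true'] at this
  rcases this with h | h
  · by_contra hne
    push_neg at hne
    rw [allBelow_eq_true.mpr fun k hk => ?_] at h
    · exact Bool.noConfusion h
    rw [Bool.not_eq_true', ← Bool.not_eq_true]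
    exact fun e => hne k hk (W_eq e).symm
  · exfalso
    rw [allBelow_eq_true.mpr fun g hg => ?_] at h
    · exact Bool.noConfusion h
    have hg' := hc _ (gen_mem (gens := Data.wGens) hg)
    have hl : allB (fun s => Nat.blt s 6) (Data.wGens.getD g []) = true ∧
        allB (fun s => Nat.blt s 6) (Data.wEls.getD n []) = true := by
      refine ⟨?_, ?_⟩
      · have hw := w_ok; simp only [chkW, Bool.and_eq_true] at hw
        have := allBelow_eq_true.mp hw.2 g hg
        simp only [Bool.and_eq_true, eqW] at this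
        exact allB_of_forall fun s hs => allB_spec this.1.1.1 s (List.mem_append_left _ hs)
      · have hw := w_ok; simp only [chkW, Bool.and_eq_true, distinctW] at hw
        by_cases hl : n < Data.wEls.length
        · rw [List.getD_eq_getElem _ _ hl]
          exact allB_spec hw.1.2.1 _ (List.getElem_mem hl)
        · rw [List.getD_eq_default _ _ (by omega)]; rfl
    exact eqW_complete (letters_append hl.1 hl.2) (letters_append hl.2 hl.1)
      (by rw [W_append, W_append]; exact hg')

end Cfsg.Agent.McLRecog
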