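import Cfsg.Agent.McLRecog.Setting

/-!
The two classes of elementary subgroups of order sixteen are not fused, and the normaliser of each
is transitive on its involutions.
-/

set_option autoImplicit false

namespace Cfsg.Agent.McLRecog

open Cfsg Cfsg.Agent.Invol

variable {G : Type*} [Group G] [Finite G] (S : Setting G)

/-- The image of the Sylow subgroup. -/
noncomputable abbrev Setting.T : Subgroup G := S.im McL.sylTwo

theorem T_normalizer {n : G} (hn : ∀ x, x ∈ S.T ↔ n * x * n⁻¹ ∈ S.T) : n ∈ S.T := by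
  have ht : S.t ∈ S.T := (mem_im S sylTwo_le).2
    ⟨t₀, sylEl_zIdx ▸ McL.mem_sylTwo.2 ⟨116, by norm_num, rfl⟩, fM_t S⟩
  obtain ⟨z, hz, hze⟩ := (mem_im S sylTwo_le).1 ((hn S.t).1 ht)
  have hcent : ∀ s ∈ McL.sylTwo, s * z = z * s := by
    intro s hs
    refine fM_inj S (mul_mem (sylTwo_le hs) (sylTwo_le hz)) (mul_mem (sylTwo_le hz) (sylTwo_le hs)) ?_
    rw [fM_mul S (sylTwo_le hs) (sylTwo_le hz), fM_mul S (sylTwo_le hz) (sylTwo_le hs), hze]
    have hs' : n⁻¹ * S.fM s * n ∈ S.T := by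
      rw [hn]
      simpa [mul_assoc] using (mem_im S sylTwo_le).2 ⟨s, hs, rfl⟩
    have hcomm := im_le S sylTwo_le hs'
    calc S.fM s * (n * S.t * n⁻¹) = n * ((n⁻¹ * S.fM s * n) * S.t) * n⁻¹ := by group
      _ = n * (S.t * (n⁻¹ * S.fM s * n)) * n⁻¹ := by rw [hcomm]
      _ = n * S.t * n⁻¹ * S.fM s := by group
  have hnt : n * S.t * n⁻¹ = S.t := by
    rcases McL.center_cases hz hcent with h | h
    · exfalso
      rw [h, fM_one] at hze
      exact Invol.ne_one S.ord (conj_eq_one_iff.mp hze.symm)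
    · rw [← hze, ← fM_t S, ← sylEl_zIdx, h]; rfl
  obtain ⟨c, hc, hce⟩ := exists_fM S (mul_inv_eq_iff_eq_mul.1 hnt)
  refine (mem_im S sylTwo_le).2 ⟨c, McL.normalizer_eq (Subgroup.mem_normalizer_iff.2 fun s => ?_), hce⟩
  constructor
  · intro hs
    obtain ⟨y, hy, hye⟩ := (mem_im S sylTwo_le).1 ((hn _).1 ((mem_im S sylTwo_le).2 ⟨s, hs, rfl⟩))
    rw [← hce, ← fM_conj S hc (sylTwo_le hs)] at hye
    rwa [← fM_inj S (sylTwo_le hy) (mul_mem (mul_mem hc (sylTwo_le hs)) (inv_mem hc)) hye]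
  · intro hs
    have hsC : s ∈ CT := by
      have := mul_mem (mul_mem (inv_mem hc) (sylTwo_le hs)) hc
      simpa [mul_assoc] using this
    have h1 : n * S.fM s * n⁻¹ ∈ S.T := by
      rw [← hce, ← fM_conj S hc hsC]
      exact (mem_im S sylTwo_le).2 ⟨_, hs, rfl⟩
    obtain ⟨y, hy, hye⟩ := (mem_im S sylTwo_le).1 ((hn _).2 h1)
    rwa [← fM_inj S (sylTwo_le hy) hsC hye]

theorem T_isPGroup : IsPGroup 2 S.T :=
  IsPGroup.of_card (n := 7) (by rw [card_im S sylTwo_le, McL.card_sylTwo])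

theorem T_maximal {P : Subgroup G} (hP : IsPGroup 2 P) (hle : S.T ≤ P) : P = S.T := by
  have := Fact.mk Nat.prime_two
  by_contra hne
  have hlt : S.T.subgroupOf P < ⊤ := by
    rw [lt_top_iff_ne_top, ne_eq, Subgroup.subgroupOf_eq_top]
    exact fun h => hne (le_antisymm h hle)
  have : Group.IsNilpotent P := hP.isNilpotent
  obtain ⟨n, hnN, hnT⟩ := Set.exists_of_ssubset (Group.normalizerCondition_of_isNilpotent _ hlt)
  apply hnT
  show (n : G) ∈ S.T
  refine T_normalizer S fun x => ?_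
  have hN := Subgroup.mem_normalizer_iff.1 hnN
  constructor
  · intro hx
    exact ((hN ⟨x, hle hx⟩).1 hx : ((n : G) * x * (n : G)⁻¹) ∈ S.T)
  · intro hx
    have hxP : x ∈ P := by
      have := mul_mem (mul_mem (inv_mem n.2) (hle hx)) n.2
      simpa [mul_assoc] using this
    exact (hN ⟨x, hxP⟩).2 hx

theorem im_normal {Sd : Side} (h : Sd.Ok) {s : G} (hs : s ∈ S.T) {y : G} (hy : y ∈ S.im (Sd.E h)) :
    s * y * s⁻¹ ∈ S.im (Sd.E h) := by
  obtain ⟨a, ha, rfl⟩ := (mem_im S sylTwo_le).1 hs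
  obtain ⟨b, hb, rfl⟩ := (mem_im S (E_le_CT h)).1 hy
  exact (mem_im S (E_le_CT h)).2 ⟨_, syl_normalizes h ha hb, fM_conj S (sylTwo_le ha) (E_le_CT h hb)⟩

theorem im_E₀_ne : S.im E₀ ≠ S.im F₀ := by
  intro e
  refine E_ne_F (le_antisymm (fun x hx => ?_) fun x hx => ?_)
  · obtain ⟨y, hy, hye⟩ := (mem_im S (E_le_CT sideF_ok)).1
      (e ▸ (mem_im S (E_le_CT sideE_ok)).2 ⟨x, hx, rfl⟩)
    rwa [← fM_inj S (E_le_CT sideF_ok hy) (E_le_CT sideE_ok hx) hye]
  · obtain ⟨y, hy, hye⟩ := (mem_im S (E_le_CT sideE_ok)).1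
      (e.symm ▸ (mem_im S (E_le_CT sideF_ok)).2 ⟨x, hx, rfl⟩)
    rwa [← fM_inj S (E_le_CT sideE_ok hy) (E_le_CT sideF_ok hx) hye]

/-- Burnside's argument: the two subgroups are not conjugate. -/
theorem not_fused {g : G} (hg : ∀ x, x ∈ S.im E₀ ↔ g * x * g⁻¹ ∈ S.im F₀) : False := by
  classical
  have := Fact.mk Nat.prime_two
  let H := Subgroup.normalizer (S.im F₀ : Set G)
  have hnorm : ∀ {Sd : Side} (h : Sd.Ok) (s : G), s ∈ S.T →
      ∀ y, y ∈ S.im (Sd.E h) ↔ s * y * s⁻¹ ∈ S.im (Sd.E h) := by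
    intro Sd h s hs y
    refine ⟨im_normal S h hs, fun hy => ?_⟩
    have := im_normal S h (inv_mem hs) hy
    simpa [mul_assoc] using this
  have hTH : S.T ≤ H := fun s hs => Subgroup.mem_normalizer_iff.2 (hnorm sideF_ok s hs)
  let T' : Subgroup G := S.T.map (MulAut.conj g).toMonoidHom
  have hT'H : T' ≤ H := by
    rintro _ ⟨s, hs, rfl⟩
    refine Subgroup.mem_normalizer_iff.2 fun y => ?_
    show y ∈ S.im F₀ ↔ g * s * g⁻¹ * y * (g * s * g⁻¹)⁻¹ ∈ S.im F₀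
    have e1 : y ∈ S.im F₀ ↔ g⁻¹ * y * g ∈ S.im E₀ := by
      rw [hg (g⁻¹ * y * g)]; simp [mul_assoc]
    rw [e1, hnorm sideE_ok s hs, hg]
    simp [mul_assoc]
  have hmax : ∀ {R : Subgroup G}, IsPGroup 2 R → Nat.card R ≤ Nat.card S.T := by
    intro R hR
    obtain ⟨Q, hQ⟩ := hR.exists_le_sylow
    obtain ⟨Q', hQ'⟩ := (T_isPGroup S).exists_le_sylow
    calc Nat.card R ≤ Nat.card (Q : Subgroup G) := Nat.le_of_dvd Nat.card_pos (Subgroup.card_dvd_of_le hQ)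
      _ = Nat.card (Q' : Subgroup G) := by rw [Q.card_eq_multiplicity, Q'.card_eq_multiplicity]
      _ = Nat.card S.T := by rw [T_maximal S Q'.2 hQ']
  have hcardT' : Nat.card T' = Nat.card S.T :=
    Subgroup.card_map_of_injective (MulAut.conj g).injective
  have mk : ∀ R : Subgroup G, R ≤ H → IsPGroup 2 R → Nat.card R = Nat.card S.T →
      ∃ P : Sylow 2 H, (P : Subgroup H) = R.subgroupOf H := by
    intro R hR hRp hRc
    have hp : IsPGroup 2 (R.subgroupOf H) := hRp.comap_of_injective H.subtype H.subtype_injective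
    obtain ⟨P, hP⟩ := hp.exists_le_sylow
    refine ⟨P, (Subgroup.eq_of_le_of_card_ge hP ?_).symm⟩
    rw [Nat.card_congr (Subgroup.subgroupOfEquivOfLe hR).toEquiv, hRc,
      ← Subgroup.card_map_of_injective (K := (P : Subgroup H)) H.subtype_injective]
    exact hmax (P.2.map H.subtype)
  obtain ⟨P, hP⟩ := mk S.T hTH (T_isPGroup S) rfl
  obtain ⟨P', hP'⟩ := mk T' hT'H ((T_isPGroup S).map _) hcardT'
  obtain ⟨n, hn⟩ := MulAction.exists_smul_eq H P' P
  have hfwd : ∀ x ∈ S.T, (n : G) * (g * x * g⁻¹) * (n : G)⁻¹ ∈ S.T := by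
    intro x hx
    have h1 : (⟨g * x * g⁻¹, hT'H ⟨x, hx, rfl⟩⟩ : H) ∈ (P' : Subgroup H) := by
      rw [hP']; exact ⟨x, hx, rfl⟩
    have h2 : n * ⟨g * x * g⁻¹, hT'H ⟨x, hx, rfl⟩⟩ * n⁻¹ ∈ (P : Subgroup H) := by
      rw [← hn]
      exact Subgroup.smul_mem_pointwise_smul _ (MulAut.conj n) _ h1
    rw [hP] at h2
    exact h2
  have hng : (n : G) * g ∈ S.T := by
    refine T_normalizer S fun x => ?_
    have hfwd' : ∀ x ∈ S.T, (n : G) * g * x * ((n : G) * g)⁻¹ ∈ S.T := fun x hx => by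
      simpa [mul_assoc] using hfwd x hx
    refine ⟨hfwd' x, fun hx => ?_⟩
    let φ : S.T → S.T := fun y => ⟨_, hfwd' y y.2⟩
    have hinj : Function.Injective φ := fun a b e =>
      Subtype.ext (mul_left_cancel (mul_right_cancel (congrArg Subtype.val e)))
    obtain ⟨⟨y, hy⟩, hye⟩ := Finite.injective_iff_surjective.mp hinj ⟨_, hx⟩
    have : y = x := mul_left_cancel (mul_right_cancel (congrArg Subtype.val hye))
    rwa [← this]
  apply im_E₀_ne S
  ext x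
  have hn' := Subgroup.mem_normalizer_iff.1 n.2
  rw [hnorm sideE_ok _ (inv_mem hng), hg]
  constructor
  · intro h1
    have := (hn' _).1 h1
    simpa [mul_assoc] using this
  · intro h1
    refine (hn' _).2 ?_
    simpa [mul_assoc] using h1

/-- An elementary subgroup of order sixteen containing the involution is conjugate to one of the two. -/
theorem elem_conj {P : Subgroup G} (hc : Nat.card P = 16) (h2 : ∀ x ∈ P, x * x = 1) (ht : S.t ∈ P) :
    ∃ c : G, c * S.t = S.t * c ∧ ((∀ x, x ∈ P ↔ c * x * c⁻¹ ∈ S.im E₀) ∨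
      (∀ x, x ∈ P ↔ c * x * c⁻¹ ∈ S.im F₀)) := by
  classical
  have := Fact.mk Nat.prime_two
  have hP : ∀ x ∈ P, x * S.t = S.t * x := fun x hx => by
    have e := h2 _ (mul_mem hx ht)
    calc x * S.t = (x * S.t)⁻¹ := eq_inv_of_mul_eq_one_left e
      _ = S.t⁻¹ * x⁻¹ := mul_inv_rev _ _
      _ = S.t * x := by rw [Invol.inv_eq_self S.ord, inv_eq_of_mul_eq_one_right (h2 x hx)]
  let P' : Subgroup M :=
    { carrier := {x | x ∈ CT ∧ S.fM x ∈ P}
      mul_mem' := fun ha hb => ⟨mul_mem ha.1 hb.1, by rw [fM_mul S ha.1 hb.1]; exact mul_mem ha.2 hb.2⟩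
      one_mem' := ⟨CT.one_mem, by rw [fM_one]; exact one_mem _⟩
      inv_mem' := fun ha => ⟨inv_mem ha.1, by rw [fM_inv S ha.1]; exact inv_mem ha.2⟩ }
  have hP'C : P' ≤ CT := fun x hx => hx.1
  have hcard : Nat.card P' = 16 := by
    rw [← hc]
    refine Nat.card_eq_of_bijective (fun x : P' => (⟨S.fM x, x.2.2⟩ : P)) ⟨fun a b e => ?_, fun y => ?_⟩
    · exact Subtype.ext (fM_inj S a.2.1 b.2.1 (congrArg (fun z : P => (z : G)) e))
    · obtain ⟨x, hx, hxe⟩ := exists_fM S (hP y y.2)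
      exact ⟨⟨x, hx, hxe.symm ▸ y.2⟩, Subtype.ext hxe⟩
  have h2' : ∀ x ∈ P', x * x = 1 := fun x hx =>
    fM_inj S (mul_mem hx.1 hx.1) CT.one_mem (by rw [fM_mul S hx.1 hx.1, h2 _ hx.2, fM_one])
  have hp : IsPGroup 2 P' := IsPGroup.of_card (n := 4) (by rw [hcard]; norm_num)
  obtain ⟨c, hcC, hcT⟩ := exists_conj_syl hp hP'C
  let Q : Subgroup M := P'.map (MulAut.conj c).toMonoidHom
  have ht' : t₀ ∈ Q := ⟨t₀, ⟨t₀_CT, by rw [fM_t]; exact ht⟩, by
    show c * t₀ * c⁻¹ = t₀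
    rw [mem_CT.mp hcC, mul_inv_cancel_right]⟩
  have hQ := elem_cases (P := Q) (by rintro _ ⟨x, hx, rfl⟩; exact hcT x hx)
    (by rw [Subgroup.card_map_of_injective (MulAut.conj c).injective, hcard])
    (by rintro _ ⟨x, hx, rfl⟩; rw [← map_mul, h2' x hx, map_one]) ht'
  refine ⟨S.fM c, fM_comm S hcC, ?_⟩
  have key : ∀ {Sd : Side} (h : Sd.Ok), Q = Sd.E h →
      ∀ x, x ∈ P ↔ S.fM c * x * (S.fM c)⁻¹ ∈ S.im (Sd.E h) := by
    intro Sd h e x
    constructor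
    · intro hx
      obtain ⟨y, hy, rfl⟩ := exists_fM S (hP x hx)
      exact (mem_im S (E_le_CT h)).2 ⟨_, e ▸ ⟨y, ⟨hy, hx⟩, rfl⟩, fM_conj S hcC hy⟩
    · intro hx
      obtain ⟨y, hy, hye⟩ := (mem_im S (E_le_CT h)).1 hx
      obtain ⟨w, hw, rfl⟩ : y ∈ Q := e.symm ▸ hy
      have : S.fM (c * w * c⁻¹) = S.fM c * x * (S.fM c)⁻¹ := hye
      rw [fM_conj S hcC hw.1] at this
      rw [← mul_left_cancel (mul_right_cancel this)]
      exact hw.2
  exact hQ.imp (key sideE_ok) (key sideF_ok)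

end Cfsg.Agent.McLRecog
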