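import Cfsg.Agent.McLRecog.Fusion

/-!
The normaliser of an elementary subgroup of order sixteen acts on it like the one in the model.
-/

set_option autoImplicit false

namespace Cfsg.Agent.McLRecog

open Cfsg Cfsg.Agent.Invol Cfsg.Agent.Compute Cfsg.Agent.StemCert

variable {G : Type*} [Group G] [Finite G]

/-- A side together with its facts that are not part of the tables. -/
structure Good (S : Setting G) (Sd : Side) where
  ok : Sd.Ok
  self : ∀ {x : M}, x ∈ CT → (∀ e ∈ Sd.E ok, x * e = e * x) → x ∈ Sd.E ok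
  back : ∀ h : G, S.t ∈ (S.im (Sd.E ok)).map (MulAut.conj h).toMonoidHom →
    ∃ c : G, c * S.t = S.t * c ∧ ∀ y ∈ S.im (Sd.E ok), c * (h * y * h⁻¹) * c⁻¹ ∈ S.im (Sd.E ok)

theorem im_elem (S : Setting G) {Sd : Side} (h : Sd.Ok) {y : G} (hy : y ∈ S.im (Sd.E h)) : y * y = 1 := by
  obtain ⟨_, ⟨i, hi, rfl⟩, rfl⟩ := (mem_im S (E_le_CT h)).1 hy
  rw [← fM_mul S (E_le_CT h (el_mem h hi)) (E_le_CT h (el_mem h hi)), el_sq h hi, fM_one]

theorem conj_back {S : Setting G} {Sd Sd' : Side} (h : Sd.Ok) (h' : Sd'.Ok)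
    (hno : ∀ g : G, ¬ ∀ x, x ∈ S.im (Sd.E h) ↔ g * x * g⁻¹ ∈ S.im (Sd'.E h'))
    (hor : ∀ {P : Subgroup G}, Nat.card P = 16 → (∀ x ∈ P, x * x = 1) → S.t ∈ P →
      ∃ c : G, c * S.t = S.t * c ∧ ((∀ x, x ∈ P ↔ c * x * c⁻¹ ∈ S.im (Sd.E h)) ∨
        (∀ x, x ∈ P ↔ c * x * c⁻¹ ∈ S.im (Sd'.E h'))))
    (g : G) (ht : S.t ∈ (S.im (Sd.E h)).map (MulAut.conj g).toMonoidHom) :
    ∃ c : G, c * S.t = S.t * c ∧ ∀ y ∈ S.im (Sd.E h), c * (g * y * g⁻¹) * c⁻¹ ∈ S.im (Sd.E h) := by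
  obtain ⟨c, hc, hP | hP⟩ := hor
    (by rw [Subgroup.card_map_of_injective (MulAut.conj g).injective, card_im S (E_le_CT h), card_E h])
    (by rintro _ ⟨x, hx, rfl⟩; rw [← map_mul, im_elem S h hx, map_one]) ht
  · exact ⟨c, hc, fun y hy => (hP _).1 ⟨y, hy, rfl⟩⟩
  · refine absurd (fun x => ?_) (hno (c * g))
    have hm : x ∈ S.im (Sd.E h) ↔ g * x * g⁻¹ ∈ (S.im (Sd.E h)).map (MulAut.conj g).toMonoidHom :=
      ⟨fun hx => ⟨x, hx, rfl⟩, fun ⟨y, hy, e⟩ => by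
        have : g * y * g⁻¹ = g * x * g⁻¹ := e
        rwa [← mul_left_cancel (mul_right_cancel this)]⟩
    rw [hm, hP]
    simp [mul_assoc]

/-- The first side is good. -/
noncomputable def goodE (S : Setting G) : Good S sideE where
  ok := sideE_ok
  self hx hc := E₀_self hx hc
  back := conj_back sideE_ok sideF_ok (fun _ hg => not_fused S hg) (fun a b c => elem_conj S a b c)

/-- The second side is good. -/
noncomputable def goodF (S : Setting G) : Good S sideF where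
  ok := sideF_ok
  self hx hc := F₀_self hx hc
  back := conj_back sideF_ok sideE_ok
    (fun g hg => not_fused S (g := g⁻¹) fun x => by rw [hg]; simp [mul_assoc])
    (fun a b c => by
      obtain ⟨c, hc, h | h⟩ := elem_conj S a b c
      exacts [⟨c, hc, Or.inr h⟩, ⟨c, hc, Or.inl h⟩])

variable {S : Setting G} {Sd : Side} (Γ : Good S Sd)

/-- An element of the subgroup in the group. -/
noncomputable def Good.el (_Γ : Good S Sd) (i : ℕ) : G := S.fM (Sd.el i)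

/-- The subgroup in the group. -/
noncomputable abbrev Good.E : Subgroup G := S.im (Sd.E Γ.ok)

theorem el_CT (Γ : Good S Sd) {i : ℕ} (hi : i < 16) : Sd.el i ∈ CT := E_le_CT Γ.ok (el_mem Γ.ok hi)

theorem gel_mem {i : ℕ} (hi : i < 16) : Γ.el i ∈ Γ.E :=
  (mem_im S (E_le_CT Γ.ok)).2 ⟨_, el_mem Γ.ok hi, rfl⟩

theorem gel_cases {y : G} (hy : y ∈ Γ.E) : ∃ i < 16, Γ.el i = y := by
  obtain ⟨_, ⟨i, hi, rfl⟩, rfl⟩ := (mem_im S (E_le_CT Γ.ok)).1 hy
  exact ⟨i, hi, rfl⟩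

theorem gel_inj {i j : ℕ} (hi : i < 16) (hj : j < 16) (e : Γ.el i = Γ.el j) : i = j :=
  el_inj Γ.ok hi hj (fM_inj S (el_CT Γ hi) (el_CT Γ hj) e)

theorem gel_mul {i j : ℕ} (hi : i < 16) (hj : j < 16) : Γ.el i * Γ.el j = Γ.el (Nat.xor i j) := by
  show S.fM _ * S.fM _ = S.fM _
  rw [← fM_mul S (el_CT Γ hi) (el_CT Γ hj), el_mul Γ.ok hi hj]

theorem gel_zero : Γ.el 0 = 1 := by show S.fM _ = 1; rw [el_zero Γ.ok, fM_one]

theorem gel_one : Γ.el 1 = S.t := by show S.fM _ = S.t; rw [el_one Γ.ok, fM_t]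

theorem gel_two : Γ.el 2 = S.v := by show S.fM _ = S.fM _; rw [el_two Γ.ok]

theorem conjs_fM {c : M} (hc : c ∈ CT) {a : ℕ} (h : Conjs Sd.el c a) : Conjs Γ.el (S.fM c) a := fun k hk => by
  show S.fM c * S.fM _ * (S.fM c)⁻¹ = S.fM _
  rw [← fM_conj S hc (el_CT Γ hk), h k hk]

/-- The normaliser. -/
noncomputable abbrev Good.N : Subgroup G := Subgroup.normalizer (Γ.E : Set G)

theorem mem_N_of {n : G} (h : ∀ y ∈ Γ.E, n * y * n⁻¹ ∈ Γ.E) : n ∈ Γ.N := by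
  refine Subgroup.mem_normalizer_iff.2 fun y => ⟨h y, fun hy => ?_⟩
  let f : Γ.E → Γ.E := fun z => ⟨_, h z z.2⟩
  have hinj : Function.Injective f := fun a b e =>
    Subtype.ext (mul_left_cancel (mul_right_cancel (congrArg Subtype.val e)))
  obtain ⟨⟨z, hz⟩, hze⟩ := Finite.injective_iff_surjective.mp hinj ⟨_, hy⟩
  rwa [← mul_left_cancel (mul_right_cancel (congrArg Subtype.val hze : n * z * n⁻¹ = n * y * n⁻¹))]

theorem N_conj {n : G} (hn : n ∈ Γ.N) {y : G} (hy : y ∈ Γ.E) : n * y * n⁻¹ ∈ Γ.E :=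
  (Subgroup.mem_normalizer_iff.1 hn y).1 hy

theorem E_le_N : Γ.E ≤ Γ.N := Subgroup.le_normalizer

theorem E_self {n : G} (hn : ∀ y ∈ Γ.E, n * y = y * n) : n ∈ Γ.E := by
  have ht : n * S.t = S.t * n := by rw [← gel_one Γ]; exact hn _ (gel_mem Γ (by norm_num))
  obtain ⟨x, hx, rfl⟩ := exists_fM S ht
  refine (mem_im S (E_le_CT Γ.ok)).2 ⟨x, Γ.self hx fun e he => ?_, rfl⟩
  refine fM_inj S (mul_mem hx (E_le_CT Γ.ok he)) (mul_mem (E_le_CT Γ.ok he) hx) ?_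
  rw [fM_mul S hx (E_le_CT Γ.ok he), fM_mul S (E_le_CT Γ.ok he) hx]
  exact hn _ ((mem_im S (E_le_CT Γ.ok)).2 ⟨e, he, rfl⟩)

theorem fNC_mem {x : M} (hx : x ∈ Sd.NC Γ.ok) : S.fM x ∈ Γ.N := by
  refine mem_N_of Γ ?_
  have key : ∀ x ∈ Sd.NC Γ.ok, ∀ e ∈ Sd.E Γ.ok, x * e * x⁻¹ ∈ Sd.E Γ.ok := by
    intro x hx
    rw [Side.NC, Subgroup.sup_eq_closure] at hx
    refine Subgroup.closure_induction_left (p := fun x _ => ∀ e ∈ Sd.E Γ.ok, x * e * x⁻¹ ∈ Sd.E Γ.ok)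
      ?_ ?_ ?_ hx
    · intro e he; simpa using he
    · intro a ha y _ hy e he
      have h1 : a * (y * e * y⁻¹) * a⁻¹ ∈ Sd.E Γ.ok := by
        rcases ha with ha | ha
        · exact mul_mem (mul_mem ha (hy e he)) (inv_mem ha)
        · exact L_normalizes Γ.ok ha (hy e he)
      simpa [mul_assoc] using h1
    · intro a ha y _ hy e he
      have h1 : a⁻¹ * (y * e * y⁻¹) * a⁻¹⁻¹ ∈ Sd.E Γ.ok := by
        rcases ha with ha | ha
        · exact mul_mem (mul_mem (inv_mem ha) (hy e he)) (inv_mem (inv_mem ha))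
        · exact L_normalizes Γ.ok (inv_mem ha) (hy e he)
      simpa [mul_assoc] using h1
  intro y hy
  obtain ⟨e, he, rfl⟩ := (mem_im S (E_le_CT Γ.ok)).1 hy
  rw [← fM_conj S (NC_le_CT Γ.ok hx) (E_le_CT Γ.ok he)]
  exact (mem_im S (E_le_CT Γ.ok)).2 ⟨_, key x hx e he, rfl⟩

theorem N_inf_C {n : G} (hn : n ∈ Γ.N) (hc : n * S.t = S.t * n) :
    ∃ e ∈ Sd.E Γ.ok, ∃ l ∈ Sd.L, S.fM (e * l) = n := by
  obtain ⟨x, hx, rfl⟩ := exists_fM S hc
  obtain ⟨e, he, l, hl, rfl⟩ := nz_NC Γ.ok hx fun e he => by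
    obtain ⟨y, hy, hye⟩ := (mem_im S (E_le_CT Γ.ok)).1
      (N_conj Γ hn ((mem_im S (E_le_CT Γ.ok)).2 ⟨e, he, rfl⟩))
    rw [← fM_conj S hx (E_le_CT Γ.ok he)] at hye
    rwa [← fM_inj S (E_le_CT Γ.ok hy) (mul_mem (mul_mem hx (E_le_CT Γ.ok he)) (inv_mem hx)) hye]
  exact ⟨e, he, l, hl, rfl⟩

variable (hall : ∀ i : G, orderOf i = 2 → IsConj S.t i)
include hall

theorem transitive {i : ℕ} (hi : i < 16) (h0 : i ≠ 0) : ∃ n ∈ Γ.N, n * S.t * n⁻¹ = Γ.el i := by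
  have hne : Γ.el i ≠ 1 := fun e => h0 (gel_inj Γ hi (by norm_num) (e.trans (gel_zero Γ).symm))
  have hord : orderOf (Γ.el i) = 2 := orderOf_eq_prime
    (by rw [pow_two]; exact im_elem S Γ.ok (gel_mem Γ hi)) hne
  obtain ⟨h, hh⟩ := isConj_iff.1 (hall _ hord)
  obtain ⟨c, hc, hcE⟩ := Γ.back h⁻¹ ⟨_, gel_mem Γ hi, by
    show h⁻¹ * Γ.el i * (h⁻¹)⁻¹ = S.t
    rw [← hh]; group⟩
  have hm : c * h⁻¹ ∈ Γ.N := mem_N_of Γ fun y hy => by
    have := hcE y hy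
    simpa [mul_assoc] using this
  refine ⟨_, inv_mem hm, ?_⟩
  rw [← hh]
  calc (c * h⁻¹)⁻¹ * S.t * (c * h⁻¹)⁻¹⁻¹ = h * (c⁻¹ * (S.t * c)) * h⁻¹ := by group
    _ = h * S.t * h⁻¹ := by rw [← hc, inv_mul_cancel_left]

theorem exists_three_cycle : ∃ g ∈ Γ.N, g * S.t * g⁻¹ = S.v ∧ g * S.v * g⁻¹ = S.t * S.v := by
  obtain ⟨n, hn, hnt⟩ := transitive Γ hall (show 2 < 16 by norm_num) (by norm_num)
  obtain ⟨k, hk, hke⟩ := gel_cases Γ (N_conj Γ (inv_mem hn) (gel_mem Γ (show 3 < 16 by norm_num)))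
  rw [inv_inv] at hke
  have h3 : Γ.el 3 = S.t * S.v := by
    rw [← gel_one Γ, ← gel_two Γ, gel_mul Γ (by norm_num) (by norm_num)]; rfl
  have hback : n * Γ.el k * n⁻¹ = Γ.el 3 := by rw [hke]; group
  have hk2 : 2 ≤ k := by
    by_contra hlt
    rcases (show k = 0 ∨ k = 1 by omega) with rfl | rfl
    · rw [gel_zero] at hback
      simp only [mul_one, mul_inv_cancel] at hback
      exact absurd (gel_inj Γ (by norm_num) (by norm_num) ((gel_zero Γ).trans hback)) (by norm_num)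
    · rw [gel_one, hnt] at hback
      exact absurd (gel_inj Γ (by norm_num) (by norm_num) hback) (by norm_num)
  obtain ⟨l, hl, hle⟩ := orbit_v Γ.ok hk hk2
  have hlC : l ∈ CT := L_le_CT Γ.ok hl
  refine ⟨n * S.fM l, mul_mem hn (fNC_mem Γ (Subgroup.mem_sup_right hl)), ?_, ?_⟩
  · rw [← gel_two Γ, ← hnt]
    calc n * S.fM l * S.t * (n * S.fM l)⁻¹ = n * (S.fM l * S.t) * (S.fM l)⁻¹ * n⁻¹ := by group
      _ = _ := by rw [fM_comm S hlC]; group
  · rw [← h3, ← hback, ← gel_two Γ]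
    calc n * S.fM l * Γ.el 2 * (n * S.fM l)⁻¹ = n * (S.fM l * S.fM (Sd.el 2) * (S.fM l)⁻¹) * n⁻¹ := by
          show n * S.fM l * S.fM (Sd.el 2) * _ = _; group
      _ = n * Γ.el k * n⁻¹ := by
          rw [← fM_conj S hlC (el_CT Γ (by norm_num)), el_two Γ.ok, hle]; rfl

/-- Some element of the normaliser acts as the outer generator of the model. -/
theorem exists_action : ∃ b ∈ Γ.N, Conjs Γ.el b (Sd.act.getD 2 0) := by
  obtain ⟨g, hg, hgt, hgv⟩ := exists_three_cycle Γ hall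
  obtain ⟨i, hi, hie⟩ := gel_cases Γ (N_conj Γ hg (gel_mem Γ (show 4 < 16 by norm_num)))
  obtain ⟨j, hj, hje⟩ := gel_cases Γ (N_conj Γ hg (gel_mem Γ (show 8 < 16 by norm_num)))
  have hdig : ∀ i < 16, ∀ j < 16, dig (candMap i j) 0 = 2 ∧ dig (candMap i j) 1 = 3 ∧
      dig (candMap i j) 2 = i ∧ dig (candMap i j) 3 = j := by
    intro i hi j hj
    interval_cases i <;> interval_cases j <;> exact ⟨rfl, rfl, rfl, rfl⟩
  obtain ⟨d0, d1, d2, d3⟩ := hdig i hi j hj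
  have hcg : Conjs Γ.el g (candMap i j) := by
    refine conjs_of_basis Γ.el (gel_zero Γ) (fun a ha b hb => gel_mul Γ ha hb) fun q hq => ?_
    interval_cases q
    · rw [d0]; show g * Γ.el 1 * g⁻¹ = _; rw [gel_one, gel_two, hgt]
    · rw [d1]; show g * Γ.el 2 * g⁻¹ = _
      rw [gel_two, hgv, ← gel_one Γ, ← gel_two Γ, gel_mul Γ (by norm_num) (by norm_num)]; rfl
    · rw [d2]; show g * Γ.el 4 * g⁻¹ = _; rw [hie]
    · rw [d3]; show g * Γ.el 8 * g⁻¹ = _; rw [hje]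
  have := allBelow_eq_true.mp (allBelow_eq_true.mp Γ.ok.cand i hi) j hj
  rw [forceN_eq] at this
  simp only [Bool.or_eq_true, Bool.and_eq_true, Nat.beq_eq] at this
  rcases this with ⟨-, h⟩ | ⟨hw, hk⟩
  · exfalso
    rw [forceN_eq] at h
    simp only [Bool.and_eq_true, Nat.blt_eq] at h
    obtain ⟨hq, hno⟩ := h
    set q := ((Sd.cand.getD i []).getD j []).getD 1 0
    set w := W (Data.wGens.getD q [])
    obtain ⟨hwC, hwv⟩ := W₀_spec.mp (gen_mem (gens := Data.wGens) hq)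
    have c1 : S.fM w * S.v * (S.fM w)⁻¹ = S.v := by
      rw [Setting.v, ← fM_conj S hwC v_facts.2.2.2, hwv, mul_inv_cancel_right]
    have c0 : S.fM w * S.t * (S.fM w)⁻¹ = S.t := by rw [fM_comm S hwC, mul_inv_cancel_right]
    have e1 : g * S.fM w * g⁻¹ * S.v = S.v * (g * S.fM w * g⁻¹) := by
      rw [← hgt]
      calc g * S.fM w * g⁻¹ * (g * S.t * g⁻¹) = g * (S.fM w * S.t) * g⁻¹ := by group
        _ = g * (S.t * S.fM w) * g⁻¹ := by rw [fM_comm S hwC]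
        _ = _ := by group
    have e2 : g * S.fM w * g⁻¹ * (S.t * S.v) = (S.t * S.v) * (g * S.fM w * g⁻¹) := by
      rw [← hgv]
      calc g * S.fM w * g⁻¹ * (g * S.v * g⁻¹) = g * (S.fM w * S.v * (S.fM w)⁻¹) * (S.fM w * g⁻¹) := by group
        _ = g * S.v * (S.fM w * g⁻¹) := by rw [c1]
        _ = _ := by group
    have e0 : g * S.fM w * g⁻¹ * S.t = S.t * (g * S.fM w * g⁻¹) := by
      have et : S.t = S.t * S.v * S.v := by
        rw [mul_assoc, Invol.mul_self_eq_one (v_order S), mul_one]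
      conv_lhs => rw [et]
      conv_rhs => rw [et]
      rw [← mul_assoc, e2, mul_assoc (S.t * S.v), e1, ← mul_assoc]
    obtain ⟨y, hy, hye⟩ := exists_fM S e0
    have hyv : y * v₀ = v₀ * y := by
      refine fM_inj S (mul_mem hy v_facts.2.2.2) (mul_mem v_facts.2.2.2 hy) ?_
      rw [fM_mul S hy v_facts.2.2.2, fM_mul S v_facts.2.2.2 hy, hye]
      exact e1
    obtain ⟨n, hn, rfl⟩ := mem_W₀.mp (W₀_spec.mpr ⟨hy, hyv⟩)
    have hcw : Conjs Γ.el (S.fM w) (Sd.wgacts.getD q 0) := conjs_fM Γ hwC (conjs_wg Γ.ok hq)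
    have hcy := conjs_fM Γ hy (conjs_w Γ.ok hn)
    have := allBelow_eq_true.mp hno n hn
    simp only [Bool.not_eq_true'] at this
    rw [allBelow_eq_true.mpr fun k hk => ?_] at this
    · exact Bool.noConfusion this
    rw [Nat.beq_eq]
    refine gel_inj Γ (app_lt _ _) (app_lt _ _) ?_
    rw [← hcg _ (app_lt _ _), ← hcw k hk, ← hcy _ (app_lt _ _), ← hcg k hk, hye]
    group
  · let gs : ℕ → G := fun s => [S.fM (Sd.ge 0), S.fM (Sd.ge 1), g].getD s 1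
    let acts := [Sd.act.getD 0 0, Sd.act.getD 1 0, candMap i j]
    have hgs : ∀ s < 3, Conjs Γ.el (gs s) (acts.getD s 0) ∧ gs s ∈ Γ.N := by
      intro s hs
      interval_cases s
      · exact ⟨conjs_fM Γ (ge_CT Γ.ok (by norm_num)) (conjs_ge Γ.ok (by norm_num)),
          fNC_mem Γ (Subgroup.mem_sup_right (ge_mem_L (by norm_num)))⟩
      · exact ⟨conjs_fM Γ (ge_CT Γ.ok (by norm_num)) (conjs_ge Γ.ok (by norm_num)),
          fNC_mem Γ (Subgroup.mem_sup_right (ge_mem_L (by norm_num)))⟩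
      · exact ⟨hcg, hg⟩
    set w := (Sd.cand.getD i []).getD j []
    have hw3 : ∀ s ∈ w, s < 3 := fun s hs => Nat.blt_eq.mp (allB_spec hw s hs)
    refine ⟨(w.map gs).prod, list_prod_mem fun y hy => ?_, fun k hk' => ?_⟩
    · obtain ⟨s, hs, rfl⟩ := List.mem_map.mp hy
      exact (hgs s (hw3 s hs)).2
    · rw [appL_spec Γ.el (acts := acts) (fun s hs => (hgs s hs).1) w hw3 k hk',
        Nat.eq_of_beq_eq_true (allBelow_eq_true.mp hk k hk')]

end Cfsg.Agent.McLRecog
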