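import Cfsg.Agent.McLRecog.CommonFacts

/-!
Further facts on the model: self-centralisation, the outer element, generators, order three.
-/

set_option autoImplicit false

namespace Cfsg.Agent.McLRecog

open Cfsg Cfsg.Agent.Compute Cfsg.Agent.StemCert Cfsg.Agent.LeechModel

theorem wEls_letters (n : ℕ) : allB (fun s => Nat.blt s 6) (Data.wEls.getD n []) = true := by
  have := w_ok; simp only [chkW, Bool.and_eq_true, distinctW] at this
  exact letters_getD this.1.2.1 n

theorem els_letters {S : Side} (h : S.Ok) (i : ℕ) : allB (fun s => Nat.blt s 6) (S.elW i) = true := by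
  have := h.dist; simp only [Side.okDist, distinctW, Bool.and_eq_true] at this
  exact letters_getD this.1 i

theorem self_centr {S : Side} (h : S.Ok)
    (hs : allBelow 192 (fun n => !allBelow 16 (fun j => !eqW (Data.wEls.getD n []) (S.elW j)) ||
      !(eqW (Data.wEls.getD n [] ++ S.elW 4) (S.elW 4 ++ Data.wEls.getD n []) &&
        eqW (Data.wEls.getD n [] ++ S.elW 8) (S.elW 8 ++ Data.wEls.getD n []))) = true)
    {x : M} (hx : x ∈ CT) (hc : ∀ e ∈ S.E h, x * e = e * x) : x ∈ S.E h := by
  have hxW : x ∈ W₀ := W₀_spec.mpr ⟨hx, by rw [← el_two h]; exact hc _ (el_mem h (by norm_num))⟩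
  obtain ⟨n, hn, rfl⟩ := mem_W₀.mp hxW
  have := allBelow_eq_true.mp hs n hn
  simp only [Bool.or_eq_true, Bool.not_eq_true'] at this
  rcases this with h' | h'
  · by_contra hne
    rw [allBelow_eq_true.mpr fun j hj => ?_] at h'
    · exact Bool.noConfusion h'
    rw [Bool.not_eq_true', ← Bool.not_eq_true]
    exact fun e => hne ⟨j, hj, (W_eq e).symm⟩
  · exfalso
    have hn' := wEls_letters n
    rw [eqW_complete (letters_append hn' (els_letters h 4)) (letters_append (els_letters h 4) hn')
      (by rw [W_append, W_append]; exact hc _ (el_mem h (by norm_num))),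
      eqW_complete (letters_append hn' (els_letters h 8)) (letters_append (els_letters h 8) hn')
      (by rw [W_append, W_append]; exact hc _ (el_mem h (by norm_num)))] at h'
    exact Bool.noConfusion h'

theorem E₀_self {x : M} (hx : x ∈ CT) (hc : ∀ e ∈ E₀, x * e = e * x) : x ∈ E₀ :=
  self_centr sideE_ok self_ok hx hc

theorem F₀_self {x : M} (hx : x ∈ CT) (hc : ∀ e ∈ F₀, x * e = e * x) : x ∈ F₀ :=
  self_centr sideF_ok selfF_ok hx hc

/-- The outer element. -/
noncomputable def x₀ : M := W Data.xW

/-- The element inverting it. -/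
noncomputable def τ₀ : M := W Data.tauW

theorem x₀_t : x₀ * t₀ * x₀⁻¹ = v₀ := by
  have := x_ok; simp only [chkX, Bool.and_eq_true] at this
  exact W_conj_eq this.1.1.1.1.1.1

theorem x₀_v : x₀ * v₀ * x₀⁻¹ = t₀ * v₀ := by
  have := x_ok; simp only [chkX, Bool.and_eq_true] at this
  exact (W_conj_eq this.1.1.1.1.1.2).trans (el_three sideE_ok)

theorem τ₀_facts : τ₀ ∈ CT ∧ τ₀ * v₀ * τ₀⁻¹ = t₀ * v₀ ∧ τ₀ * x₀ * τ₀⁻¹ = x₀⁻¹ := by
  have := x_ok; simp only [chkX, Bool.and_eq_true] at this
  refine ⟨?_, (W_conj_eq this.1.1.2).trans (el_three sideE_ok), ?_⟩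
  · have h := W_eq this.1.2
    rw [W_append, W_append] at h
    rw [mem_CT]; exact h
  · exact (W_conj_eq this.2).trans (W_inv this.1.1.1.1.2)

theorem x₀_fix {d : ℕ} (hd : d < 4) : ∃ k < 4, x₀ * sideE.el d = sideE.el k * (x₀ * sideE.el k) := by
  have := x_ok; simp only [chkX, Bool.and_eq_true] at this
  have := allBelow_eq_true.mp this.1.1.1.2 d hd
  simp only [Bool.and_eq_true, Nat.blt_eq] at this
  refine ⟨_, this.1, ?_⟩
  have h := W_eq this.2
  rwa [W_append, W_append, W_append] at h

/-- The generators of the amalgam. -/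
noncomputable def gM (g : Fin 4) : M := W (Data.spqW.getD g [])

theorem gM_three : gM 3 = x₀ := by
  have := gen_ok; simp only [chkGen, Bool.and_eq_true] at this
  exact W_eq this.1.2

theorem gM_CT {g : Fin 4} (hg : g ≠ 3) : gM g ∈ CT := by
  have := gen_ok; simp only [chkGen, Bool.and_eq_true] at this
  have h := W_eq (allBelow_eq_true.mp this.1.1.1 g (by
    have := g.2; have : (g : ℕ) ≠ 3 := fun e => hg (Fin.ext e); omega))
  rw [W_append, W_append] at h
  rw [mem_CT]; exact h

theorem CT_le_closure : CT ≤ Subgroup.closure {gM 0, gM 1, gM 2} := by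
  have hg := gen_ok; simp only [chkGen, Bool.and_eq_true] at hg
  have hmem : ∀ q < 3, W (Data.spqW.getD q []) ∈ Subgroup.closure ({gM 0, gM 1, gM 2} : Set M) := by
    intro q hq
    interval_cases q
    · exact Subgroup.subset_closure (Or.inl rfl)
    · exact Subgroup.subset_closure (Or.inr (Or.inl rfl))
    · exact Subgroup.subset_closure (Or.inr (Or.inr rfl))
  intro x hx
  obtain ⟨-, -, -, h4, h5, h6, h7⟩ := McL.cent_ok
  refine Submonoid.closure_induction
    (motive := fun (y : CT) _ => (y : M) ∈ Subgroup.closure ({gM 0, gM 1, gM 2} : Set M))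
    ?_ (one_mem _) (fun a b _ _ ha hb => mul_mem ha hb)
    (generates_of_card McL.coded_cent h4 h5 McL.cent0_lt h6 (by rw [h7, McL.card_centralizer]) ⟨x, hx⟩)
  rintro _ ⟨s, hs, rfl⟩
  have hs' : s < 4 := hs
  have := allBelow_eq_true.mp hg.2 s hs'
  simp only [Bool.and_eq_true] at this
  rw [McL.centGen, dif_pos hs']
  show W (McL.Out.cent0Gens.getD s []) ∈ _
  rw [W_eq this.2]
  have hall := this.1
  generalize Data.centExpr.getD s [] = l at hall ⊢
  induction l with
  | nil => exact one_mem _
  | cons q l ih =>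
    show W (Data.spqW.getD q [] ++ _) ∈ _
    rw [W_append]
    exact mul_mem (hmem q (Nat.blt_eq.mp (allB_spec hall q (by simp))))
      (ih (allB_of_forall fun a ha => allB_spec hall a (List.mem_cons_of_mem _ ha)))

theorem exists_invol_commute {y : M} (hy : orderOf y = 3) :
    ∃ i : M, orderOf i = 2 ∧ i * y = y * i := by
  classical
  have := Fact.mk Nat.prime_three
  have hq := three_ok; simp only [chkThree, Bool.and_eq_true] at hq
  let Q : Subgroup M := genSub Data.threeGens 6
  have hQ : Nat.card Q = 3 ^ (Nat.card M).factorization 3 := by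
    show Nat.card (Q : Set M) = _
    rw [tableB_spec (by norm_num) hq.1.1.1.1, Nat.card_range_of_injective (distinctW_spec hq.1.1.1.2),
      Nat.card_fin, McL.card_mcl, show (898128000 : ℕ) = 3 ^ 6 * 1232000 by norm_num,
      Nat.factorization_mul (by norm_num) (by norm_num), Finsupp.add_apply,
      Nat.Prime.factorization_pow Nat.prime_three, Finsupp.single_eq_same,
      Nat.factorization_eq_zero_of_not_dvd (by norm_num)]
    norm_num
  let S : Sylow 3 M := Sylow.ofCard Q hQ
  have hp : IsPGroup 3 (Subgroup.zpowers y) :=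
    IsPGroup.of_card (n := 1) (by rw [Nat.card_zpowers, hy, pow_one])
  obtain ⟨P, hP⟩ := hp.exists_le_sylow
  obtain ⟨g, hg⟩ := MulAction.exists_smul_eq M P S
  have hy' : g * y * g⁻¹ ∈ (S : Subgroup M) := by
    rw [← hg]
    exact Subgroup.smul_mem_pointwise_smul _ (MulAut.conj g) _ (hP (Subgroup.mem_zpowers y))
  obtain ⟨n, hn, hne⟩ := (mem_table (by norm_num) hq.1.1.1.1).mp hy'
  have ho : orderOf (W (Data.threeEls.getD n [])) = 3 := by
    have e : orderOf (g * y * g⁻¹) = orderOf y := (MulAut.conj g).orderOf_eq y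
    rw [hne, e, hy]
  have := allBelow_eq_true.mp hq.1.1.2 n hn
  simp only [Bool.or_eq_true, Nat.beq_eq] at this
  have hwit := allBelow_eq_true.mp hq.2 n hn
  rw [Nat.blt_eq] at hwit
  have hu := allBelow_eq_true.mp hq.1.2 _ hwit
  simp only [Bool.and_eq_true] at hu
  rcases this with (rfl | h) | h
  · exfalso
    have h0 := hq.1.1.1.1; simp only [tableB, Bool.and_eq_true] at h0
    rw [(W_eq h0.1).trans W_nil, orderOf_one] at ho
    omega
  · exfalso
    refine W_ne h ?_
    rw [W_append, W_append, W_nil]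
    have h3 := pow_orderOf_eq_one (W (Data.threeEls.getD n []))
    rwa [ho, pow_three] at h3
  · set i := W (Data.threeInv.getD (Data.threeWit.getD n 0) [])
    have hc := W_eq h
    rw [W_append, W_append, hne] at hc
    have hi2 : i * i = 1 := (W_append _ _).symm.trans (W_eq hu.1)
    refine ⟨g⁻¹ * i * g, orderOf_eq_prime ?_ ?_, ?_⟩
    · rw [pow_two, show g⁻¹ * i * g * (g⁻¹ * i * g) = g⁻¹ * (i * i) * g by group, hi2]; group
    · intro e
      refine W_ne hu.2 ?_
      have := congrArg (fun z => g * z * g⁻¹) e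
      rw [W_nil]
      simpa [mul_assoc, i] using this
    · calc g⁻¹ * i * g * y = g⁻¹ * (i * (g * y * g⁻¹)) * g := by group
        _ = g⁻¹ * ((g * y * g⁻¹) * i) * g := by rw [hc]
        _ = y * (g⁻¹ * i * g) := by group

end Cfsg.Agent.McLRecog
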