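import Cfsg.Agent.McLRecog.Top.Main
import Cfsg.Agent.McLRecog.Mid.Main
import Cfsg.Agent.McLRecog.Low.Main
import Cfsg.Agent.McLRecog.ModelFacts

/-!
The amalgam is presented by its relators, and the presented group is the model.
-/

set_option autoImplicit false
set_option maxRecDepth 100000
set_option maxHeartbeats 0

namespace Cfsg.Agent.McLRecog

open Cfsg Cfsg.Agent.CosetCert Cfsg.Agent.StemCert Cfsg.Agent.Compute

/-- The presented group. -/
abbrev P : Type := PresentedGroup (wordRels Data.rels)

theorem one_of_rel {l : List (Fin 4 × Bool)} (hl : l ∈ Data.rels) :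
    PresentedGroup.mk (wordRels Data.rels) (FreeGroup.mk l) = 1 :=
  PresentedGroup.one_of_mem (List.mem_map_of_mem hl)

theorem rels_low : (Low.relWords.map fun l => l.map fun a => ((![0, 1] : Fin 2 → Fin 4) a.1, a.2)).all
    (fun l => decide (l ∈ Data.rels)) = true := by decide +kernel

theorem rels_mid : (Mid.relWords.map fun l => l.map fun a => ((![0, 1, 2] : Fin 3 → Fin 4) a.1, a.2)).all
    (fun l => decide (l ∈ Data.rels)) = true := by decide +kernel

theorem rels_top : (Top.relWords.map fun l => l.map fun a => (id a.1, a.2)).all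
    (fun l => decide (l ∈ Data.rels)) = true := by decide +kernel

theorem s_sq : ([(0, true), (0, true)] : List (Fin 4 × Bool)) ∈ Data.rels := by decide +kernel

theorem card_s : Finite (letterSub (wordRels Data.rels) [0]) ∧
    Nat.card (letterSub (wordRels Data.rels) [0]) ≤ 2 := by
  have e : letterSub (wordRels Data.rels) [0] = Subgroup.zpowers (PresentedGroup.of (0 : Fin 4) : P) := by
    rw [letterSub, Subgroup.zpowers_eq_closure]
    apply congrArg Subgroup.closure
    ext g
    simp
  have h2 : (PresentedGroup.of (0 : Fin 4) : P) ^ 2 = 1 := by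
    have h := one_of_rel s_sq
    rw [show FreeGroup.mk [((0 : Fin 4), true), ((0 : Fin 4), true)] =
      FreeGroup.of (0 : Fin 4) * FreeGroup.of (0 : Fin 4) from rfl, map_mul] at h
    rw [pow_two]; exact h
  rw [e, Nat.card_zpowers]
  refine ⟨?_, orderOf_le_of_pow_eq_one two_pos h2⟩
  exact finite_zpowers.2 (isOfFinOrder_iff_pow_eq_one.2 ⟨2, two_pos, h2⟩)

theorem card_P : Finite P ∧ Nat.card P ≤ 898128000 := by
  have h2 := letterSub_card_le (rels := wordRels Data.rels) (![0, 1] : Fin 2 → Fin 4) [0, 1]
    Low.subLetters [0] rfl (by decide) (fun l hl => one_of_rel (of_decide_eq_true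
      (List.all_eq_true.1 rels_low _ (List.mem_map_of_mem hl)))) Low.index_bound card_s
  have h3 := letterSub_card_le (rels := wordRels Data.rels) (![0, 1, 2] : Fin 3 → Fin 4) [0, 1, 2]
    Mid.subLetters [0, 1] rfl (by decide) (fun l hl => one_of_rel (of_decide_eq_true
      (List.all_eq_true.1 rels_mid _ (List.mem_map_of_mem hl)))) Mid.index_bound h2
  have h4 := letterSub_card_le (rels := wordRels Data.rels) (id : Fin 4 → Fin 4) [0, 1, 2, 3]
    Top.subLetters [0, 1, 2] rfl (by decide) (fun l hl => one_of_rel (of_decide_eq_true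
      (List.all_eq_true.1 rels_top _ (List.mem_map_of_mem hl)))) Top.index_bound h3
  rw [letterSub_full _ (by decide)] at h4
  obtain ⟨hfin, hle⟩ := h4
  exact ⟨Finite.of_equiv _ Subgroup.topEquiv.toEquiv,
    le_trans (le_of_eq (Nat.card_congr Subgroup.topEquiv.toEquiv).symm) (le_trans hle (by norm_num))⟩

/-- The word of a signed word. -/
def relWord (l : List (Fin 4 × Bool)) : List ℕ :=
  l.flatMap fun a => bif a.2 then Data.spqW.getD a.1 [] else Data.spqI.getD a.1 []

theorem W_relWord (l : List (Fin 4 × Bool)) :
    W (relWord l) = (l.map fun a => bif a.2 then gM a.1 else (gM a.1)⁻¹).prod := by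
  induction l with
  | nil => rfl
  | cons a l ih =>
    rw [relWord, List.flatMap_cons, W_append, List.map_cons, List.prod_cons, ← ih]
    congr 1
    rcases a with ⟨g, b⟩
    cases b
    · have := gen_ok; simp only [chkGen, Bool.and_eq_true] at this
      exact W_inv (allBelow_eq_true.mp this.1.1.2 g g.2)
    · rfl

/-- Two of the letters are not used. -/
def avoids (g : Fin 4) (l : List (Fin 4 × Bool)) : Bool := l.all fun a => !decide (a.1 = g)

theorem rels_ok : Data.rels.all (fun l => eqW (relWord l) [] &&
    (avoids 3 l || avoids 2 l || avoids 1 l)) = true := by decide +kernel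

theorem gen_expr_ok : (List.range 6).all (fun s => (Data.genExpr.getD s []).all (fun g => Nat.blt g 4) &&
    eqW [s] ((Data.genExpr.getD s []).flatMap fun g => Data.spqW.getD g [])) = true := by decide +kernel

theorem rel_gM {l : List (Fin 4 × Bool)} (hl : l ∈ Data.rels) :
    (l.map fun a => bif a.2 then gM a.1 else (gM a.1)⁻¹).prod = 1 := by
  have := List.all_eq_true.1 rels_ok l hl
  simp only [Bool.and_eq_true] at this
  rw [← W_relWord]
  exact (W_eq this.1).trans W_nil

/-- The map to the model. -/
noncomputable def toM : P →* M :=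
  PresentedGroup.toGroup (f := gM) (fun r hr => by
    obtain ⟨l, hl, rfl⟩ := List.mem_map.1 hr
    rw [FreeGroup.lift_mk]
    exact rel_gM hl)

theorem toM_of (g : Fin 4) : toM (PresentedGroup.of g) = gM g := PresentedGroup.toGroup.of _

theorem toM_bijective : Function.Bijective toM := by
  have := card_P.1
  have hs : Function.Surjective toM := by
    intro y
    refine Submonoid.closure_induction (motive := fun y _ => ∃ a, toM a = y) ?_ ⟨1, map_one _⟩ ?_
      (McL.generated y)
    · rintro _ ⟨s, hs, rfl⟩
      have hs' : s < 6 := hs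
      have := List.all_eq_true.1 gen_expr_ok s (List.mem_range.2 hs')
      simp only [Bool.and_eq_true] at this
      have e : McL.gen s = W [s] := by simp [W, evalW]
      rw [e, W_eq this.2]
      have hall := this.1
      generalize Data.genExpr.getD s [] = w at hall ⊢
      induction w with
      | nil => exact ⟨1, map_one _⟩
      | cons g w ih =>
        simp only [List.all_cons, Bool.and_eq_true, Nat.blt_eq] at hall
        obtain ⟨a, ha⟩ := ih hall.2
        refine ⟨PresentedGroup.of ⟨g, hall.1⟩ * a, ?_⟩
        rw [map_mul, toM_of, ha, List.flatMap_cons, W_append]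
        rfl
    · rintro a b _ _ ⟨x, rfl⟩ ⟨y, rfl⟩
      exact ⟨x * y, map_mul _ _ _⟩
  exact hs.bijective_of_nat_card_le (by rw [show Nat.card M = 898128000 from McL.card_mcl]; exact card_P.2)

end Cfsg.Agent.McLRecog
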