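import Cfsg.Agent.McLRecog.ModelFacts
import Cfsg.Agent.McLRecog.Cover
import Cfsg.Agent.Invol.ZStar
import Cfsg.Agent.Invol.Count

/-!
The isomorphism of the centraliser with that of the model, and fusion of involutions.
-/

set_option autoImplicit false

namespace Cfsg.Agent.McLRecog

open Cfsg Cfsg.Agent.Invol

variable {G : Type*} [Group G] [Finite G]

/-- An identification of the centraliser of `t` with that of the model involution. -/
structure Setting (G : Type*) [Group G] where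
  t : G
  ord : orderOf t = 2
  f : CT →* G
  inj : Function.Injective f
  range : f.range = Subgroup.centralizer {t}
  map_t : f ⟨t₀, mem_CT.mpr rfl⟩ = t

theorem exists_setting (t : G) (ht : orderOf t = 2)
    (hcov : Cfsg.IsNonsplitDoubleCover (Subgroup.centralizer ({t} : Set G)) (alternatingGroup (Fin 8))) :
    ∃ S : Setting G, S.t = t := by
  classical
  obtain ⟨e⟩ := cover_iso McL.centralizer_cover hcov
  let C := Subgroup.centralizer ({t} : Set G)
  let t' : C := ⟨t, Subgroup.mem_centralizer_singleton_iff.2 rfl⟩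
  let z : CT := ⟨t₀, mem_CT.mpr rfl⟩
  have hz : z ∈ Subgroup.center CT := Subgroup.mem_center_iff.2 fun b => Subtype.ext (mem_CT.mp b.2)
  have hez : e z ∈ Subgroup.center C := Subgroup.mem_center_iff.2 fun b => by
    obtain ⟨a, rfl⟩ := e.surjective b
    rw [← map_mul, ← map_mul, Subgroup.mem_center_iff.1 hz a]
  have ht' : t' ∈ Subgroup.center C :=
    Subgroup.mem_center_iff.2 fun b => Subtype.ext (Subgroup.mem_centralizer_singleton_iff.1 b.2)
  have hne : ∀ x : C, x ∈ Subgroup.center C → x ≠ 1 → x = t' := by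
    intro x hx hx1
    obtain ⟨a, b, hab, hset⟩ := Nat.card_eq_two_iff.mp hcov.1
    have all2 : ∀ g : Subgroup.center C, g = a ∨ g = b := fun g => by
      have : g ∈ ({a, b} : Set (Subgroup.center C)) := hset ▸ Set.mem_univ g
      simpa using this
    have h1 : (⟨t', ht'⟩ : Subgroup.center C) ≠ 1 := fun h =>
      Invol.ne_one ht (congrArg (fun g : Subgroup.center C => ((g : C) : G)) h)
    have h2 : (⟨x, hx⟩ : Subgroup.center C) ≠ 1 := fun h => hx1 (congrArg Subtype.val h)
    refine congrArg Subtype.val (show (⟨x, hx⟩ : Subgroup.center C) = ⟨t', ht'⟩ from ?_)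
    rcases all2 ⟨x, hx⟩ with p | p <;> rcases all2 ⟨t', ht'⟩ with q | q <;> rcases all2 1 with r | r <;>
      first
        | exact p.trans q.symm
        | exact absurd (p.trans r.symm) h2
        | exact absurd (q.trans r.symm) h1
  have hz1 : e z ≠ 1 := by
    rw [ne_eq, EmbeddingLike.map_eq_one_iff]
    intro h
    have h' : t₀ = 1 := congrArg Subtype.val h
    have := McL.orderOf_tInv
    rw [show McL.tInv = 1 from h', orderOf_one] at this
    omega
  refine ⟨⟨t, ht, C.subtype.comp e.toMonoidHom, C.subtype_injective.comp e.injective, ?_, ?_⟩, rfl⟩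
  · rw [MonoidHom.range_comp, MonoidHom.range_eq_top.2 e.surjective, ← MonoidHom.range_eq_map,
      Subgroup.range_subtype]
  · show ((e z : C) : G) = t
    rw [hne _ hez hz1]

variable (S : Setting G)

open Classical in
/-- The identification as a function on the model. -/
noncomputable def Setting.fM (x : M) : G := if hx : x ∈ CT then S.f ⟨x, hx⟩ else 1

theorem fM_eq {x : M} (hx : x ∈ CT) : S.fM x = S.f ⟨x, hx⟩ := dif_pos hx

theorem fM_mul {x y : M} (hx : x ∈ CT) (hy : y ∈ CT) : S.fM (x * y) = S.fM x * S.fM y := by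
  rw [fM_eq S hx, fM_eq S hy, fM_eq S (mul_mem hx hy), ← map_mul]; rfl

theorem fM_inv {x : M} (hx : x ∈ CT) : S.fM x⁻¹ = (S.fM x)⁻¹ := by
  rw [fM_eq S hx, fM_eq S (inv_mem hx), ← map_inv]; rfl

theorem fM_one : S.fM 1 = 1 := by rw [fM_eq S CT.one_mem]; exact map_one _

theorem fM_conj {c x : M} (hc : c ∈ CT) (hx : x ∈ CT) :
    S.fM (c * x * c⁻¹) = S.fM c * S.fM x * (S.fM c)⁻¹ := by
  rw [fM_mul S (mul_mem hc hx) (inv_mem hc), fM_mul S hc hx, fM_inv S hc]

theorem fM_inj {x y : M} (hx : x ∈ CT) (hy : y ∈ CT) (h : S.fM x = S.fM y) : x = y := by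
  rw [fM_eq S hx, fM_eq S hy] at h
  exact congrArg Subtype.val (S.inj h)

theorem t₀_CT : t₀ ∈ CT := mem_CT.mpr rfl

theorem fM_t : S.fM t₀ = S.t := (fM_eq S t₀_CT).trans S.map_t

theorem fM_mem {x : M} (hx : x ∈ CT) : S.fM x ∈ Subgroup.centralizer ({S.t} : Set G) := by
  rw [← S.range, fM_eq S hx]; exact ⟨_, rfl⟩

theorem fM_comm {x : M} (hx : x ∈ CT) : S.fM x * S.t = S.t * S.fM x :=
  Subgroup.mem_centralizer_singleton_iff.1 (fM_mem S hx)

theorem exists_fM {g : G} (h : g * S.t = S.t * g) : ∃ x ∈ CT, S.fM x = g := by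
  obtain ⟨⟨x, hx⟩, e⟩ : g ∈ S.f.range := S.range ▸ Subgroup.mem_centralizer_singleton_iff.2 h
  exact ⟨x, hx, (fM_eq S hx).trans e⟩

/-- The image of a subgroup. -/
noncomputable def Setting.im (P : Subgroup M) : Subgroup G := (P.subgroupOf CT).map S.f

theorem mem_im {P : Subgroup M} (hP : P ≤ CT) {g : G} : g ∈ S.im P ↔ ∃ x ∈ P, S.fM x = g := by
  constructor
  · rintro ⟨⟨x, hx⟩, hxP, rfl⟩
    exact ⟨x, hxP, fM_eq S hx⟩
  · rintro ⟨x, hx, rfl⟩
    exact ⟨⟨x, hP hx⟩, hx, (fM_eq S (hP hx)).symm⟩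

theorem card_im {P : Subgroup M} (hP : P ≤ CT) : Nat.card (S.im P) = Nat.card P := by
  rw [Setting.im, Subgroup.card_map_of_injective S.inj,
    Nat.card_congr (Subgroup.subgroupOfEquivOfLe hP).toEquiv]

theorem im_le {P : Subgroup M} (hP : P ≤ CT) {g : G} (hg : g ∈ S.im P) : g * S.t = S.t * g := by
  obtain ⟨x, hx, rfl⟩ := (mem_im S hP).1 hg
  exact fM_comm S (hP hx)

/-- The second involution. -/
noncomputable def Setting.v : G := S.fM v₀

theorem v_order : orderOf S.v = 2 := by
  obtain ⟨h2, h1, -, hc⟩ := v_facts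
  refine orderOf_eq_prime ?_ fun e => h1 (fM_inj S hc CT.one_mem (e.trans (fM_one S).symm))
  rw [pow_two, Setting.v, ← fM_mul S hc hc, h2, fM_one]

theorem invol_cases {i : G} (hi : orderOf i = 2) (hc : i * S.t = S.t * i) :
    i = S.t ∨ IsConj S.v i := by
  obtain ⟨x, hx, rfl⟩ := exists_fM S hc
  have h2 : x * x = 1 := fM_inj S (mul_mem hx hx) CT.one_mem
    (by rw [fM_mul S hx hx, fM_one, Invol.mul_self_eq_one hi])
  rcases invol_CT hx h2 with h | h | ⟨c, hc', h⟩
  · exact absurd (by rw [h, fM_one]) (Invol.ne_one hi)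
  · exact Or.inl (h ▸ fM_t S)
  · exact Or.inr (isConj_iff.2 ⟨S.fM c, by rw [Setting.v, ← fM_conj S hc' v_facts.2.2.2, h]⟩)

/-- Either the involution is isolated, or all involutions are conjugate. -/
theorem dichotomy : (Subgroup.centralizer ({S.t} : Set G) ⊔ Cfsg.oddCore G = ⊤) ∨
    ∀ i : G, orderOf i = 2 → IsConj S.t i := by
  by_cases hv : IsConj S.t S.v
  · right
    have hC : ∀ i : G, orderOf i = 2 → i * S.t = S.t * i → IsConj S.t i := fun i hi hc => by
      rcases invol_cases S hi hc with h | h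
      · rw [h]
      · exact hv.trans h
    intro i hi
    by_contra hne
    obtain ⟨z, hz2, hz⟩ : ∃ z : G, orderOf z = 2 ∧ Commute z S.t ∧ Commute z i := by
      obtain ⟨-, z, hz, h1, h2, -⟩ := Invol.exists_central_of_not_isConj S.ord hi hne
      exact ⟨z, hz, h1, h2⟩
    obtain ⟨g, hg⟩ := isConj_iff.1 (hC z hz2 hz.1.eq).symm
    have hi' : orderOf (g * i * g⁻¹) = 2 := by rw [Invol.orderOf_conj, hi]
    have hcomm : g * i * g⁻¹ * S.t = S.t * (g * i * g⁻¹) := by
      rw [← hg]
      exact ((Commute.conj_iff g).2 hz.2.symm).eq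
    exact hne ((hC _ hi' hcomm).trans (isConj_iff.2 ⟨g, rfl⟩).symm)
  · left
    have hiso : Cfsg.IsIsolatedInvolution S.t := by
      refine ⟨S.ord, fun g hg => ?_⟩
      rcases invol_cases S (by rw [Invol.orderOf_conj, S.ord]) hg.eq.symm with h | h
      · exact h
      · exact absurd ((isConj_iff.2 ⟨g, rfl⟩).trans h.symm) hv
    refine eq_top_iff.2 fun g _ => ?_
    set o := g * S.t * g⁻¹ * S.t⁻¹ with ho
    have hq := Invol.zstar hiso g
    have hoO : o ∈ Cfsg.oddCore G := by
      have := inv_mem hq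
      rw [show (S.t * g * S.t⁻¹ * g⁻¹)⁻¹ = g * S.t * g⁻¹ * S.t⁻¹ by group] at this
      exact this
    have hinv : S.t * o * S.t⁻¹ = o⁻¹ := by
      rw [ho, Invol.inv_eq_self S.ord]
      simp only [mul_inv_rev, inv_inv, Invol.inv_eq_self S.ord, mul_assoc, Invol.mul_self_eq_one S.ord,
        mul_one]
    obtain ⟨k, hk⟩ : ∃ k : ℕ, o ^ (2 * k) = o := by
      have hodd : Odd (orderOf o) := by
        have hd : orderOf o ∣ Nat.card (Cfsg.oddCore G) := by
          rw [← Subgroup.orderOf_mk o hoO]; exact orderOf_dvd_natCard _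
        exact Odd.of_dvd_nat (Nat.coprime_two_right.mp (Core.coprime_card_pPrimeCore (p := 2))) hd
      obtain ⟨m, hm⟩ := hodd
      exact ⟨m + 1, by rw [show 2 * (m + 1) = orderOf o + 1 by omega, pow_succ, pow_orderOf_eq_one, one_mul]⟩
    have hc : (o ^ k)⁻¹ * g ∈ Subgroup.centralizer ({S.t} : Set G) := by
      rw [Subgroup.mem_centralizer_singleton_iff]
      have hgt : g * S.t = o * S.t * g := by rw [ho]; group
      have hkt : S.t * (o ^ k)⁻¹ = o ^ k * S.t := by
        have : S.t * o ^ k * S.t⁻¹ = (o ^ k)⁻¹ := by rw [← conj_pow, hinv, inv_pow]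
        rw [← this, Invol.inv_eq_self S.ord]
        simp only [← mul_assoc, Invol.mul_self_eq_one S.ord, one_mul]
      calc (o ^ k)⁻¹ * g * S.t = (o ^ k)⁻¹ * o * (S.t * g) := by rw [mul_assoc, hgt]; group
        _ = (o ^ k)⁻¹ * o ^ (2 * k) * (S.t * g) := by rw [hk]
        _ = o ^ k * S.t * g := by rw [two_mul, pow_add, inv_mul_cancel_left, mul_assoc]
        _ = S.t * ((o ^ k)⁻¹ * g) := by rw [← hkt]; group
    have e : g = o ^ k * ((o ^ k)⁻¹ * g) := by group
    rw [e]
    exact mul_mem (Subgroup.mem_sup_right (pow_mem hoO k)) (Subgroup.mem_sup_left hc)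

end Cfsg.Agent.McLRecog
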