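import Cfsg.Agent.McLRecog.SideOk
import Cfsg.Agent.McL.Fusion

/-!
What the checks of a side say about the model.
-/

set_option autoImplicit false

namespace Cfsg.Agent.McLRecog

open Cfsg Cfsg.Agent.Compute Cfsg.Agent.StemCert Cfsg.Agent.LeechModel

/-- The centraliser in the model. -/
noncomputable abbrev CT : Subgroup M := McL.centT

/-- The involution of the model. -/
noncomputable abbrev t₀ : M := McL.tInv

/-- The second involution. -/
noncomputable def v₀ : M := W (Data.eEls.getD 2 [])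

variable {S : Side}

/-- An element of the subgroup. -/
noncomputable def Side.el (S : Side) (i : ℕ) : M := W (S.elW i)

/-- A generator: two in the centraliser and one outside. -/
noncomputable def Side.ge (S : Side) (g : ℕ) : M := W ([S.gW 0, S.gW 1, S.a].getD g [])

theorem t₀_eq : W McL.Out.tWord = t₀ := rfl

theorem mem_CT {x : M} : x ∈ CT ↔ x * t₀ = t₀ * x := Subgroup.mem_centralizer_singleton_iff

variable (h : S.Ok)
include h

theorem el_zero : S.el 0 = 1 := by
  have := h.mul; simp only [Side.okMul, Bool.and_eq_true] at this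
  exact (W_eq this.1.1.1.1).trans W_nil

theorem el_one : S.el 1 = t₀ := by
  have := h.mul; simp only [Side.okMul, Bool.and_eq_true] at this
  exact (W_eq this.1.1.1.2).trans t₀_eq

theorem el_two : S.el 2 = v₀ := by
  have := h.mul; simp only [Side.okMul, Bool.and_eq_true] at this
  exact W_eq this.1.1.2

theorem el_mul {i j : ℕ} (hi : i < 16) (hj : j < 16) : S.el i * S.el j = S.el (Nat.xor i j) := by
  have := h.mul; simp only [Side.okMul, Bool.and_eq_true] at this
  exact (W_append _ _).symm.trans (W_eq (allBelow_eq_true.mp (allBelow_eq_true.mp this.2 i hi) j hj))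

theorem el_three : S.el 3 = t₀ * v₀ := by
  rw [← el_one h, ← el_two h, el_mul h (by norm_num) (by norm_num)]; rfl

theorem el_inj {i j : ℕ} (hi : i < 16) (hj : j < 16) (e : S.el i = S.el j) : i = j :=
  congrArg Fin.val (distinctW_spec h.dist (a₁ := ⟨i, hi⟩) (a₂ := ⟨j, hj⟩) e)

theorem el_sq {i : ℕ} (hi : i < 16) : S.el i * S.el i = 1 := by
  rw [el_mul h hi hi, show Nat.xor i i = 0 from Nat.xor_self i, el_zero h]

theorem el_inv {i : ℕ} (hi : i < 16) : (S.el i)⁻¹ = S.el i := inv_eq_of_mul_eq_one_right (el_sq h hi)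

theorem el_comm {i j : ℕ} (hi : i < 16) (hj : j < 16) : S.el i * S.el j = S.el j * S.el i := by
  rw [el_mul h hi hj, el_mul h hj hi, show Nat.xor i j = Nat.xor j i from Nat.xor_comm i j]

omit h in
/-- The elementary subgroup. -/
noncomputable def Side.E (S : Side) (h : S.Ok) : Subgroup M where
  carrier := {x | ∃ i < 16, S.el i = x}
  mul_mem' := by
    rintro _ _ ⟨i, hi, rfl⟩ ⟨j, hj, rfl⟩
    exact ⟨_, xor_lt16 hi hj, (el_mul h hi hj).symm⟩
  one_mem' := ⟨0, by norm_num, el_zero h⟩
  inv_mem' := by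
    rintro _ ⟨i, hi, rfl⟩
    exact ⟨i, hi, (el_inv h hi).symm⟩

theorem mem_E {x : M} : x ∈ S.E h ↔ ∃ i < 16, S.el i = x := Iff.rfl

theorem el_mem {i : ℕ} (hi : i < 16) : S.el i ∈ S.E h := ⟨i, hi, rfl⟩

theorem card_E : Nat.card (S.E h) = 16 := by
  let f : Fin 16 → S.E h := fun i => ⟨S.el i, el_mem h i.2⟩
  have : Function.Bijective f :=
    ⟨fun i j e => Fin.ext (el_inj h i.2 j.2 (congrArg Subtype.val e)),
      fun ⟨_, i, hi, e⟩ => ⟨⟨i, hi⟩, Subtype.ext e⟩⟩
  rw [← Nat.card_congr (Equiv.ofBijective f this), Nat.card_fin]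

theorem E_le_CT : S.E h ≤ CT := by
  rintro _ ⟨i, hi, rfl⟩
  rw [mem_CT, ← el_one h]
  exact el_comm h hi (by norm_num)

theorem el_syl {i : ℕ} (hi : i < 16) : S.pl.getD i 128 < 128 ∧ McL.sylEl (S.pl.getD i 128) = S.el i := by
  have := h.pl; simp only [Side.okPl, Bool.and_eq_true] at this
  have := allBelow_eq_true.mp this.1 i hi
  simp only [Bool.and_eq_true, Nat.blt_eq] at this
  exact ⟨this.1, (W_eq this.2).symm⟩

theorem E_le_syl : S.E h ≤ McL.sylTwo := by
  rintro _ ⟨i, hi, rfl⟩
  exact McL.mem_sylTwo.mpr ⟨_, el_syl h hi⟩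

theorem syl_normalizes {s : M} (hs : s ∈ McL.sylTwo) {e : M} (he : e ∈ S.E h) :
    s * e * s⁻¹ ∈ S.E h := by
  have key : ∀ s ∈ McL.sylTwo, ∀ e ∈ S.E h, s * e * s⁻¹ ∈ S.E h ∧ s⁻¹ * e * s ∈ S.E h := by
    intro s hs
    refine Subgroup.closure_induction
      (p := fun s _ => ∀ e ∈ S.E h, s * e * s⁻¹ ∈ S.E h ∧ s⁻¹ * e * s ∈ S.E h) ?_ ?_ ?_ ?_ hs
    · rintro _ ⟨g, hg, rfl⟩
      have fwd : ∀ e ∈ S.E h, McL.sylGe g * e * (McL.sylGe g)⁻¹ ∈ S.E h := by
        rintro _ ⟨i, hi, rfl⟩
        have := h.pl; simp only [Side.okPl, Bool.and_eq_true] at this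
        have := allBelow_eq_true.mp (allBelow_eq_true.mp this.2 g (McL.sylGens_length ▸ hg)) i hi
        simp only [Bool.and_eq_true, Nat.blt_eq] at this
        exact ⟨_, this.1, (W_conj_eq this.2).symm⟩
      intro e he
      refine ⟨fwd e he, ?_⟩
      let f : S.E h → S.E h := fun e => ⟨_, fwd e.1 e.2⟩
      have hinj : Function.Injective f := fun a b e =>
        Subtype.ext (mul_left_cancel (mul_right_cancel (congrArg Subtype.val e)))
      obtain ⟨⟨c, hc⟩, hce⟩ := Finite.injective_iff_surjective.mp hinj ⟨e, he⟩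
      have : McL.sylGe g * c * (McL.sylGe g)⁻¹ = e := congrArg Subtype.val hce
      rw [← this]
      simpa [mul_assoc] using hc
    · intro e he; simpa using he
    · intro a b _ _ ha hb e he
      refine ⟨?_, ?_⟩
      · simpa [mul_assoc] using (ha _ (hb e he).1).1
      · simpa [mul_assoc] using (hb _ (ha e he).2).2
    · intro a _ ha e he
      rw [inv_inv]
      exact (ha e he).symm
  exact (key s hs e he).1

omit h in
/-- The complement in the centraliser. -/
noncomputable def Side.L (S : Side) : Subgroup M := genSub S.gens 2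

theorem mem_L {x : M} : x ∈ S.L ↔ ∃ i < 168, W (S.lW i) = x := by
  have := h.l; simp only [Side.okL, Bool.and_eq_true] at this
  exact mem_table (by norm_num) this.1.1.1.1.1

omit h in
theorem ge_mem_L {g : ℕ} (hg : g < 2) : S.ge g ∈ S.L := by
  interval_cases g <;> exact gen_mem (by norm_num)

theorem card_L : Nat.card S.L = 168 := by
  have := h.l; simp only [Side.okL, Bool.and_eq_true] at this
  show Nat.card (S.L : Set M) = _
  rw [Side.L, tableB_spec (by norm_num) this.1.1.1.1.1,
    Nat.card_range_of_injective (distinctW_spec this.1.1.1.1.2), Nat.card_fin]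

theorem conjs_ge {g : ℕ} (hg : g < 3) : Conjs S.el (S.ge g) (S.act.getD g 0) := by
  refine conjs_of_basis S.el (el_zero h) (fun i hi j hj => el_mul h hi hj) fun i hi => ?_
  have := h.l; simp only [Side.okL, Bool.and_eq_true] at this
  rcases Nat.lt_succ_iff_lt_or_eq.mp hg with hg2 | rfl
  · have h2 := allBelow_eq_true.mp this.1.1.1.2 g hg2
    simp only [Bool.and_eq_true] at h2
    have h3 := W_conj_eq (allBelow_eq_true.mp h2.2 i hi)
    interval_cases g <;> exact h3
  · exact W_conj_eq (allBelow_eq_true.mp this.1.1.2 i hi)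

theorem ge_CT {g : ℕ} (hg : g < 2) : S.ge g ∈ CT := by
  have := h.l; simp only [Side.okL, Bool.and_eq_true] at this
  have h2 := allBelow_eq_true.mp this.1.1.1.2 g hg
  simp only [Bool.and_eq_true] at h2
  have h3 := W_eq h2.1
  rw [W_append, W_append] at h3
  rw [mem_CT]
  interval_cases g <;> exact h3

theorem L_le_CT : S.L ≤ CT := (Subgroup.closure_le _).mpr fun _ ⟨g, hg, e⟩ => by
  subst e
  have h1 : g < 2 := hg
  interval_cases g
  · exact ge_CT h (g := 0) (by norm_num)
  · exact ge_CT h (g := 1) (by norm_num)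

/-- The third generator is the outer element up to the subgroup. -/
theorem ge_two : S.ai < 16 ∧ S.ge 2 = S.el S.ai * W Data.xW := by
  have := h.l; simp only [Side.okL, Bool.and_eq_true, Nat.blt_eq] at this
  exact ⟨this.2, (W_eq this.1.2).trans (W_append _ _)⟩

omit h in
/-- The group generated by the subgroup and the complement in the centraliser. -/
noncomputable def Side.NC (S : Side) (h : S.Ok) : Subgroup M := S.E h ⊔ S.L

theorem NC_le_CT : S.NC h ≤ CT := sup_le (E_le_CT h) (L_le_CT h)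

theorem L_normalizes {l : M} (hl : l ∈ S.L) {e : M} (he : e ∈ S.E h) : l * e * l⁻¹ ∈ S.E h := by
  have key : ∀ l ∈ S.L, ∀ e ∈ S.E h, l * e * l⁻¹ ∈ S.E h := by
    intro l hl
    refine Subgroup.closure_induction_left (p := fun l _ => ∀ e ∈ S.E h, l * e * l⁻¹ ∈ S.E h) ?_ ?_ ?_ hl
    · intro e he; simpa using he
    · rintro _ ⟨g, hg, rfl⟩ y _ hy e he
      obtain ⟨i, hi, e'⟩ := hy e he
      refine ⟨_, app_lt (S.act.getD g 0) i, ?_⟩
      have h1 : g < 2 := hg
      have hg' : W (S.gens.getD g []) = S.ge g := by interval_cases g <;> rfl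
      beta_reduce
      rw [hg', ← conjs_ge h (by omega) i hi, e']
      group
    · rintro _ ⟨g, hg, rfl⟩ y _ hy e he
      have h1 : g < 2 := hg
      have hg' : W (S.gens.getD g []) = S.ge g := by interval_cases g <;> rfl
      beta_reduce
      rw [hg']
      let f : S.E h → S.E h := fun c => ⟨S.ge g * c * (S.ge g)⁻¹, by
        obtain ⟨i, hi, e⟩ := c.2
        exact ⟨_, app_lt (S.act.getD g 0) i, by rw [← e, conjs_ge h (by omega) i hi]⟩⟩
      have hinj : Function.Injective f := fun a b e =>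
        Subtype.ext (mul_left_cancel (mul_right_cancel (congrArg Subtype.val e)))
      obtain ⟨⟨c, hc⟩, hce⟩ := Finite.injective_iff_surjective.mp hinj ⟨_, hy e he⟩
      have hce' : S.ge g * c * (S.ge g)⁻¹ = y * e * y⁻¹ := congrArg Subtype.val hce
      have : (S.ge g)⁻¹ * y * e * ((S.ge g)⁻¹ * y)⁻¹ = c := by
        rw [show (S.ge g)⁻¹ * y * e * ((S.ge g)⁻¹ * y)⁻¹ = (S.ge g)⁻¹ * (y * e * y⁻¹) * S.ge g by group,
          ← hce']
        group
      rw [this]; exact hc
  exact key l hl e he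

theorem L_disj {x : M} (hx : x ∈ S.L) (hx' : x ∈ S.E h) : x = 1 := by
  obtain ⟨i, hi, rfl⟩ := (mem_L h).mp hx
  obtain ⟨j, hj, e⟩ := hx'
  have := allBelow_eq_true.mp h.disj i hi
  simp only [Bool.or_eq_true, Nat.beq_eq] at this
  rcases this with rfl | this
  · have h1 := h.l; simp only [Side.okL, Bool.and_eq_true, tableB] at h1
    exact (W_eq h1.1.1.1.1.1.1).trans W_nil
  · exact absurd e.symm (W_ne (allBelow_eq_true.mp this j hj))

omit h in
/-- An element normalises the subgroup. -/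
def Side.Nz (S : Side) (h : S.Ok) (c : M) : Prop := ∀ e, e ∈ S.E h ↔ c * e * c⁻¹ ∈ S.E h

theorem nz_NC {c : M} (hc : c ∈ CT) (hn : ∀ e ∈ S.E h, c * e * c⁻¹ ∈ S.E h) :
    ∃ e ∈ S.E h, ∃ l ∈ S.L, c = e * l := by
  have hnc := h.nc
  let cj : ℕ → M := fun j => W (S.nconj.getD j [])
  have spec : ∀ j < 15, cj j ∈ CT ∧ (cj j)⁻¹ = W (S.nconjI.getD j []) := by
    intro j hj
    have := allBelow_eq_true.mp hnc j hj
    simp only [Bool.and_eq_true] at this
    refine ⟨?_, (W_inv this.1.2).symm⟩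
    rw [mem_CT]
    have h2 := W_eq this.1.1
    rwa [W_append, W_append] at h2
  have sep : ∀ j < 15, ∀ k < 15, j ≠ k → ∃ e ∈ S.E h, ∀ e' ∈ S.E h,
      cj j * e * (cj j)⁻¹ ≠ cj k * e' * (cj k)⁻¹ := by
    intro j hj k hk hjk
    have := allBelow_eq_true.mp hnc j hj
    simp only [Bool.and_eq_true] at this
    have := allBelow_eq_true.mp this.2 k hk
    simp only [Bool.or_eq_true, Nat.beq_eq, Bool.and_eq_true, Nat.blt_eq] at this
    obtain ⟨hw, hall⟩ := this.resolve_left hjk
    refine ⟨_, el_mem h hw, ?_⟩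
    rintro _ ⟨i, hi, rfl⟩
    have := W_ne (allBelow_eq_true.mp hall i hi)
    rw [W_append, W_append, W_append, W_append, ← (spec j hj).2, ← (spec k hk).2] at this
    simpa [cj, Side.el, mul_assoc] using this
  let P := Fin 15 × S.E h × S.L
  let f : P → CT := fun p => ⟨cj p.1 * ((p.2.1 : M) * p.2.2),
    mul_mem (spec _ p.1.2).1 (mul_mem (E_le_CT h p.2.1.2) (L_le_CT h p.2.2.2))⟩
  have hELn : ∀ (e : S.E h) (l : S.L), ∀ y ∈ S.E h, ((e : M) * l) * y * ((e : M) * l)⁻¹ ∈ S.E h := by
    intro e l y hy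
    rw [show (e : M) * l * y * ((e : M) * l)⁻¹ = e * (l * y * (l : M)⁻¹) * (e : M)⁻¹ by group]
    exact mul_mem (mul_mem e.2 (L_normalizes h l.2 hy)) (inv_mem e.2)
  have hinj : Function.Injective f := by
    rintro ⟨j, e, l⟩ ⟨k, e', l'⟩ he
    have he' : cj j * ((e : M) * l) = cj k * ((e' : M) * l') := congrArg Subtype.val he
    have hjk : j = k := by
      by_contra hne
      obtain ⟨y, hy, hyne⟩ := sep j j.2 k k.2 fun hh => hne (Fin.ext hh)
      -- `cj j = cj k * (e' * l') * (e * l)⁻¹`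
      have h1 : cj j = cj k * (((e' : M) * l') * ((e : M) * l)⁻¹) := by
        rw [← mul_assoc, ← he', mul_inv_cancel_right]
      have hy1 : ((e : M) * l)⁻¹ * y * ((e : M) * l) ∈ S.E h := by
        let g : S.E h → S.E h := fun c => ⟨_, hELn e l c c.2⟩
        have hg : Function.Injective g := fun a b e =>
          Subtype.ext (mul_left_cancel (mul_right_cancel (congrArg Subtype.val e)))
        obtain ⟨⟨c, hc⟩, hce⟩ := Finite.injective_iff_surjective.mp hg ⟨y, hy⟩
        have : ((e : M) * l) * c * ((e : M) * l)⁻¹ = y := congrArg Subtype.val hce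
        rw [← this]
        simpa [mul_assoc] using hc
      refine hyne _ (hELn e' l' _ hy1) ?_
      rw [h1]; group
    subst hjk
    have h2 : (e : M) * l = e' * l' := mul_left_cancel he'
    have h3 : (e' : M)⁻¹ * e = l' * (l : M)⁻¹ := by
      rw [inv_mul_eq_iff_eq_mul, ← mul_assoc, ← h2, mul_inv_cancel_right]
    have h4 := L_disj h (h3 ▸ mul_mem l'.2 (inv_mem l.2)) (mul_mem (inv_mem e'.2) e.2)
    have hee : e = e' := Subtype.ext (inv_mul_eq_one.mp h4).symm
    subst hee
    have : l = l' := Subtype.ext (mul_left_cancel h2)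
    subst this
    rfl
  have hcard : Nat.card P = Nat.card CT := by
    simp only [P, Nat.card_prod, Nat.card_fin, card_E h, card_L h]
    exact McL.card_centralizer.symm
  obtain ⟨⟨j, e, l⟩, hp⟩ := ((Nat.bijective_iff_injective_and_card f).mpr ⟨hinj, hcard⟩).2 ⟨c, hc⟩
  have hp' : cj j * ((e : M) * l) = c := congrArg Subtype.val hp
  by_cases hj0 : (j : ℕ) = 0
  · refine ⟨e, e.2, l, l.2, ?_⟩
    rw [← hp', show cj j = 1 by simp only [cj, hj0, h.first]; rfl, one_mul]
  · exfalso
    obtain ⟨y, hy, hyne⟩ := sep j j.2 0 (by norm_num) hj0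
    have hy1 : ((e : M) * l)⁻¹ * y * ((e : M) * l) ∈ S.E h := by
      let g : S.E h → S.E h := fun c => ⟨_, hELn e l c c.2⟩
      have hg : Function.Injective g := fun a b e =>
        Subtype.ext (mul_left_cancel (mul_right_cancel (congrArg Subtype.val e)))
      obtain ⟨⟨z, hz⟩, hze⟩ := Finite.injective_iff_surjective.mp hg ⟨y, hy⟩
      have : ((e : M) * l) * z * ((e : M) * l)⁻¹ = y := congrArg Subtype.val hze
      rw [← this]
      simpa [mul_assoc] using hz
    refine hyne _ (hn _ hy1) ?_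
    rw [show cj 0 = 1 by simp only [cj, h.first]; rfl, ← hp']
    group

theorem orbit_v {i : ℕ} (hi : i < 16) (h2 : 2 ≤ i) : ∃ l ∈ S.L, l * v₀ * l⁻¹ = S.el i := by
  have := allBelow_eq_true.mp h.orbit (i - 2) (by omega)
  rw [show Nat.add (i - 2) 2 = i by show i - 2 + 2 = i; omega] at this
  simp only [Bool.and_eq_true, Nat.blt_eq] at this
  refine ⟨_, (mem_L h).mpr ⟨_, this.1, rfl⟩, ?_⟩
  rw [← el_two h]
  exact W_conj_eq this.2

theorem memW_mem {i : ℕ} (hi : i < 6) : W (S.memW i) ∈ S.NC h := by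
  have := allBelow_eq_true.mp h.mem i hi
  simp only [Bool.and_eq_true, Nat.blt_eq] at this
  rw [W_eq this.2, W_append]
  exact Subgroup.mul_mem_sup (el_mem h this.1.1) ((mem_L h).mpr ⟨_, this.1.2, rfl⟩)

theorem compl_conj (B : Subgroup M) (hB : ∀ x ∈ B, x ∈ S.E h → x = 1)
    (hlift : ∀ g < 2, ∃ e ∈ S.E h, e * S.ge g ∈ B) :
    ∃ k ∈ S.E h, ∀ g < 2, k * S.ge g * k⁻¹ ∈ B := by
  obtain ⟨_, ⟨i, hi, rfl⟩, h0⟩ := hlift 0 (by norm_num)
  obtain ⟨_, ⟨j, hj, rfl⟩, h1⟩ := hlift 1 (by norm_num)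
  have hc := h.comp; simp only [Side.okComp, Bool.and_eq_true] at hc
  have := allBelow_eq_true.mp (allBelow_eq_true.mp hc.2 i hi) j hj
  rw [forceN_eq, forceN_eq] at this
  simp only [Bool.or_eq_true, Bool.and_eq_true, Nat.blt_eq, Nat.ble_eq, Bool.not_eq_true',
    ← Bool.not_eq_true, Nat.beq_eq] at this
  rcases this with ⟨⟨hc16, e0⟩, e1⟩ | ⟨⟨⟨⟨hc20, hc16⟩, he⟩, hne⟩, hrel⟩
  · refine ⟨_, el_mem h hc16, fun g hg => ?_⟩
    rw [el_inv h hc16]
    interval_cases g
    · have := W_eq e0; simp only [W_append] at this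
      rw [mul_assoc]
      exact (show S.el _ * (S.ge 0 * S.el _) = S.el i * S.ge 0 from this) ▸ h0
    · have := W_eq e1; simp only [W_append] at this
      rw [mul_assoc]
      exact (show S.el _ * (S.ge 1 * S.el _) = S.el j * S.ge 1 from this) ▸ h1
  · exfalso
    have key : ∀ r : List ℕ, (∀ s ∈ r, s < 2) → W (S.relW i j r) ∈ B := by
      intro r
      induction r with
      | nil => intro _; exact B.one_mem
      | cons s r ih =>
        intro hs
        have hs2 : s < 2 := hs s (by simp)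
        have hr := ih fun q hq => hs q (List.mem_cons_of_mem _ hq)
        have e : S.relW i j (s :: r) =
            S.elW (Bool.rec (motive := fun _ => ℕ) j i (Nat.beq s 0)) ++ (S.gW s ++ S.relW i j r) := rfl
        rw [e, W_append, W_append, ← mul_assoc]
        interval_cases s
        · exact mul_mem (show W (S.elW i) * W (S.gW 0) ∈ B from h0) hr
        · exact mul_mem (show W (S.elW j) * W (S.gW 1) ∈ B from h1) hr
    have hmem := key _ fun s hs => Nat.blt_eq.mp (allB_spec (allBelow_eq_true.mp hc.1 _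
      (show Nat.sub ((S.comp.getD i []).getD j (20, 0)).1 16 < 4 by
        show ((S.comp.getD i []).getD j (20, 0)).1 - 16 < 4
        omega)) s hs)
    rw [W_eq hrel] at hmem
    have := hB _ hmem (el_mem h he)
    exact hne (el_inj h he (by norm_num) (this.trans (el_zero h).symm))

omit h in
/-- The complement. -/
noncomputable def Side.A (S : Side) : Subgroup M := Subgroup.closure (S.ge '' {g | g < 3})

omit h in
theorem ge_mem_A {g : ℕ} (hg : g < 3) : S.ge g ∈ S.A := Subgroup.subset_closure ⟨g, hg, rfl⟩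

theorem A_disj {x : M} (hx : x ∈ S.A) (hx' : x ∈ S.E h) : x = 1 := by
  have hl := h.lab; simp only [Side.okLab, Bool.and_eq_true] at hl
  have hgl : ∀ g < 3, ∀ s ∈ [S.gW 0, S.gW 1, S.a].getD g [], s < 6 := by
    intro g hg
    interval_cases g
    · exact lt_six (allBelow_eq_true.mp hl.1.2 0 (by norm_num))
    · exact lt_six (allBelow_eq_true.mp hl.1.2 1 (by norm_num))
    · exact lt_six hl.1.1.2
  have hfix : ∀ p : Fin 275, getField 9 S.label (McL.ι x p) = getField 9 S.label p := by
    refine Subgroup.closure_induction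
      (p := fun x _ => ∀ p : Fin 275, getField 9 S.label (McL.ι x p) = getField 9 S.label p)
      ?_ (by simp) ?_ ?_ hx
    · rintro _ ⟨g, hg, rfl⟩ p
      have := allBelow_eq_true.mp (allBelow_eq_true.mp hl.1.1.1.1 g hg) p p.2
      rw [Nat.beq_eq, ← appW_spec McL.coded _ (hgl g hg) p] at this
      exact this
    · intro a b _ _ ha hb p
      rw [map_mul, Equiv.Perm.mul_apply, ha, hb]
    · intro a _ ha p
      have := ha (McL.ι a⁻¹ p)
      rw [← Equiv.Perm.mul_apply, ← map_mul, mul_inv_cancel, map_one, Equiv.Perm.one_apply] at this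
      exact this.symm
  obtain ⟨k, hk, rfl⟩ := hx'
  rcases k with _ | k
  · exact el_zero h
  · exfalso
    have := allBelow_eq_true.mp hl.1.1.1.2 k (by omega)
    simp only [Bool.and_eq_true, Nat.blt_eq, Bool.not_eq_true', ← Bool.not_eq_true, Nat.beq_eq] at this
    obtain ⟨hp, hne⟩ := this
    refine hne ?_
    rw [← appW_spec McL.coded _ (lt_six (allBelow_eq_true.mp hl.2 _ hk)) ⟨_, hp⟩]
    exact hfix ⟨_, hp⟩

theorem conjs_w {n : ℕ} (hn : n < 192) : Conjs S.el (W (Data.wEls.getD n [])) (S.wacts.getD n 0) := by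
  refine conjs_of_basis S.el (el_zero h) (fun i hi j hj => el_mul h hi hj) fun i hi => ?_
  have := h.acts; simp only [Side.okAct, Bool.and_eq_true] at this
  exact W_conj_eq (allBelow_eq_true.mp (allBelow_eq_true.mp this.1 n hn) i hi)

theorem conjs_wg {n : ℕ} (hn : n < 3) : Conjs S.el (W (Data.wGens.getD n [])) (S.wgacts.getD n 0) := by
  refine conjs_of_basis S.el (el_zero h) (fun i hi j hj => el_mul h hi hj) fun i hi => ?_
  have := h.acts; simp only [Side.okAct, Bool.and_eq_true] at this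
  exact W_conj_eq (allBelow_eq_true.mp (allBelow_eq_true.mp this.2 n hn) i hi)

end Cfsg.Agent.McLRecog
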