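import Cfsg.Agent.McLRecog.Check

/-!
Both sides pass the checks.
-/

set_option autoImplicit false
set_option maxRecDepth 100000
set_option maxHeartbeats 0
set_option Elab.async false

namespace Cfsg.Agent.McLRecog

theorem sideE_ok : sideE.Ok where
  mul := by decide +kernel
  pl := by decide +kernel
  dist := by decide +kernel
  l := by decide +kernel
  disj := by decide +kernel
  mem := by decide +kernel
  orbit := by decide +kernel
  nc := by decide +kernel
  first := rfl
  comp := by decide +kernel
  lab := by decide +kernel
  acts := by decide +kernel
  cand := by decide +kernel

theorem sideF_ok : sideF.Ok where
  mul := by decide +kernel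
  pl := by decide +kernel
  dist := by decide +kernel
  l := by decide +kernel
  disj := by decide +kernel
  mem := by decide +kernel
  orbit := by decide +kernel
  nc := by decide +kernel
  first := rfl
  comp := by decide +kernel
  lab := by decide +kernel
  acts := by decide +kernel
  cand := by decide +kernel

end Cfsg.Agent.McLRecog
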