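import Cfsg.Agent.McL.Centralizer

/-!
Elements of the model given by words, with decidable equality and finite tables.
-/

set_option autoImplicit false

namespace Cfsg.Agent.McLRecog

open Cfsg Cfsg.Agent.Compute Cfsg.Agent.StemCert Cfsg.Agent.LeechModel

/-- The model. -/
abbrev M : Type := ↥Spor.McL

/-- The element of a word. -/
noncomputable def W (w : List ℕ) : M := evalW McL.gen w

/-- A checked equality of words. -/
noncomputable def eqW (a b : List ℕ) : Bool :=
  allB (fun s => Nat.blt s 6) a && allB (fun s => Nat.blt s 6) b &&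
    eqOn 9 McL.Model.codes McL.Model.base a b

/-- A checked inequality of words. -/
noncomputable def neW (a b : List ℕ) : Bool :=
  allB (fun s => Nat.blt s 6) a && allB (fun s => Nat.blt s 6) b &&
    !eqOn 9 McL.Model.codes McL.Model.base a b

theorem lt_six {a : List ℕ} (h : allB (fun s => Nat.blt s 6) a = true) : ∀ s ∈ a, s < 6 :=
  fun s hs => Nat.blt_eq.mp (allB_spec h s hs)

theorem W_nil : W [] = 1 := rfl

theorem W_append (a b : List ℕ) : W (a ++ b) = W a * W b := evalW_append _ a b

theorem W_eq {a b : List ℕ} (h : eqW a b = true) : W a = W b := by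
  simp only [eqW, Bool.and_eq_true] at h
  exact eq_of_eqOn McL.coded McL.base_isBase (lt_six h.1.1) (lt_six h.1.2) h.2

theorem W_ne {a b : List ℕ} (h : neW a b = true) : W a ≠ W b := by
  simp only [neW, Bool.and_eq_true, Bool.not_eq_true'] at h
  intro e
  have : eqOn 9 McL.Model.codes McL.Model.base a b = true := by
    refine allB_of_forall fun p hp => ?_
    rw [Nat.beq_eq, ← appW_spec McL.coded a (lt_six h.1.1) ⟨p, McL.base_isBase.1 p hp⟩,
      ← appW_spec McL.coded b (lt_six h.1.2) ⟨p, McL.base_isBase.1 p hp⟩]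
    show (McL.ι (W a) _ : ℕ) = (McL.ι (W b) _ : ℕ)
    rw [e]
  rw [h.2] at this
  exact Bool.noConfusion this

theorem eqW_complete {a b : List ℕ} (ha : allB (fun s => Nat.blt s 6) a = true)
    (hb : allB (fun s => Nat.blt s 6) b = true) (h : W a = W b) : eqW a b = true := by
  simp only [eqW, Bool.and_eq_true]
  refine ⟨⟨ha, hb⟩, allB_of_forall fun p hp => ?_⟩
  rw [Nat.beq_eq, ← appW_spec McL.coded a (lt_six ha) ⟨p, McL.base_isBase.1 p hp⟩,
    ← appW_spec McL.coded b (lt_six hb) ⟨p, McL.base_isBase.1 p hp⟩]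
  show (McL.ι (W a) _ : ℕ) = (McL.ι (W b) _ : ℕ)
  rw [h]

theorem letters_append {a b : List ℕ} (ha : allB (fun s => Nat.blt s 6) a = true)
    (hb : allB (fun s => Nat.blt s 6) b = true) : allB (fun s => Nat.blt s 6) (a ++ b) = true :=
  allB_of_forall fun s hs => (List.mem_append.mp hs).elim (allB_spec ha s) (allB_spec hb s)

theorem letters_getD {ls : List (List ℕ)} (h : allB (fun u => allB (fun s => Nat.blt s 6) u) ls = true)
    (i : ℕ) : allB (fun s => Nat.blt s 6) (ls.getD i []) = true := by
  by_cases hi : i < ls.length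
  · rw [List.getD_eq_getElem _ _ hi]; exact allB_spec h _ (List.getElem_mem hi)
  · rw [List.getD_eq_default _ _ (by omega)]; rfl

theorem W_conj_eq {c a b : List ℕ} (h : eqW (c ++ a) (b ++ c) = true) :
    W c * W a * (W c)⁻¹ = W b := by
  have := W_eq h
  rw [W_append, W_append] at this
  rw [this, mul_inv_cancel_right]

theorem W_inv {c ci : List ℕ} (h : eqW (c ++ ci) [] = true) : W ci = (W c)⁻¹ := by
  have := W_eq h
  rw [W_append, W_nil] at this
  exact eq_inv_of_mul_eq_one_right this

/-- The key of a word. -/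
noncomputable def key (a : List ℕ) : ℕ := wordKey 9 McL.Model.codes McL.Model.base a

theorem key_congr {a b : List ℕ} (ha : allB (fun s => Nat.blt s 6) a = true)
    (hb : allB (fun s => Nat.blt s 6) b = true) (h : W a = W b) : key a = key b := by
  have : ∀ p ∈ McL.Model.base, appW 9 McL.Model.codes a p = appW 9 McL.Model.codes b p := fun p hp => by
    rw [← appW_spec McL.coded a (lt_six ha) ⟨p, McL.base_isBase.1 p hp⟩,
      ← appW_spec McL.coded b (lt_six hb) ⟨p, McL.base_isBase.1 p hp⟩]
    show (McL.ι (W a) _ : ℕ) = (McL.ι (W b) _ : ℕ)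
    rw [h]
  unfold key
  generalize McL.Model.base = pts at this
  induction pts with
  | nil => rfl
  | cons p ps ih =>
    show Nat.add (appW 9 McL.Model.codes a p) (Nat.shiftLeft (wordKey 9 McL.Model.codes ps a) 9) =
      Nat.add (appW 9 McL.Model.codes b p) (Nat.shiftLeft (wordKey 9 McL.Model.codes ps b) 9)
    rw [this p (by simp), ih fun q hq => this q (List.mem_cons_of_mem _ hq)]

/-- All keys of the listed words differ. -/
noncomputable def distinctW (n : ℕ) (ls : List (List ℕ)) : Bool :=
  allB (fun u => allB (fun s => Nat.blt s 6) u) ls &&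
    allBelow n (fun i => forceN (key (ls.getD i [])) fun k =>
      allBelow i fun j => !Nat.beq (key (ls.getD j [])) k)

theorem distinctW_spec {n : ℕ} {ls : List (List ℕ)} (h : distinctW n ls = true) :
    Function.Injective (fun i : Fin n => W (ls.getD i [])) := by
  simp only [distinctW, Bool.and_eq_true] at h
  have hl : ∀ i, allB (fun s => Nat.blt s 6) (ls.getD i []) = true := fun i => by
    by_cases hi : i < ls.length
    · rw [List.getD_eq_getElem _ _ hi]; exact allB_spec h.1 _ (List.getElem_mem hi)
    · rw [List.getD_eq_default _ _ (by omega)]; rfl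
  intro i j e
  have hk := key_congr (hl i) (hl j) e
  rcases Nat.lt_trichotomy (i : ℕ) j with hlt | heq | hgt
  · exfalso
    have := allBelow_eq_true.mp h.2 j j.2
    rw [forceN_eq] at this
    have := allBelow_eq_true.mp this i hlt
    rw [hk] at this
    simp at this
  · exact Fin.ext heq
  · exfalso
    have := allBelow_eq_true.mp h.2 i i.2
    rw [forceN_eq] at this
    have := allBelow_eq_true.mp this j hgt
    rw [hk] at this
    simp at this

/-- A table of the group generated by some words. -/
noncomputable def tableB (els gens next : List (List ℕ)) (tree : List (ℕ × ℕ)) (n k : ℕ) : Bool :=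
  eqW (els.getD 0 []) [] && allBelow n fun i =>
    allBelow k (fun g => Nat.blt ((next.getD i []).getD g 0) n &&
      eqW (gens.getD g [] ++ els.getD i []) (els.getD ((next.getD i []).getD g 0) [])) &&
    (Nat.beq i 0 || (Nat.blt (tree.getD i (0, 0)).1 i && Nat.blt (tree.getD i (0, 0)).2 k &&
      Nat.beq ((next.getD (tree.getD i (0, 0)).1 []).getD (tree.getD i (0, 0)).2 0) i))

/-- The subgroup generated by the first `k` words. -/
noncomputable def genSub (gens : List (List ℕ)) (k : ℕ) : Subgroup M :=
  Subgroup.closure ((fun g => W (gens.getD g [])) '' {g | g < k})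

theorem gen_mem {gens : List (List ℕ)} {k g : ℕ} (hg : g < k) : W (gens.getD g []) ∈ genSub gens k :=
  Subgroup.subset_closure ⟨g, hg, rfl⟩

theorem tableB_spec {els gens next : List (List ℕ)} {tree : List (ℕ × ℕ)} {n k : ℕ} (hn : 0 < n)
    (h : tableB els gens next tree n k = true) :
    (genSub gens k : Set M) = Set.range fun i : Fin n => W (els.getD i []) := by
  classical
  simp only [tableB, Bool.and_eq_true] at h
  obtain ⟨h0, hall⟩ := h
  let el : Fin n → M := fun i => W (els.getD i [])
  have hel0 : el ⟨0, hn⟩ = 1 := (W_eq h0).trans W_nil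
  have hrow := fun i hi => allBelow_eq_true.mp hall i hi
  have hstep : ∀ i : Fin n, ∀ g < k, ∃ j : Fin n,
      (next.getD i []).getD g 0 = j ∧ W (gens.getD g []) * el i = el j := by
    intro i g hg
    have hi := hrow i i.2
    simp only [Bool.and_eq_true] at hi
    have hg' := allBelow_eq_true.mp hi.1 g hg
    simp only [Bool.and_eq_true, Nat.blt_eq] at hg'
    refine ⟨⟨_, hg'.1⟩, rfl, ?_⟩
    have := W_eq hg'.2
    rwa [W_append] at this
  have hmem : ∀ i (hi : i < n), el ⟨i, hi⟩ ∈ genSub gens k := by
    intro i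
    induction i using Nat.strong_induction_on with
    | _ i ih =>
      intro hi
      have hh := hrow i hi
      simp only [Bool.and_eq_true, Bool.or_eq_true, Nat.beq_eq, Nat.blt_eq] at hh
      rcases hh.2 with rfl | ⟨⟨hp, hg⟩, he⟩
      · rw [hel0]; exact one_mem _
      · obtain ⟨j, hj, e⟩ := hstep ⟨_, hp.trans hi⟩ _ hg
        have : j = ⟨i, hi⟩ := Fin.ext (hj.symm.trans he)
        rw [← this, ← e]
        exact mul_mem (gen_mem hg) (ih _ hp (hp.trans hi))
  refine Set.Subset.antisymm (fun z hz => ?_) (by rintro _ ⟨i, rfl⟩; exact hmem i i.2)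
  have key : ∀ g < k, ∀ y ∈ Set.range el, W (gens.getD g []) * y ∈ Set.range el := by
    rintro g hg _ ⟨i, rfl⟩
    obtain ⟨j, -, e⟩ := hstep i g hg
    exact ⟨j, e.symm⟩
  refine Subgroup.closure_induction_left (p := fun z _ => z ∈ Set.range el) ⟨_, hel0⟩ ?_ ?_ hz
  · rintro _ ⟨g, hg, rfl⟩ y _ hy
    exact key g hg y hy
  · rintro _ ⟨g, hg, rfl⟩ y _ ⟨i, rfl⟩
    have hinj : Function.Injective fun v : Set.range el =>
        (⟨W (gens.getD g []) * v, key g hg v v.2⟩ : Set.range el) :=
      fun u v e => Subtype.ext (mul_left_cancel (congrArg Subtype.val e))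
    obtain ⟨⟨v, hv⟩, e⟩ := Finite.injective_iff_surjective.mp hinj ⟨el i, i, rfl⟩
    have e' : W (gens.getD g []) * v = el i := congrArg Subtype.val e
    rw [← e']
    simpa using hv

theorem mem_table {els gens next : List (List ℕ)} {tree : List (ℕ × ℕ)} {n k : ℕ} (hn : 0 < n)
    (h : tableB els gens next tree n k = true) {x : M} :
    x ∈ genSub gens k ↔ ∃ i < n, W (els.getD i []) = x := by
  rw [← SetLike.mem_coe, tableB_spec hn h]
  exact ⟨fun ⟨i, e⟩ => ⟨i, i.2, e⟩, fun ⟨i, hi, e⟩ => ⟨⟨i, hi⟩, e⟩⟩

end Cfsg.Agent.McLRecog
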